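import Cfsg.Agent.Lib.PGroups.BSW.Basic
import Cfsg.Agent.Lib.TwoGroups.DihedralFusion
import Cfsg.Agent.Lib.Core.Cores
import Cfsg.Prelude.Def_CaseTheorems

/-!
# A dihedral Sylow 2-subgroup with small core gives a Brauer–Suzuki–Wall configuration
-/

set_option autoImplicit false

namespace CfsgLib.PGroups.BSW

open Subgroup
open scoped Pointwise
open CfsgLib.Signalizer (involution_sq involution_inv orderOf_eq_two_of orderOf_conj)

/-- A cyclic subgroup of index two of a dihedral group is inverted by everything outside it. -/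
theorem dihedral_cyclic_index_two {n : ℕ} (hn : 2 ≤ n) (T : Subgroup (DihedralGroup n))
    (hc : IsCyclic ↥T) (hT : Nat.card ↥T = n) :
    ∀ x ∉ T, x * x = 1 ∧ ∀ a ∈ T, x * a * x⁻¹ = a⁻¹ := by
  have : NeZero n := ⟨by omega⟩
  obtain ⟨⟨g, hg⟩, hgen⟩ := IsCyclic.exists_generator (α := ↥T)
  have hmem : ∀ a ∈ T, ∃ i : ℤ, g ^ i = a := fun a ha => by
    obtain ⟨i, hi⟩ := Subgroup.mem_zpowers_iff.mp (hgen ⟨a, ha⟩)
    exact ⟨i, congrArg Subtype.val hi⟩
  have hgo : orderOf g = n := by
    have h1 := orderOf_eq_card_of_forall_mem_zpowers hgen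
    rw [Subgroup.orderOf_mk, hT] at h1
    exact h1
  rcases eq_or_lt_of_le hn with h | h
  · subst h
    have hsq : ∀ x : DihedralGroup 2, x * x = 1 := by decide
    refine fun x _ => ⟨hsq x, fun a _ => ?_⟩
    have hcomm : ∀ x a : DihedralGroup 2, x * a * x⁻¹ = a⁻¹ := by decide
    exact hcomm x a
  · obtain ⟨i, hi⟩ : ∃ i, g = DihedralGroup.r i := by
      rcases g with i | i
      · exact ⟨i, rfl⟩
      · rw [DihedralGroup.orderOf_sr] at hgo; omega
    have hR : T = Subgroup.zpowers (DihedralGroup.r (1 : ZMod n)) := by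
      refine Subgroup.eq_of_le_of_card_ge (fun a ha => ?_) ?_
      · obtain ⟨j, hj⟩ := hmem a ha
        refine hj ▸ zpow_mem ?_ j
        exact Subgroup.mem_zpowers_iff.mpr ⟨(i.val : ℤ), by
          rw [zpow_natCast, DihedralGroup.r_one_pow, ZMod.natCast_zmod_val, hi]⟩
      · rw [Nat.card_zpowers, DihedralGroup.orderOf_r_one, hT]
    intro x hx
    obtain ⟨j, hj⟩ : ∃ j, x = DihedralGroup.sr j := by
      rcases x with j | j
      · refine absurd ?_ hx
        rw [hR]
        exact Subgroup.mem_zpowers_iff.mpr ⟨(j.val : ℤ), by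
          rw [zpow_natCast, DihedralGroup.r_one_pow, ZMod.natCast_zmod_val]⟩
      · exact ⟨j, rfl⟩
    subst hj
    refine ⟨by simp, fun a ha => ?_⟩
    obtain ⟨m, hm⟩ := hmem a ha
    have key : ∀ k : ZMod n, (DihedralGroup.sr j * DihedralGroup.r k * (DihedralGroup.sr j)⁻¹ :
        DihedralGroup n) = (DihedralGroup.r k)⁻¹ := fun k => by simp
    rw [← hm, hi, ← conj_zpow, key i, inv_zpow]

/-- A dihedral group of order `≥ 4` has a cyclic subgroup of index two through any central
involution. -/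
theorem exists_dihedral_cyclic {n : ℕ} (hn : 2 ≤ n) (z : DihedralGroup n) (hz : orderOf z = 2)
    (hzc : ∀ x, x * z = z * x) :
    ∃ T : Subgroup (DihedralGroup n), IsCyclic ↥T ∧ Nat.card ↥T = n ∧ z ∈ T := by
  have : NeZero n := ⟨by omega⟩
  rcases eq_or_lt_of_le hn with h | h
  · subst h
    exact ⟨Subgroup.zpowers z, inferInstance, by rw [Nat.card_zpowers, hz],
      Subgroup.mem_zpowers z⟩
  · refine ⟨Subgroup.zpowers (DihedralGroup.r (1 : ZMod n)), inferInstance,
      by rw [Nat.card_zpowers, DihedralGroup.orderOf_r_one], ?_⟩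
    rcases z with i | i
    · exact Subgroup.mem_zpowers_iff.mpr ⟨(i.val : ℤ), by
        rw [zpow_natCast, DihedralGroup.r_one_pow, ZMod.natCast_zmod_val]⟩
    · exfalso
      have h1 := hzc (DihedralGroup.r 1)
      rw [DihedralGroup.r_mul_sr, DihedralGroup.sr_mul_r] at h1
      injection h1 with h1
      have h2 : ((2 : ℕ) : ZMod n) = 0 := by push_cast; linear_combination -h1
      have h3 := Nat.le_of_dvd two_pos ((CharP.cast_eq_zero_iff (ZMod n) n 2).mp h2)
      omega

variable {G : Type*} [Group G] [Finite G]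

theorem exists_config [IsSimpleGroup G] (S : Sylow 2 G) (n : ℕ) (hn : 2 ≤ n)
    (e : (S : Subgroup G) ≃* DihedralGroup n) (t : G) (ht : orderOf t = 2)
    (htS : t ∈ (S : Subgroup G)) (htZ : ∀ s ∈ (S : Subgroup G), s * t = t * s) (O : Subgroup G)
    (hO : O = (Cfsg.oddCore (Subgroup.centralizer ({t} : Set G))).map
      (Subgroup.centralizer ({t} : Set G)).subtype)
    (ha : O ≠ ⊥ → IsCyclic ((S : Subgroup G) ⊓ Subgroup.centralizer (O : Set G) : Subgroup G) ∧
      ((S : Subgroup G) ⊓ Subgroup.centralizer (O : Set G)).relIndex (S : Subgroup G) = 2)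
    (hb : ∀ s ∈ (S : Subgroup G), s ∉ Subgroup.centralizer (O : Set G) → ∀ y ∈ O, s * y * s⁻¹ = y⁻¹)
    (hc : ∀ Y : Subgroup G, Y ≤ O → Y ≠ ⊥ →
      Subgroup.normalizer (Y : Set G) ≤ Subgroup.centralizer ({t} : Set G)) :
    ∃ (s : G) (K : Subgroup G), Config t s K := by
  classical
  set Cn := Subgroup.centralizer ({t} : Set G) with hCn
  have hOC : O ≤ Cn := hO ▸ Subgroup.map_subtype_le _
  have hOodd : Odd (Nat.card ↥O) := by
    rw [hO, Subgroup.card_map_of_injective Cn.subtype_injective]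
    exact Nat.coprime_two_right.1 (CfsgLib.Core.coprime_card_pPrimeCore 2 ↥Cn)
  have hOC' : ∀ y ∈ O, ∀ g ∈ Cn, g * y * g⁻¹ ∈ O := by
    intro y hy g hg
    rw [hO] at hy ⊢
    obtain ⟨y', hy', rfl⟩ := hy
    exact ⟨⟨g, hg⟩ * y' * (⟨g, hg⟩ : ↥Cn)⁻¹,
      (inferInstance : (Cfsg.oddCore ↥Cn).Normal).conj_mem y' hy' _, rfl⟩
  have hSC : (S : Subgroup G) ≤ Cn := fun x hx =>
    Subgroup.mem_centralizer_singleton_iff.mpr (htZ x hx)
  obtain ⟨j, hj⟩ := IsPGroup.iff_card.mp S.2
  have hcop : (Nat.card ↥O).Coprime (Nat.card ↥(S : Subgroup G)) := by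
    rw [hj]; exact Nat.Coprime.pow_right j (Nat.coprime_two_right.mpr hOodd)
  have hOS : ∀ x, x ∈ O → x ∈ (S : Subgroup G) → x = 1 := fun x h1 h2 =>
    orderOf_eq_one_iff.mp (Nat.eq_one_of_dvd_coprimes hcop (Subgroup.orderOf_dvd_natCard O h1)
      (Subgroup.orderOf_dvd_natCard _ h2))
  -- the cyclic half `T` of `S`
  obtain ⟨T, hTS, hTc, hTn, htT, hTO, hout⟩ : ∃ T : Subgroup G, T ≤ (S : Subgroup G) ∧ IsCyclic ↥T ∧
      Nat.card ↥T = n ∧ t ∈ T ∧ (∀ a ∈ T, ∀ y ∈ O, a * y = y * a) ∧
      ∀ x ∈ (S : Subgroup G), x ∉ T → ∀ y ∈ O, x * y * x⁻¹ = y⁻¹ := by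
    by_cases hO1 : O = ⊥
    · have hz : orderOf (e ⟨t, htS⟩) = 2 := by
        rw [MulEquiv.orderOf_eq, Subgroup.orderOf_mk, ht]
      have hzc : ∀ x, x * e ⟨t, htS⟩ = e ⟨t, htS⟩ * x := by
        intro x
        obtain ⟨y, rfl⟩ := e.surjective x
        rw [← map_mul, ← map_mul]
        exact congrArg e (Subtype.ext (htZ y y.2))
      obtain ⟨T₀, hc₀, hn₀, hz₀⟩ := exists_dihedral_cyclic hn _ hz hzc
      have hinj : Function.Injective ((S : Subgroup G).subtype.comp e.symm.toMonoidHom) :=
        (S : Subgroup G).subtype_injective.comp e.symm.injective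
      refine ⟨T₀.map ((S : Subgroup G).subtype.comp e.symm.toMonoidHom), ?_,
        (T₀.equivMapOfInjective _ hinj).isCyclic.mp hc₀, ?_, ?_, ?_, ?_⟩
      · rintro _ ⟨a, -, rfl⟩; exact (e.symm a).2
      · rw [Subgroup.card_map_of_injective hinj, hn₀]
      · exact ⟨_, hz₀, by simp⟩
      · intro a _ y hy; rw [hO1, Subgroup.mem_bot] at hy; subst hy; simp
      · intro x _ _ y hy; rw [hO1, Subgroup.mem_bot] at hy; subst hy; simp
    · obtain ⟨hcyc, hidx⟩ := ha hO1
      refine ⟨_, inf_le_left, hcyc, ?_, ⟨htS, ?_⟩, ?_, ?_⟩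
      · have h1 := Subgroup.card_mul_index
          (((S : Subgroup G) ⊓ Subgroup.centralizer (O : Set G)).subgroupOf (S : Subgroup G))
        rw [show (((S : Subgroup G) ⊓ Subgroup.centralizer (O : Set G)).subgroupOf
            (S : Subgroup G)).index = 2 from hidx,
          Nat.card_congr (Subgroup.subgroupOfEquivOfLe inf_le_left).toEquiv,
          Nat.card_congr e.toEquiv, DihedralGroup.nat_card] at h1
        omega
      · intro y hy
        exact Subgroup.mem_centralizer_singleton_iff.mp (hOC hy)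
      · exact fun a ha y hy => (ha.2 y hy).symm
      · exact fun x hx hxT y hy => hb x hx (fun h => hxT ⟨hx, h⟩) y hy
  -- the action of the elements of `S` outside `T`
  set T' := (T.subgroupOf (S : Subgroup G)).map e.toMonoidHom with hT'
  have hT'c : IsCyclic ↥T' := by
    have h1 : IsCyclic ↥(T.subgroupOf (S : Subgroup G)) :=
      (Subgroup.subgroupOfEquivOfLe hTS).isCyclic.mpr hTc
    exact ((T.subgroupOf (S : Subgroup G)).equivMapOfInjective _ e.injective).isCyclic.mp h1
  have hT'n : Nat.card ↥T' = n := by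
    rw [hT', Subgroup.card_map_of_injective e.injective,
      Nat.card_congr (Subgroup.subgroupOfEquivOfLe hTS).toEquiv, hTn]
  have hflip : ∀ x ∈ (S : Subgroup G), x ∉ T → x * x = 1 ∧ ∀ a ∈ T, x * a * x⁻¹ = a⁻¹ := by
    intro x hx hxT
    have hx' : e ⟨x, hx⟩ ∉ T' := by
      rintro ⟨a, ha, hae⟩
      have ha' : (a : G) ∈ T := Subgroup.mem_subgroupOf.mp ha
      rw [show a = ⟨x, hx⟩ from e.injective hae] at ha'
      exact hxT ha'
    obtain ⟨h1, h2⟩ := dihedral_cyclic_index_two hn T' hT'c hT'n _ hx'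
    refine ⟨congrArg Subtype.val (e.injective (a₁ := ⟨x, hx⟩ * ⟨x, hx⟩) (a₂ := 1)
      (by rw [map_mul, map_one, h1])), fun a haT => ?_⟩
    have h3 := h2 (e ⟨a, hTS haT⟩) ⟨⟨a, hTS haT⟩, Subgroup.mem_subgroupOf.mpr haT, rfl⟩
    rw [← map_inv, ← map_mul, ← map_mul, ← map_inv] at h3
    exact congrArg Subtype.val (e.injective h3)
  obtain ⟨s, hsS, hsT⟩ : ∃ s ∈ (S : Subgroup G), s ∉ T := by
    by_contra h
    push Not at h
    have h1 : Nat.card ↥(S : Subgroup G) ≤ Nat.card ↥T :=
      Nat.le_of_dvd Nat.card_pos (Subgroup.card_dvd_of_le h)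
    rw [hTn, Nat.card_congr e.toEquiv, DihedralGroup.nat_card] at h1
    omega
  obtain ⟨hss, hsinvT⟩ := hflip s hsS hsT
  have hsinvO := hout s hsS hsT
  have hs : orderOf s = 2 := orderOf_eq_two_of (fun e1 => hsT (e1 ▸ one_mem T)) hss
  set K := O ⊔ T with hK
  have hOcomm : ∀ a ∈ O, ∀ b ∈ O, a * b = b * a := by
    intro a ha b hb
    have h1 := hsinvO _ (mul_mem ha hb)
    rw [show s * (a * b) * s⁻¹ = s * a * s⁻¹ * (s * b * s⁻¹) by group, hsinvO a ha, hsinvO b hb,
      mul_inv_rev] at h1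
    calc a * b = (b⁻¹ * a⁻¹)⁻¹ := by group
      _ = (a⁻¹ * b⁻¹)⁻¹ := by rw [h1]
      _ = b * a := by group
  have hTcomm : ∀ a ∈ T, ∀ b ∈ T, a * b = b * a := fun a ha b hb => by
    have := hTc.isMulCommutative
    exact congrArg Subtype.val (this.is_comm.comm ⟨a, ha⟩ ⟨b, hb⟩)
  have hdec : ∀ x ∈ K, ∃ o ∈ O, ∃ a ∈ T, x = o * a := by
    intro x hx
    have hle : T ≤ Subgroup.normalizer (O : Set G) :=
      (show T ≤ Subgroup.centralizer (O : Set G) from fun a ha y hy => (hTO a ha y hy).symm).trans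
        (Subgroup.centralizer_le_normalizer _)
    have h1 : x ∈ (O : Set G) * (T : Set G) := by
      rw [← Subgroup.coe_mul_of_right_le_normalizer_left O T hle]; exact hx
    obtain ⟨o, ho, a, haT, rfl⟩ := h1
    exact ⟨o, ho, a, haT, rfl⟩
  have hKab : ∀ x ∈ K, ∀ y ∈ K, x * y = y * x := by
    intro x hx y hy
    obtain ⟨o, ho, a, haT, rfl⟩ := hdec x hx
    obtain ⟨o', ho', a', haT', rfl⟩ := hdec y hy
    calc o * a * (o' * a') = o * (a * o') * a' := by group
      _ = o * (o' * a) * a' := by rw [hTO a haT o' ho']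
      _ = o * o' * (a * a') := by group
      _ = o' * o * (a' * a) := by rw [hOcomm o ho o' ho', hTcomm a haT a' haT']
      _ = o' * (o * a') * a := by group
      _ = o' * (a' * o) * a := by rw [hTO a' haT' o ho]
      _ = o' * a' * (o * a) := by group
  have hinv : ∀ x ∈ K, s * x * s⁻¹ = x⁻¹ := by
    intro x hx
    obtain ⟨o, ho, a, haT, rfl⟩ := hdec x hx
    rw [show s * (o * a) * s⁻¹ = s * o * s⁻¹ * (s * a * s⁻¹) by group, hsinvO o ho, hsinvT a haT,
      mul_inv_rev, hTO a⁻¹ (inv_mem haT) o⁻¹ (inv_mem ho)]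
  have hsK : s ∉ K := by
    intro h
    obtain ⟨o, ho, a, haT, heq⟩ := hdec s h
    have : o = 1 := hOS o ho (by
      rw [show o = s * a⁻¹ by rw [heq, mul_inv_cancel_right]]
      exact mul_mem hsS (inv_mem (hTS haT)))
    exact hsT (by rw [heq, this, one_mul]; exact haT)
  have hKC : K ≤ Cn := sup_le hOC (hTS.trans hSC)
  have htK : t ∈ K := Subgroup.mem_sup_right htT
  have huniq : ∀ x ∈ K, x * x = 1 → x = 1 ∨ x = t := by
    intro x hx h2
    obtain ⟨o, ho, a, haT, rfl⟩ := hdec x hx
    have ho2 : o * o = (a * a)⁻¹ := eq_inv_of_mul_eq_one_left (by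
      calc o * o * (a * a) = o * (o * a) * a := by group
        _ = o * (a * o) * a := by rw [hTO a haT o ho]
        _ = o * a * (o * a) := by group
        _ = 1 := h2)
    have ho1 : o = 1 := by
      have h3 := hOS _ (mul_mem ho ho) (ho2 ▸ inv_mem (mul_mem (hTS haT) (hTS haT)))
      by_contra h4
      have h5 := Subgroup.orderOf_dvd_natCard O ho
      rw [orderOf_eq_two_of h4 h3] at h5
      exact (Nat.not_even_iff_odd.mpr hOodd) (even_iff_two_dvd.mpr h5)
    rw [ho1, one_mul] at h2 ⊢
    by_cases ha1 : a = 1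
    · exact Or.inl ha1
    right
    have := hTc
    have : Fintype ↥T := Fintype.ofFinite _
    have ht' : orderOf (⟨t, htT⟩ : ↥T) = 2 := by rw [Subgroup.orderOf_mk, ht]
    have ha' : orderOf (⟨a, haT⟩ : ↥T) = 2 := by
      rw [Subgroup.orderOf_mk]; exact orderOf_eq_two_of ha1 h2
    have h1 : (Finset.univ.filter fun b : ↥T => orderOf b = 2).card = 1 := by
      rw [IsCyclic.card_orderOf_eq_totient (ht' ▸ orderOf_dvd_card)]; rfl
    obtain ⟨c, hc⟩ := Finset.card_eq_one.mp h1
    have e1 : (⟨a, haT⟩ : ↥T) = c := Finset.mem_singleton.mp (hc ▸ by simp [ha'])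
    have e2 : (⟨t, htT⟩ : ↥T) = c := Finset.mem_singleton.mp (hc ▸ by simp [ht'])
    exact congrArg Subtype.val (e1.trans e2.symm)
  -- `C(t) = K⟨s⟩`
  obtain ⟨m, f, hm, -, hf, hfS⟩ := CfsgLib.TwoGroups.Dihedral.exists_model hn e
  obtain ⟨N, hN, hNcop, hNp⟩ := CfsgLib.Transfer.hasNormalPComplement_iff_exists.1
    (CfsgLib.TwoGroups.Dihedral.centralizer_complement hf hfS hm ht)
  obtain ⟨i, hi⟩ := IsPGroup.iff_card.1 hNp
  have hNO : N.map Cn.subtype ≤ O :=
    hO ▸ Subgroup.map_mono (CfsgLib.Core.le_pPrimeCore hNcop)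
  have hCeq : O ⊔ (S : Subgroup G) = Cn := by
    refine Subgroup.eq_of_le_of_card_ge (sup_le hOC hSC) ?_
    have hCc : Nat.card ↥Cn = Nat.card ↥N * 2 ^ i := by
      rw [← hi, ← Subgroup.index_eq_card, Subgroup.card_mul_index]
    have h1 : Nat.card ↥N ∣ Nat.card ↥(O ⊔ (S : Subgroup G)) := by
      rw [← Subgroup.card_map_of_injective Cn.subtype_injective (K := N)]
      exact Subgroup.card_dvd_of_le (hNO.trans le_sup_left)
    have h2 : Nat.card ↥(S : Subgroup G) ∣ Nat.card ↥(O ⊔ (S : Subgroup G)) :=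
      Subgroup.card_dvd_of_le le_sup_right
    have h3 : 2 ^ i ∣ Nat.card ↥(S : Subgroup G) := by
      rw [S.card_eq_multiplicity]
      refine (Nat.prime_two.pow_dvd_iff_dvd_ordProj Nat.card_pos.ne').mp ?_
      exact ((Dvd.intro_left _ hCc.symm).trans (Subgroup.card_subgroup_dvd_card Cn))
    rw [hCc]
    refine Nat.le_of_dvd Nat.card_pos ((Nat.Coprime.mul_dvd_of_dvd_of_dvd ?_ h1 (h3.trans h2)))
    exact Nat.Coprime.pow_right i hNcop
  have hH : K ⊔ Subgroup.zpowers s = Cn := by
    refine le_antisymm (sup_le hKC (Subgroup.zpowers_le.mpr (hSC hsS))) ?_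
    rw [← hCeq]
    refine sup_le (le_sup_left.trans le_sup_left) fun x hx => ?_
    by_cases hxT : x ∈ T
    · exact Subgroup.mem_sup_left (Subgroup.mem_sup_right hxT)
    · have hxs : x * s ∈ T := by
        by_contra hxs
        obtain ⟨h1, -⟩ := hflip x hx hxT
        obtain ⟨h2, h3⟩ := hflip (x * s) (mul_mem hx hsS) hxs
        have hcom : s * x * s⁻¹ = x := by
          rw [show s⁻¹ = s from inv_eq_of_mul_eq_one_right hss]
          calc s * x * s = x * x * (s * x * s) := by rw [h1, one_mul]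
            _ = x * (x * s * (x * s)) := by group
            _ = x := by rw [h2, mul_one]
        -- `x`, `s`, `x s` all invert `T`, so `T` has exponent two
        have hT2 : ∀ a ∈ T, a⁻¹ = a := fun a haT => by
          have e1 := h3 a haT
          rw [show x * s * a * (x * s)⁻¹ = x * (s * a * s⁻¹) * x⁻¹ by group, hsinvT a haT,
            (hflip x hx hxT).2 _ (inv_mem haT), inv_inv] at e1
          exact e1.symm
        have hn2 : n = 2 := by
          have := hTc
          obtain ⟨⟨g, hg⟩, hgen⟩ := IsCyclic.exists_generator (α := ↥T)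
          have h4 := orderOf_eq_card_of_forall_mem_zpowers hgen
          rw [Subgroup.orderOf_mk, hTn] at h4
          have h5 : orderOf g ∣ 2 := orderOf_dvd_of_pow_eq_one (by
            rw [pow_two]; nth_rewrite 1 [← hT2 g hg]; exact inv_mul_cancel g)
          rw [h4] at h5
          exact le_antisymm (Nat.le_of_dvd two_pos h5) hn
        -- in a group of order four the coset of `T` through `s` contains `x`
        have hidx : (T.subgroupOf (S : Subgroup G)).index = 2 := by
          have h4 := Subgroup.card_mul_index (T.subgroupOf (S : Subgroup G))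
          rw [Nat.card_congr (Subgroup.subgroupOfEquivOfLe hTS).toEquiv, hTn,
            Nat.card_congr e.toEquiv, DihedralGroup.nat_card, hn2] at h4
          omega
        exact hxs (Subgroup.mem_subgroupOf.mp ((Subgroup.mul_mem_iff_of_index_two hidx
          (a := ⟨x, hx⟩) (b := ⟨s, hsS⟩)).mpr (by simp [Subgroup.mem_subgroupOf, hxT, hsT])))
      rw [show x = x * s * s by rw [mul_assoc, hss, mul_one]]
      exact mul_mem (Subgroup.mem_sup_left (Subgroup.mem_sup_right hxs))
        (Subgroup.mem_sup_right (Subgroup.mem_zpowers s))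
  have hCK : K ⊓ Subgroup.centralizer ({s} : Set G) = Subgroup.zpowers t := by
    refine le_antisymm ?_ (Subgroup.zpowers_le.mpr
      ⟨htK, Subgroup.mem_centralizer_singleton_iff.mpr (htZ s hsS).symm⟩)
    rintro x ⟨hx, hxs⟩
    have h1 := hinv x hx
    rw [← Subgroup.mem_centralizer_singleton_iff.mp hxs, mul_inv_cancel_right] at h1
    rcases huniq x hx (mul_eq_one_iff_eq_inv.mpr h1) with rfl | rfl
    · exact one_mem _
    · exact Subgroup.mem_zpowers x
  have hconj : ∀ x y : G, orderOf x = 2 → orderOf y = 2 → IsConj x y := by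
    refine CfsgLib.TwoGroups.Dihedral.all_conj_of_no_index_two hf hfS hm fun M hM => ?_
    have : M.Normal := Subgroup.normal_of_index_eq_two hM
    rcases IsSimpleGroup.eq_bot_or_eq_top_of_normal M this with rfl | rfl
    · rw [Subgroup.index_bot] at hM
      have h1 := Subgroup.card_subgroup_dvd_card (S : Subgroup G)
      rw [hM, Nat.card_congr e.toEquiv, DihedralGroup.nat_card] at h1
      have := Nat.le_of_dvd two_pos h1
      omega
    · simp at hM
  -- trivial intersection
  have hTI : ∀ g : G, g ∉ Cn → K ⊓ K.map (MulAut.conj g).toMonoidHom = ⊥ := by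
    intro g hg
    rw [eq_bot_iff]
    rintro x ⟨hx, y, hy, hyx⟩
    rw [Subgroup.mem_bot]
    by_contra hx1
    have hyx' : g * y * g⁻¹ = x := hyx
    have hord : orderOf y = orderOf x := by rw [← hyx', orderOf_conj]
    refine hg ?_
    rw [Subgroup.mem_centralizer_singleton_iff]
    suffices g * t * g⁻¹ = t from mul_inv_eq_iff_eq_mul.mp this
    by_cases hev : Even (orderOf y)
    · have hpow : ∀ z ∈ K, Even (orderOf z) → z ^ (orderOf z / 2) = t := by
        intro z hz hze
        have h2 : orderOf (z ^ (orderOf z / 2)) = 2 :=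
          orderOf_pow_orderOf_div (orderOf_pos z).ne' (even_iff_two_dvd.mp hze)
        exact (huniq _ (pow_mem hz _) (involution_sq h2)).resolve_left
          (CfsgLib.Signalizer.involution_ne_one h2)
      calc g * t * g⁻¹ = g * y ^ (orderOf y / 2) * g⁻¹ := by rw [hpow y hy hev]
        _ = (g * y * g⁻¹) ^ (orderOf y / 2) := conj_pow.symm
        _ = x ^ (orderOf x / 2) := by rw [hyx', hord]
        _ = t := hpow x hx (hord ▸ hev)
    · have hcent : ∀ z ∈ K, z ≠ 1 → Odd (orderOf z) → Subgroup.centralizer ({z} : Set G) = K := by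
        intro z hz hz1 hzo
        have hzO : z ∈ O := by
          obtain ⟨o, ho, a, haT, rfl⟩ := hdec z hz
          obtain ⟨i', hi'⟩ := IsPGroup.iff_orderOf.mp S.2 ⟨a, hTS haT⟩
          rw [Subgroup.orderOf_mk] at hi'
          have hcom : Commute (o * a) o⁻¹ := hKab _ hz _ (inv_mem (Subgroup.mem_sup_left ho))
          have h1 : orderOf a ∣ orderOf (o * a) * orderOf o := by
            have := hcom.symm.orderOf_mul_dvd_lcm
            rw [inv_mul_cancel_left, orderOf_inv] at this
            exact this.trans ((Nat.lcm_comm _ _).dvd.trans (Nat.lcm_dvd_mul _ _))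
          have hodd : Odd (orderOf a) :=
            Odd.of_dvd_nat (hzo.mul (Odd.of_dvd_nat hOodd (Subgroup.orderOf_dvd_natCard O ho))) h1
          rcases i' with _ | i'
          · rw [pow_zero, orderOf_eq_one_iff] at hi'
            rw [hi', mul_one]; exact ho
          · rw [hi'] at hodd
            exact absurd hodd (by simp [Nat.odd_iff, pow_succ])
        refine le_antisymm (fun c hc' => ?_) fun c hcK =>
          Subgroup.mem_centralizer_singleton_iff.mpr (hKab c hcK z hz)
        have hcC : c ∈ Cn := hc (Subgroup.zpowers z) (Subgroup.zpowers_le.mpr hzO)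
          (fun e1 => hz1 (Subgroup.zpowers_eq_bot.mp e1))
          (Subgroup.centralizer_le_normalizer _ (by
            rw [Subgroup.mem_centralizer_iff]
            intro w hw
            obtain ⟨k, rfl⟩ := Subgroup.mem_zpowers_iff.mp hw
            exact (Commute.zpow_right (Subgroup.mem_centralizer_singleton_iff.mp hc' : Commute c z) k).symm.eq))
        rw [← hH] at hcC
        have hsKn : Subgroup.zpowers s ≤ Subgroup.normalizer (K : Set G) :=
          Subgroup.zpowers_le.mpr (Subgroup.mem_normalizer_iff.mpr fun w =>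
            ⟨fun hw => by rw [hinv w hw]; exact inv_mem hw, fun hw => by
              have h4 := hinv _ hw
              rw [show s * (s * w * s⁻¹) * s⁻¹ = s * s * w * (s * s)⁻¹ by group, hss, one_mul,
                inv_one, mul_one] at h4
              rw [h4]; exact inv_mem hw⟩)
        have h5 : c ∈ (K : Set G) * (Subgroup.zpowers s : Set G) := by
          rw [← Subgroup.coe_mul_of_right_le_normalizer_left K _ hsKn]; exact hcC
        obtain ⟨k, hk, w, hw, rfl⟩ := h5
        obtain ⟨r, rfl⟩ := Subgroup.mem_zpowers_iff.mp hw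
        rcases Int.even_or_odd r with ⟨r', rfl⟩ | ⟨r', rfl⟩
        · have : s ^ (r' + r') = 1 := by
            rw [← two_mul, zpow_mul, show s ^ (2 : ℤ) = 1 by rw [zpow_two, hss], one_zpow]
          show k * s ^ (r' + r') ∈ K
          rw [this, mul_one]; exact hk
        · exfalso
          have hsr : s ^ (2 * r' + 1) = s := by
            rw [zpow_add, zpow_mul, show s ^ (2 : ℤ) = 1 by rw [zpow_two, hss], one_zpow, one_mul,
              zpow_one]
          rw [hsr] at hc'
          have h6 : k * s * z * (k * s)⁻¹ = z := by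
            rw [Subgroup.mem_centralizer_singleton_iff.mp hc', mul_inv_cancel_right]
          rw [show k * s * z * (k * s)⁻¹ = k * (s * z * s⁻¹) * k⁻¹ by group, hinv z hz,
            hKab k hk z⁻¹ (inv_mem hz), mul_inv_cancel_right] at h6
          have h7 : orderOf z ∣ 2 := orderOf_dvd_of_pow_eq_one (by
            rw [pow_two]; nth_rewrite 1 [← h6]; exact inv_mul_cancel z)
          rcases (Nat.dvd_prime Nat.prime_two).mp h7 with h8 | h8
          · exact hz1 (orderOf_eq_one_iff.mp h8)
          · rw [h8] at hzo; exact absurd hzo (by decide)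
      have hy1 : y ≠ 1 := fun e1 => hx1 (by rw [← hyx', e1]; group)
      have e1 := hcent y hy hy1 (Nat.not_even_iff_odd.mp hev)
      have e2 := hcent x hx hx1 (hord ▸ Nat.not_even_iff_odd.mp hev)
      have hgt : g * t * g⁻¹ ∈ K := by
        rw [← e2, Subgroup.mem_centralizer_singleton_iff, ← hyx']
        calc g * t * g⁻¹ * (g * y * g⁻¹) = g * (t * y) * g⁻¹ := by group
          _ = g * (y * t) * g⁻¹ := by rw [hKab t htK y hy]
          _ = g * y * g⁻¹ * (g * t * g⁻¹) := by group
      refine (huniq _ hgt ?_).resolve_left fun e3 => ?_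
      · rw [show g * t * g⁻¹ * (g * t * g⁻¹) = g * (t * t) * g⁻¹ by group, involution_sq ht,
          mul_one, mul_inv_cancel]
      · exact CfsgLib.Signalizer.involution_ne_one ht (conj_eq_one_iff.mp e3)
  exact ⟨s, K, ⟨ht, ⟨⟨fun a b => Subtype.ext (hKab _ a.2 _ b.2)⟩⟩, hKC, htK, hs, hSC hsS, hsK, hH,
    hCK, hinv, hTI, hconj⟩⟩

end CfsgLib.PGroups.BSW
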