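import Cfsg.Agent.Lib.PGroups.BSW.Main
import Cfsg.Agent.Lib.Perm.ZassenhausAbelianMain

/-!
# The groups of the Brauer–Suzuki–Wall theorem as Zassenhaus groups
-/

set_option autoImplicit false

namespace CfsgLib.PGroups.BSW

open Subgroup
open scoped Pointwise

variable {G : Type*} [Group G] [Finite G] [IsSimpleGroup G] {Q D : Subgroup G}

/-- A simple group has order different from `12`. -/
theorem card_ne_twelve : Nat.card G ≠ 12 := by
  intro h
  have := Fact.mk Nat.prime_two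
  have : Fintype (Sylow 2 G) := Fintype.ofFinite _
  let P : Sylow 2 G := default
  have h4 : Nat.card ↥(P : Subgroup G) = 4 := by
    rw [P.card_eq_multiplicity, h, show (12 : ℕ) = 2 ^ 2 * 3 by norm_num,
      Nat.factorization_mul (by norm_num) (by norm_num), Finsupp.add_apply,
      Nat.factorization_pow_self Nat.prime_two,
      Nat.factorization_eq_zero_of_not_dvd (by norm_num : ¬ 2 ∣ 3)]
    norm_num
  have hidx : (P : Subgroup G).index = 3 := by
    have h1 := (P : Subgroup G).card_mul_index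
    rw [h4, h] at h1
    omega
  have hdvd := P.card_dvd_index
  rw [hidx, Nat.dvd_prime Nat.prime_three] at hdvd
  rcases hdvd with h1 | h3
  · have : Subsingleton (Sylow 2 G) := (Nat.card_eq_one_iff_unique.mp h1).1
    have hn : (P : Subgroup G).Normal := P.normal_of_subsingleton
    rcases IsSimpleGroup.eq_bot_or_eq_top_of_normal _ hn with e | e
    · rw [e, Subgroup.card_bot] at h4; omega
    · rw [e, Subgroup.card_top] at h4; omega
  · rcases IsSimpleGroup.eq_bot_or_eq_top_of_normal (MulAction.toPermHom G (Sylow 2 G)).ker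
      inferInstance with e | e
    · have hle := Nat.card_le_card_of_injective _ ((MonoidHom.ker_eq_bot_iff _).mp e)
      rw [h, Nat.card_perm, h3] at hle
      norm_num [Nat.factorial] at hle
    · have : Subsingleton (Sylow 2 G) := ⟨fun A B => by
        obtain ⟨g, rfl⟩ := MulAction.exists_smul_eq G A B
        have h0 : g ∈ (MulAction.toPermHom G (Sylow 2 G)).ker := by rw [e]; exact Subgroup.mem_top g
        have hg : MulAction.toPermHom G (Sylow 2 G) g = 1 := MonoidHom.mem_ker.mp h0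
        exact (Equiv.congr_fun hg A).symm⟩
      have h1 : Nat.card (Sylow 2 G) ≤ 1 := Finite.card_le_one_iff_subsingleton.mpr this
      omega

/-- A simple group with the conclusion of the theorem is a `PSL(2, F)`. -/
theorem Conclusion.exists_psl (h : Conclusion Q D) :
    ∃ (F : Type) (_ : Field F) (_ : Fintype F), Odd (Fintype.card F) ∧
      Nonempty (G ≃* Matrix.ProjectiveSpecialLinearGroup (Fin 2) F) := by
  classical
  have := Fintype.ofFinite G
  set q := Nat.card ↥Q with hq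
  set N := Subgroup.normalizer (Q : Set G) with hN
  have hQN : Q ≤ N := Subgroup.le_normalizer
  have hDN : D ≤ N := (le_sup_right : D ≤ Q ⊔ D).trans_eq h.norm_eq.symm
  have hQab : ∀ a ∈ Q, ∀ b ∈ Q, a * b = b * a := by
    intro a ha b hb
    rcases eq_or_ne b 1 with rfl | hb1
    · simp
    · exact Subgroup.mem_centralizer_singleton_iff.mp ((h.cent b hb hb1).symm ▸ ha)
  have hdec : ∀ x ∈ N, ∃ a ∈ Q, ∃ d ∈ D, x = a * d := by
    intro x hx
    rw [hN, h.norm_eq] at hx
    have h1 : x ∈ (Q : Set G) * (D : Set G) := by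
      rw [← Subgroup.coe_mul_of_right_le_normalizer_left Q D hDN]; exact hx
    obtain ⟨a, ha, d, hd, rfl⟩ := h1
    exact ⟨a, ha, d, hd, rfl⟩
  have hNc : Nat.card ↥N = q * Nat.card ↥D := by
    rw [hq, ← Nat.card_prod]
    refine (Nat.card_eq_of_bijective
      (fun x : ↥Q × ↥D => (⟨(x.1 : G) * x.2, mul_mem (hQN x.1.2) (hDN x.2.2)⟩ : ↥N)) ⟨?_, ?_⟩).symm
    · rintro ⟨a, d⟩ ⟨a', d'⟩ e
      have e' : (a : G) * d = a' * d' := congrArg Subtype.val e
      have h1 : (a' : G)⁻¹ * a = d' * (d : G)⁻¹ := by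
        calc (a' : G)⁻¹ * a = (a' : G)⁻¹ * (a * d) * (d : G)⁻¹ := by group
          _ = d' * (d : G)⁻¹ := by rw [e']; group
      have h2 : (a' : G)⁻¹ * a ∈ Q ⊓ D :=
        Subgroup.mem_inf.mpr ⟨mul_mem (inv_mem a'.2) a.2, h1 ▸ mul_mem d'.2 (inv_mem d.2)⟩
      rw [h.inf_eq, Subgroup.mem_bot] at h2
      have ea : a = a' := Subtype.ext (inv_mul_eq_one.mp h2).symm
      subst ea
      exact Prod.ext rfl (Subtype.ext (mul_left_cancel e'))
    · rintro ⟨x, hx⟩
      obtain ⟨a, ha, d, hd, rfl⟩ := hdec x hx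
      exact ⟨(⟨a, ha⟩, ⟨d, hd⟩), rfl⟩
  obtain ⟨d, hd⟩ : ∃ d, Nat.card ↥D = d := ⟨_, rfl⟩
  have hqd : 2 * d + 1 = q := hd ▸ h.card_D
  have hdpos : 0 < d := hd ▸ Nat.card_pos
  have hcard : Nat.card G = q * (q + 1) * d := by
    have h1 := h.card_eq
    rw [← hq, show q - 1 = 2 * d by omega] at h1
    linarith
  have hidx : N.index = q + 1 := by
    have h1 := N.card_mul_index
    rw [hNc, hd, hcard] at h1
    exact Nat.eq_of_mul_eq_mul_left (Nat.mul_pos (by omega : 0 < q) hdpos) (by rw [h1]; ring)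
  -- `d = 1` would give the order twelve
  have hD1 : D ≠ ⊥ := by
    intro e
    rw [e, Subgroup.card_bot] at hd
    subst hd
    rw [← hqd] at hcard
    exact card_ne_twelve (G := G) hcard
  obtain ⟨-, u, hu, huD, huinv, -⟩ := h.norm_sub D le_rfl hD1
  have hcop : q.Coprime d := by
    rw [← hqd]; exact Nat.coprime_comm.mp (by simp [Nat.coprime_mul_left_add_right, Nat.mul_comm 2 d])
  -- elements of `N` of order dividing `q` lie in `Q`
  have hmemQ : ∀ x ∈ N, orderOf x ∣ q → x ∈ Q := by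
    intro x hx hxo
    have : (Q.subgroupOf N).Normal := Subgroup.normal_in_normalizer
    have hi : (Q.subgroupOf N).index = d := by
      have h1 := (Q.subgroupOf N).card_mul_index
      rw [Nat.card_congr (Subgroup.subgroupOfEquivOfLe hQN).toEquiv, hNc, hd, ← hq] at h1
      exact Nat.eq_of_mul_eq_mul_left (by omega : 0 < q) h1
    have h1 : x ^ d ∈ Q := by
      have := Subgroup.pow_index_mem (Q.subgroupOf N) (⟨x, hx⟩ : ↥N)
      rw [hi] at this
      exact Subgroup.mem_subgroupOf.mp this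
    obtain ⟨k, hk⟩ := exists_pow_eq_self_of_coprime (hcop.symm.coprime_dvd_right hxo)
    rw [← hk]
    exact pow_mem h1 k
  -- `Q` acts freely off its own point
  set o : G ⧸ N := ((1 : G) : G ⧸ N) with ho
  have hfix : ∀ x : G, x • o = o ↔ x ∈ N := fun x => by
    rw [ho, MulAction.Quotient.smul_coe, smul_eq_mul, mul_one, eq_comm, QuotientGroup.eq, inv_one,
      one_mul]
  have hfree : ∀ a ∈ Q, a ≠ 1 → ∀ z : G ⧸ N, a • z = z → z = o := by
    intro a ha ha1 z hz
    obtain ⟨g, rfl⟩ := QuotientGroup.mk_surjective z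
    rw [MulAction.Quotient.smul_coe, smul_eq_mul, eq_comm, QuotientGroup.eq, ← mul_assoc] at hz
    have hb : g⁻¹ * a * g ∈ Q := hmemQ _ hz (by
      have := CfsgLib.Signalizer.orderOf_conj g⁻¹ a
      rw [inv_inv] at this
      rw [this]
      exact Subgroup.orderOf_dvd_natCard Q ha)
    have hb1 : g⁻¹ * a * g ≠ 1 := fun e => ha1 (by
      calc a = g * (g⁻¹ * a * g) * g⁻¹ := by group
        _ = 1 := by rw [e]; group)
    have hgN : g ∈ N := mem_normalizer_of_conj_mem (m := q) rfl hQab hb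
      (by rw [show g * (g⁻¹ * a * g) * g⁻¹ = a by group]; exact ha)
      (by rw [h.cent _ hb hb1])
      (by rw [show g * (g⁻¹ * a * g) * g⁻¹ = a by group, h.cent a ha ha1])
    rw [ho, QuotientGroup.eq, mul_one]
    exact inv_mem hgN
  have : Fintype (G ⧸ N) := Fintype.ofFinite _
  have hΩ : Fintype.card (G ⧸ N) = q + 1 := by
    rw [← Nat.card_eq_fintype_card]; exact hidx
  -- and transitively
  have hreg : ∀ y z : G ⧸ N, y ≠ o → z ≠ o → ∃! a : ↥Q, (a : G) • y = z := by
    intro y z hy hz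
    have hmem : ∀ a : ↥Q, (a : G) • y ≠ o := fun a e =>
      hy (MulAction.injective (a : G) (e.trans ((hfix a).mpr (hQN a.2)).symm))
    have hinj : Function.Injective
        (fun a : ↥Q => (⟨(a : G) • y, hmem a⟩ : {c : G ⧸ N // c ≠ o})) := by
      intro a b e
      have e' : (a : G) • y = (b : G) • y := congrArg Subtype.val e
      by_contra hne
      exact hy (hfree _ (b⁻¹ * a : ↥Q).2 (fun e1 => hne (inv_mul_eq_one.mp (Subtype.ext e1)).symm) y
        (by rw [Subgroup.coe_mul, Subgroup.coe_inv, mul_smul, e', inv_smul_smul]))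
    have hX : Nat.card {c : G ⧸ N // c ≠ o} = q := by
      rw [Nat.card_eq_fintype_card, Fintype.card_subtype_compl, Fintype.card_subtype_eq, hΩ]
      omega
    obtain ⟨a, ha⟩ := (hinj.bijective_of_nat_card_le (hX.trans hq).le).2 ⟨z, hz⟩
    refine ⟨a, congrArg Subtype.val ha, fun b hb => hinj (Subtype.ext ?_)⟩
    exact hb.trans (congrArg Subtype.val ha).symm
  -- `D` fixes a second point `o'`
  have huN : u ∉ N := by
    intro huN
    obtain ⟨a, ha, d₀, hd₀, he⟩ := hdec u huN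
    rcases eq_or_ne a 1 with rfl | ha1
    · exact huD (by rw [he, one_mul]; exact hd₀)
    obtain ⟨⟨b, hbD⟩, hb1⟩ := Subgroup.ne_bot_iff_exists_ne_one.mp hD1
    have hb1' : b ≠ 1 := fun e => hb1 (Subtype.ext e)
    have hconjD : a * b * a⁻¹ ∈ D := by
      have e1 : a = u * d₀⁻¹ := by rw [he, mul_inv_cancel_right]
      rw [e1, show u * d₀⁻¹ * b * (u * d₀⁻¹)⁻¹ = u * (d₀⁻¹ * b * d₀) * u⁻¹ by group,
        huinv _ (mul_mem (mul_mem (inv_mem hd₀) hbD) hd₀)]
      exact inv_mem (mul_mem (mul_mem (inv_mem hd₀) hbD) hd₀)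
    have hcQ : a * b * a⁻¹ * b⁻¹ ∈ Q := by
      rw [show a * b * a⁻¹ * b⁻¹ = a * (b * a⁻¹ * b⁻¹) by group]
      exact mul_mem ha ((Subgroup.mem_normalizer_iff.mp (hDN hbD) a⁻¹).mp (inv_mem ha))
    have h1 : a * b * a⁻¹ * b⁻¹ ∈ Q ⊓ D := Subgroup.mem_inf.mpr ⟨hcQ, mul_mem hconjD (inv_mem hbD)⟩
    rw [h.inf_eq, Subgroup.mem_bot] at h1
    have h2 : b ∈ Subgroup.centralizer ({a} : Set G) :=
      Subgroup.mem_centralizer_singleton_iff.mpr
        ((mul_inv_eq_iff_eq_mul.mp (mul_inv_eq_one.mp h1)).symm)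
    rw [h.cent a ha ha1] at h2
    have h3 : b ∈ Q ⊓ D := ⟨h2, hbD⟩
    rw [h.inf_eq, Subgroup.mem_bot] at h3
    exact hb1' h3
  set o' : G ⧸ N := u • o with ho'
  have hoo' : o' ≠ o := fun e => huN ((hfix u).mp e)
  have hDfix : ∀ x ∈ D, x • o' = o' := by
    intro x hx
    have e : x * u = u * x⁻¹ := by
      have h1 := huinv x⁻¹ (inv_mem hx)
      rw [inv_inv] at h1
      exact (mul_inv_eq_iff_eq_mul.mp h1).symm
    rw [ho', ← mul_smul, e, mul_smul, (hfix x⁻¹).mpr (hDN (inv_mem hx))]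
  have hstab : ∀ g ∈ N, g • o' = o' → g ∈ D := by
    intro g hg hgo
    obtain ⟨a, ha, x, hx, rfl⟩ := hdec g hg
    rw [mul_smul, hDfix x hx] at hgo
    by_cases ha1 : a = 1
    · rw [ha1, one_mul]; exact hx
    · exact absurd (hfree a ha ha1 o' hgo) hoo'
  have htrans : ∀ z : G ⧸ N, ∃ g : G, g • z = o := fun z => MulAction.exists_smul_eq G z o
  have hZ : Cfsg.IsZassenhausGroup G (G ⧸ N) := by
    refine ⟨⟨fun {g g'} e => ?_⟩, MulAction.is_two_pretransitive_iff.mpr ?_, ?_, ?_, ?_⟩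
    · have hk : g'⁻¹ * g ∈ (MulAction.toPermHom G (G ⧸ N)).ker :=
        MonoidHom.mem_ker.mpr (Equiv.ext fun x => by
          show (g'⁻¹ * g) • x = x
          rw [mul_smul, e, inv_smul_smul])
      rcases IsSimpleGroup.eq_bot_or_eq_top_of_normal (MulAction.toPermHom G (G ⧸ N)).ker
        inferInstance with e1 | e1
      · rw [e1, Subgroup.mem_bot] at hk
        exact (inv_mul_eq_one.mp hk).symm
      · exfalso
        have h0 : u ∈ (MulAction.toPermHom G (G ⧸ N)).ker := by rw [e1]; exact Subgroup.mem_top u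
        have h1 : u • o = o := Equiv.congr_fun (MonoidHom.mem_ker.mp h0) o
        exact huN ((hfix u).mp h1)
    · intro a b c e hab hce
      obtain ⟨g₁, hg₁⟩ := htrans a
      obtain ⟨g₂, hg₂⟩ := htrans c
      obtain ⟨r, hr, -⟩ := hreg (g₁ • b) (g₂ • e)
        (fun e1 => hab (MulAction.injective g₁ (hg₁.trans e1.symm)))
        (fun e1 => hce (MulAction.injective g₂ (hg₂.trans e1.symm)))
      refine ⟨g₂⁻¹ * r * g₁, ?_, ?_⟩
      · rw [mul_smul, mul_smul, hg₁, (hfix r).mpr (hQN r.2), ← hg₂, inv_smul_smul]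
      · rw [mul_smul, mul_smul, hr, inv_smul_smul]
    · intro g a b c hab hbc hac hga hgb hgc
      obtain ⟨k₁, hk₁⟩ := htrans a
      obtain ⟨r, hr, -⟩ := hreg (k₁ • b) o'
        (fun e1 => hab (MulAction.injective k₁ (hk₁.trans e1.symm))) hoo'
      set k := (r : G) * k₁ with hk
      have hka : k • a = o := by rw [hk, mul_smul, hk₁, (hfix r).mpr (hQN r.2)]
      have hkb : k • b = o' := by rw [hk, mul_smul, hr]
      set g' := k * g * k⁻¹ with hg'
      have hfix' : ∀ z : G ⧸ N, g • z = z → g' • (k • z) = k • z := fun z hz => by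
        rw [hg', mul_smul, mul_smul, inv_smul_smul, hz]
      have h1 : g' ∈ D := hstab g' ((hfix g').mp (hka ▸ hfix' a hga)) (hkb ▸ hfix' b hgb)
      obtain ⟨m, hm, -⟩ := hreg o' (k • c) hoo'
        (fun e1 => hac (MulAction.injective k (hka.trans e1.symm)))
      have hm1 : (m : G) ≠ 1 := fun e1 => hbc (MulAction.injective k
        (show k • b = k • c by rw [hkb, ← hm, e1, one_smul]))
      have h2 : g' * m * g'⁻¹ ∈ Q := (Subgroup.mem_normalizer_iff.mp (hDN h1) m).mp m.2
      have h3 : (g' * m * g'⁻¹) • o' = (m : G) • o' := by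
        rw [mul_smul, mul_smul, hDfix g'⁻¹ (inv_mem h1), hm]
        exact hfix' c hgc
      obtain ⟨w, -, hw⟩ := hreg o' ((m : G) • o') hoo' (hm ▸ fun e1 =>
        hac (MulAction.injective k (hka.trans e1.symm)))
      have h4 : g' * m * g'⁻¹ = (m : G) :=
        congrArg Subtype.val ((hw ⟨_, h2⟩ h3).trans (hw m rfl).symm)
      have h5 : g' ∈ Subgroup.centralizer ({(m : G)} : Set G) :=
        Subgroup.mem_centralizer_singleton_iff.mpr (mul_inv_eq_iff_eq_mul.mp h4)
      rw [h.cent m m.2 hm1] at h5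
      have h6 : g' ∈ Q ⊓ D := ⟨h5, h1⟩
      rw [h.inf_eq, Subgroup.mem_bot] at h6
      exact conj_eq_one_iff.mp h6
    · obtain ⟨⟨x, hx⟩, hx1⟩ := Subgroup.ne_bot_iff_exists_ne_one.mp hD1
      exact ⟨x, fun e => hx1 (Subtype.ext e), o, o', hoo'.symm, (hfix x).mpr (hDN hx), hDfix x hx⟩
    · intro M hM htr
      rcases IsSimpleGroup.eq_bot_or_eq_top_of_normal M hM with rfl | rfl
      · exfalso
        obtain ⟨⟨x, hx⟩, hxo⟩ := htr.exists_smul_eq o o'
        have hxo' : x • o = o' := hxo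
        rw [Subgroup.mem_bot.mp hx, one_smul] at hxo'
        exact hoo' hxo'.symm
      · obtain ⟨⟨x, hx⟩, hx1⟩ := Subgroup.ne_bot_iff_exists_ne_one.mp hD1
        refine ⟨o, Subgroup.ne_bot_iff_exists_ne_one.mpr
          ⟨⟨⟨x, Subgroup.mem_top x⟩, (hfix x).mpr (hDN hx)⟩, fun e => hx1 ?_⟩⟩
        exact Subtype.ext (congrArg (fun v => ((v : (⊤ : Subgroup G)) : G)) (congrArg Subtype.val e))
  have hQab' : IsMulCommutative ↥Q := ⟨⟨fun a b => Subtype.ext (hQab _ a.2 _ b.2)⟩⟩
  rcases CfsgLib.Perm.zass_abelian_kernel_classify hZ o Q (fun a ha => (hfix a).mpr (hQN ha)) hQab'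
    hreg with ⟨h3, -⟩ | ⟨F, iF, iFt, hchar, hiso⟩
  · exfalso
    -- a sharply triple transitive group has twice as many elements
    have h2le : 2 ≤ Fintype.card (G ⧸ N) := by omega
    have hemb : ∀ z : G ⧸ N, z ≠ o → z ≠ o' →
        ∃ f : Fin 3 ↪ G ⧸ N, f 0 = o ∧ f 1 = o' ∧ f 2 = z := fun z h1 h2 =>
      ⟨⟨![o, o', z], fun i j hij => by
        fin_cases i <;> fin_cases j <;>
          first
          | rfl
          | exact absurd hij hoo'
          | exact absurd hij.symm hoo'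
          | exact absurd hij h1
          | exact absurd hij.symm h1
          | exact absurd hij h2
          | exact absurd hij.symm h2⟩, rfl, rfl, rfl⟩
    have htr3 : ∀ z : G ⧸ N, z ≠ o → z ≠ o' → ∀ z' : G ⧸ N, z' ≠ o → z' ≠ o' →
        ∃ x ∈ D, x • z = z' := by
      intro z hz1 hz2 z' hz1' hz2'
      obtain ⟨f, f0, f1, f2⟩ := hemb z hz1 hz2
      obtain ⟨f', f0', f1', f2'⟩ := hemb z' hz1' hz2'
      obtain ⟨g, hg⟩ := h3.exists_smul_eq f f'
      have hgi : ∀ i, g • f i = f' i := fun i => DFunLike.congr_fun hg i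
      have e0 : g • o = o := by simpa [f0, f0'] using hgi 0
      have e1 : g • o' = o' := by simpa [f1, f1'] using hgi 1
      exact ⟨g, hstab g ((hfix g).mp e0) e1, by simpa [f2, f2'] using hgi 2⟩
    have hX : Nat.card {c : G ⧸ N // c ≠ o ∧ c ≠ o'} = q - 1 := by
      rw [Nat.card_eq_fintype_card, Fintype.card_subtype,
        show (Finset.univ.filter fun c : G ⧸ N => c ≠ o ∧ c ≠ o') = Finset.univ \ {o, o'} by
          ext c; simp,
        Finset.card_sdiff_of_subset (Finset.subset_univ _), Finset.card_pair hoo'.symm,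
        Finset.card_univ, hΩ]
      omega
    have hne : Nonempty {c : G ⧸ N // c ≠ o ∧ c ≠ o'} := (Nat.card_ne_zero.mp (by rw [hX]; omega)).1
    obtain ⟨⟨z₀, hz0, hz0'⟩⟩ := hne
    have hle : q - 1 ≤ d := by
      rw [← hX, ← hd]
      refine Nat.card_le_card_of_surjective
        (fun x : ↥D => (⟨(x : G) • z₀, ?_, ?_⟩ : {c : G ⧸ N // c ≠ o ∧ c ≠ o'})) ?_
      · exact fun e => hz0 (MulAction.injective (x : G) (e.trans ((hfix x).mpr (hDN x.2)).symm))
      · exact fun e => hz0' (MulAction.injective (x : G) (e.trans (hDfix x x.2).symm))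
      · rintro ⟨z, hz, hz'⟩
        obtain ⟨x, hx, e⟩ := htr3 z₀ hz0 hz0' z hz hz'
        exact ⟨⟨x, hx⟩, Subtype.ext e⟩
    omega
  · exact ⟨F, iF, iFt, Nat.odd_iff.mpr (FiniteField.odd_card_of_char_ne_two hchar), hiso⟩

end CfsgLib.PGroups.BSW
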