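import Cfsg.Agent.Lib.PGroups.BSW.Facts

/-!
# Centralizers of the elements of types `q` and `l`
-/

set_option autoImplicit false

namespace CfsgLib.PGroups.BSW

open Subgroup
open CfsgLib.Signalizer (InvPairs orderOf_conj involution_inv involution_sq)

variable {G : Type*} [Group G]

/-- Some involution inverts `z`. -/
def IsInverted (z : G) : Prop := ∃ u : G, orderOf u = 2 ∧ u * z * u⁻¹ = z⁻¹

theorem centralizer_conj_mem {g z w : G} (hw : w ∈ Subgroup.centralizer ({z} : Set G)) :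
    g * w * g⁻¹ ∈ Subgroup.centralizer ({g * z * g⁻¹} : Set G) := by
  rw [Subgroup.mem_centralizer_singleton_iff] at hw ⊢
  calc g * w * g⁻¹ * (g * z * g⁻¹) = g * (w * z) * g⁻¹ := by group
    _ = g * (z * w) * g⁻¹ := by rw [hw]
    _ = g * z * g⁻¹ * (g * w * g⁻¹) := by group

/-- An involution acting without fixed points on a finite subgroup inverts it. -/
theorem inverts_of_fpf [Finite G] (A : Subgroup G) {u : G} (hu : u * u = 1)
    (hnorm : ∀ a ∈ A, u * a * u⁻¹ ∈ A) (hfix : ∀ a ∈ A, u * a * u⁻¹ = a → a = 1) :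
    ∀ a ∈ A, u * a * u⁻¹ = a⁻¹ := by
  have hinj : Function.Injective
      (fun a : ↥A => (⟨(a : G)⁻¹ * (u * a * u⁻¹), mul_mem (inv_mem a.2) (hnorm a a.2)⟩ : ↥A)) := by
    intro a b h
    have h' : (a : G)⁻¹ * (u * a * u⁻¹) = (b : G)⁻¹ * (u * b * u⁻¹) := congrArg Subtype.val h
    have hfx : u * ((b : G) * (a : G)⁻¹) * u⁻¹ = (b : G) * (a : G)⁻¹ := by
      calc u * ((b : G) * (a : G)⁻¹) * u⁻¹
          = b * ((b : G)⁻¹ * (u * b * u⁻¹)) * ((a : G)⁻¹ * (u * a * u⁻¹))⁻¹ * (a : G)⁻¹ := by group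
        _ = _ := by rw [h']; group
    exact Subtype.ext (mul_inv_eq_one.mp (hfix _ (mul_mem b.2 (inv_mem a.2)) hfx)).symm
  intro y hy
  obtain ⟨a, ha⟩ := (Finite.injective_iff_surjective.mp hinj) ⟨y, hy⟩
  have ha' : (a : G)⁻¹ * (u * a * u⁻¹) = y := congrArg Subtype.val ha
  rw [← ha']
  have hu' : u⁻¹ = u := inv_eq_of_mul_eq_one_right hu
  simp only [mul_inv_rev, inv_inv, hu', mul_assoc, hu, mul_one]

/-- A subgroup inverted by one element is abelian. -/
theorem commute_of_inverted (A : Subgroup G) {u : G} (h : ∀ a ∈ A, u * a * u⁻¹ = a⁻¹)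
    {a b : G} (ha : a ∈ A) (hb : b ∈ A) : a * b = b * a := by
  have h1 := h _ (mul_mem ha hb)
  rw [show u * (a * b) * u⁻¹ = u * a * u⁻¹ * (u * b * u⁻¹) by group, h a ha, h b hb, mul_inv_rev] at h1
  calc a * b = (b⁻¹ * a⁻¹)⁻¹ := by group
    _ = (a⁻¹ * b⁻¹)⁻¹ := by rw [h1]
    _ = b * a := by group

theorem card_invPairs_conj (g z : G) :
    Nat.card (InvPairs (g * z * g⁻¹)) = Nat.card (InvPairs z) := by
  refine (Nat.card_congr ((Equiv.prodCongr (MulAut.conj g).toEquiv (MulAut.conj g).toEquiv).subtypeEquiv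
    fun p => ?_)).symm
  simp only [Equiv.prodCongr_apply, Prod.map, MulEquiv.toEquiv_eq_coe, MulEquiv.coe_toEquiv,
    MulAut.conj_apply, orderOf_conj]
  refine and_congr_right fun _ => and_congr_right fun _ => ?_
  rw [show g * p.1 * g⁻¹ * (g * p.2 * g⁻¹) = g * (p.1 * p.2) * g⁻¹ by group]
  exact ⟨fun h => by rw [h], fun h => mul_left_cancel (mul_right_cancel h)⟩

theorem isInverted_of_card_ne_zero {z : G} (h : Nat.card (InvPairs z) ≠ 0) : IsInverted z := by
  obtain ⟨p⟩ := (Nat.card_ne_zero.mp h).1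
  exact ⟨p.1.1, p.2.1, CfsgLib.Signalizer.pair_fst_inverts p.2.1 p.2.2.1 p.2.2.2⟩

namespace Config

variable {t s : G} {K : Subgroup G} (C : Config t s K)

local notation "H" => Subgroup.centralizer (Singleton.singleton t : Set G)

include C

/-- Conjugates of `C(z)` for `z` of type `m`. -/
theorem cent_card_dvd [Finite G] {m m' : ℕ} (hg : Nat.card G = 2 * Nat.card ↥K * m * m')
    (hm : m.Coprime (2 * Nat.card ↥K)) (hm' : m'.Coprime (2 * Nat.card ↥K)) (hmm : m.Coprime m')
    (htri : ∀ z : G, z ≠ 1 → ConjInto K z ∨ OfType m z ∨ OfType m' z)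
    {z : G} (hz : OfType m z) :
    Nat.card ↥(Subgroup.centralizer ({z} : Set G)) ∣ m := by
  have hd := Subgroup.card_subgroup_dvd_card (Subgroup.centralizer ({z} : Set G))
  rw [hg, mul_assoc, mul_left_comm] at hd
  refine Nat.Coprime.dvd_of_dvd_mul_right ?_ hd
  by_contra hc
  obtain ⟨r, hr, hr1, hr2⟩ := Nat.Prime.not_coprime_iff_dvd.mp hc
  have := Fact.mk hr
  obtain ⟨⟨w, hw⟩, hwo⟩ := exists_prime_orderOf_dvd_card' r hr1
  rw [Subgroup.orderOf_mk] at hwo
  have hzw : w * z = z * w := Subgroup.mem_centralizer_singleton_iff.mp hw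
  have hzK : ¬ ConjInto K z := fun h => (C.conjInto_iff.mp h) (hm.coprime_dvd_left hz.2)
  rcases (Nat.Prime.dvd_mul hr).mp hr2 with hrk | hrl
  · obtain ⟨-, g, hg'⟩ := C.conjInto_iff.mpr (show ¬ (orderOf w).Coprime (2 * Nat.card ↥K) from
      fun h => hr.ne_one (Nat.eq_one_of_dvd_coprimes h (hwo ▸ dvd_rfl) hrk))
    have hw1 : w ≠ 1 := fun e => hr.ne_one (by rw [← hwo, e, orderOf_one])
    refine hzK (C.conjInto_of_conj_mem_H hz.1
      (C.cent_le hg' (fun e => hw1 (conj_eq_one_iff.mp e))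
        (centralizer_conj_mem (g := g) (Subgroup.mem_centralizer_singleton_iff.mpr hzw.symm))))
  · have hcop : (orderOf w).Coprime (orderOf z) := by
      rw [hwo]
      exact (hmm.symm.coprime_dvd_left hrl).coprime_dvd_right hz.2
    have hord : orderOf (w * z) = r * orderOf z := by
      rw [Commute.orderOf_mul_eq_mul_orderOf_of_coprime hzw hcop, hwo]
    have hz1 : orderOf z ≠ 1 := fun e => hz.1 (orderOf_eq_one_iff.mp e)
    have hne : w * z ≠ 1 := fun e => by
      rw [e, orderOf_one] at hord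
      exact hr.ne_one (Nat.eq_one_of_mul_eq_one_right hord.symm)
    rcases htri _ hne with h | h | h
    · refine C.conjInto_iff.mp h ?_
      rw [hord]
      exact (hm'.coprime_dvd_left hrl).mul_left (hm.coprime_dvd_left hz.2)
    · exact hr.ne_one (Nat.eq_one_of_dvd_coprimes hmm ((dvd_mul_right r _).trans (hord ▸ h.2)) hrl)
    · exact hz1 (Nat.eq_one_of_dvd_coprimes hmm hz.2 ((dvd_mul_left _ r).trans (hord ▸ h.2)))

/-- An inverted element of odd type has abelian centralizer, inverted by the same involution. -/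
theorem cent_of_inverted [Finite G] {m : ℕ} (hm : m.Coprime (2 * Nat.card ↥K)) {z u : G}
    (hdvd : Nat.card ↥(Subgroup.centralizer ({z} : Set G)) ∣ m) (hu : orderOf u = 2)
    (hinv : u * z * u⁻¹ = z⁻¹) :
    ∀ a ∈ Subgroup.centralizer ({z} : Set G), u * a * u⁻¹ = a⁻¹ := by
  refine inverts_of_fpf _ (involution_sq hu) (fun a ha => ?_) fun a ha hfix => ?_
  · have h := centralizer_conj_mem (g := u) ha
    rw [hinv, Subgroup.mem_centralizer_singleton_iff] at h
    rw [Subgroup.mem_centralizer_singleton_iff]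
    exact ((inv_inv z) ▸ (Commute.inv_right (h : Commute _ z⁻¹)) : Commute (u * a * u⁻¹) z)
  · by_contra ha1
    have hc : a * u = u * a := (mul_inv_eq_iff_eq_mul.mp hfix).symm
    refine (C.conjInto_iff.mp (C.conjInto_of_commute_involution ha1 hu hc)) ?_
    exact hm.coprime_dvd_left ((Subgroup.orderOf_dvd_natCard _ ha).trans hdvd)

end Config

namespace Facts

variable [Finite G] {t s : G} {K : Subgroup G} (C : Config t s K) {n : ℤ} {q l : ℕ}
  (F : Facts K n q l)

include F

omit [Finite G] in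
theorem coprimes : q.Coprime (2 * Nat.card ↥K) ∧ l.Coprime (2 * Nat.card ↥K) ∧ q.Coprime l :=
  ⟨coprime_q_twoK F.hn F.hq, coprime_l_twoK F.hn F.hl F.hk, coprime_q_l F.hn F.hq F.hl⟩

omit [Finite G] in
theorem q_sq : q ^ 2 = 4 * Nat.card ↥K * l + 1 := by
  have : (q : ℤ) ^ 2 = 4 * (Nat.card ↥K : ℤ) * l + 1 := by
    rw [F.hq, F.hl]
    rcases F.hn with rfl | rfl <;> ring
  exact_mod_cast this

omit [Finite G] in
theorem cardQ : Nat.card {z : G // OfType q z} = 4 * Nat.card ↥K * l := by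
  have := F.hQ
  rw [F.q_sq] at this
  omega

omit [Finite G] in
theorem q_odd : Odd q := by
  obtain ⟨c, hc⟩ := F.hk
  have h := F.hq
  rw [hc] at h
  push_cast at h
  rw [Nat.odd_iff]
  rcases F.hn with hn | hn <;> rw [hn] at h <;> omega

theorem l_pos : 0 < l := by
  rcases Nat.eq_zero_or_pos l with h | h
  · exfalso
    have := F.hcard
    rw [h, mul_zero] at this
    exact Nat.card_pos.ne' this
  · exact h

include C

theorem cent_q_dvd {z : G} (hz : OfType q z) : Nat.card ↥(Subgroup.centralizer ({z} : Set G)) ∣ q :=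
  C.cent_card_dvd F.hcard F.coprimes.1 F.coprimes.2.1 F.coprimes.2.2 F.htri hz

theorem cent_l_dvd {z : G} (hz : OfType l z) : Nat.card ↥(Subgroup.centralizer ({z} : Set G)) ∣ l :=
  C.cent_card_dvd (by rw [F.hcard]; ring) F.coprimes.2.1 F.coprimes.1 F.coprimes.2.2.symm
    (fun z hz => (F.htri z hz).imp_right Or.symm) hz

theorem cent_q_card {z : G} (hz : OfType q z) :
    Nat.card ↥(Subgroup.centralizer ({z} : Set G)) = q := by
  obtain ⟨c, hc⟩ := F.cent_q_dvd C hz
  have hcl := CfsgLib.Signalizer.card_conj_class z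
  have hle : Nat.card {y : G // IsConj z y} ≤ 4 * Nat.card ↥K * l := by
    rw [← F.cardQ]
    refine Nat.card_le_card_of_injective (fun y => ⟨y.1, ?_⟩) fun a b h => Subtype.ext (Subtype.ext_iff.mp h :)
    obtain ⟨g, hg⟩ := isConj_iff.mp y.2
    exact ⟨fun e => hz.1 (conj_eq_one_iff.mp (hg.trans e)), by rw [← hg, orderOf_conj]; exact hz.2⟩
  rw [F.hcard] at hcl
  set a := Nat.card {y : G // IsConj z y}
  set b := Nat.card ↥(Subgroup.centralizer ({z} : Set G))
  have hb : 0 < b := Nat.card_pos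
  have hkl : 0 < Nat.card ↥K * l := Nat.mul_pos Nat.card_pos F.l_pos
  have h2 : 2 * Nat.card ↥K * q * l ≤ 4 * Nat.card ↥K * l * b := hcl ▸ Nat.mul_le_mul_right b hle
  rw [hc] at h2
  have h3 : c ≤ 2 := by
    by_contra h
    have : 3 * (b * (Nat.card ↥K * l)) ≤ c * (b * (Nat.card ↥K * l)) := Nat.mul_le_mul_right _ (by omega)
    nlinarith [Nat.mul_pos hb hkl]
  have hodd := F.q_odd
  rw [hc, Nat.odd_mul, Nat.odd_iff, Nat.odd_iff] at hodd
  have : c = 1 := by omega
  rw [hc, this, mul_one]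

theorem class_card {z : G} (hz : OfType q z) :
    Nat.card {y : G // IsConj z y} = 2 * Nat.card ↥K * l := by
  have h := CfsgLib.Signalizer.card_conj_class z
  rw [F.cent_q_card C hz, F.hcard] at h
  have hq0 : 0 < q := Nat.pos_of_ne_zero fun e => by
    have := F.q_odd; rw [e] at this; simp at this
  exact Nat.eq_of_mul_eq_mul_right hq0 (by rw [h]; ring)

theorem exists_prime_pow : ∃ (p j : ℕ), p.Prime ∧ 0 < j ∧ q = p ^ j := by
  classical
  have := Fintype.ofFinite G
  have hq1 : q ≠ 1 := fun e => by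
    have h := F.hq
    rw [e] at h
    have := C.two_le_k
    rcases F.hn with hn | hn <;> rw [hn] at h <;> omega
  obtain ⟨p, hp, hpq⟩ := Nat.exists_prime_and_dvd hq1
  suffices ∀ r : ℕ, r.Prime → r ∣ q → r = p by
    have hq0 : q ≠ 0 := fun e => by
      have := F.q_odd; rw [e] at this; simp at this
    have hj := Nat.eq_prime_pow_of_unique_prime_dvd hq0 (fun {r} hr hd => this r hr hd)
    refine ⟨p, q.primeFactorsList.length, hp, Nat.pos_of_ne_zero fun e => hq1 ?_, hj⟩
    rw [hj, e, pow_zero]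
  intro r hr hrq
  by_contra hrp
  have := Fact.mk hp
  have := Fact.mk hr
  obtain ⟨z, hzo⟩ := exists_prime_orderOf_dvd_card' (G := G) p
    (hpq.trans (by rw [F.hcard]; exact Dvd.intro_left (2 * Nat.card ↥K * l) (by ring)))
  have hz : OfType q z := ⟨fun e => hp.ne_one (by rw [← hzo, e, orderOf_one]), hzo ▸ hpq⟩
  obtain ⟨⟨w, hw⟩, hwo⟩ := exists_prime_orderOf_dvd_card'
    (G := ↥(Subgroup.centralizer ({z} : Set G))) r (by rw [F.cent_q_card C hz]; exact hrq)
  rw [Subgroup.orderOf_mk] at hwo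
  have hcom : Commute w z := Subgroup.mem_centralizer_singleton_iff.mp hw
  have hcop : (orderOf w).Coprime (orderOf z) := by
    rw [hwo, hzo]; exact (Nat.coprime_primes hr hp).mpr hrp
  have hord : orderOf (w * z) = r * p := by
    rw [hcom.orderOf_mul_eq_mul_orderOf_of_coprime hcop, hwo, hzo]
  have hw' : OfType q w := ⟨fun e => hr.ne_one (by rw [← hwo, e, orderOf_one]), hwo ▸ hrq⟩
  have hwz : OfType q (w * z) := ⟨fun e => by
    rw [e, orderOf_one] at hord
    exact hr.ne_one (Nat.eq_one_of_mul_eq_one_right hord.symm),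
    hord ▸ Nat.Coprime.mul_dvd_of_dvd_of_dvd ((Nat.coprime_primes hr hp).mpr hrp) hrq hpq⟩
  set f : G → Finset G := fun x => Finset.univ.filter (fun y => IsConj x y) with hf
  have hcard : ∀ x, OfType q x → (f x).card = 2 * Nat.card ↥K * l := fun x hx => by
    rw [← F.class_card C hx, Nat.card_eq_fintype_card, Fintype.card_subtype]
  have hdis : ∀ x y : G, orderOf x ≠ orderOf y → Disjoint (f x) (f y) := fun x y hxy => by
    rw [Finset.disjoint_filter]
    intro v _ hx hy
    obtain ⟨g, hg⟩ := isConj_iff.mp hx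
    obtain ⟨g', hg'⟩ := isConj_iff.mp hy
    exact hxy (by rw [← orderOf_conj g x, hg, ← hg', orderOf_conj])
  have d1 : Disjoint (f z) (f w) := hdis _ _ (by rw [hzo, hwo]; exact fun e => hrp e.symm)
  have d2 : Disjoint (f z ∪ f w) (f (w * z)) := by
    rw [Finset.disjoint_union_left]
    have h2r := hr.two_le
    have h2p := hp.two_le
    exact ⟨hdis _ _ (by rw [hzo, hord]; nlinarith), hdis _ _ (by rw [hwo, hord]; nlinarith)⟩
  have hsub : f z ∪ f w ∪ f (w * z) ⊆ Finset.univ.filter (fun y => OfType q y) := by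
    intro v hv
    simp only [hf, Finset.mem_union, Finset.mem_filter, Finset.mem_univ, true_and] at hv ⊢
    obtain ⟨x, hx, hc⟩ : ∃ x, OfType q x ∧ IsConj x v :=
      hv.elim (fun h => h.elim (fun h => ⟨z, hz, h⟩) fun h => ⟨w, hw', h⟩) fun h => ⟨_, hwz, h⟩
    obtain ⟨g, hg⟩ := isConj_iff.mp hc
    exact ⟨fun e => hx.1 (conj_eq_one_iff.mp (hg.trans e)), by rw [← hg, orderOf_conj]; exact hx.2⟩
  have := Finset.card_le_card hsub
  rw [Finset.card_union_of_disjoint d2, Finset.card_union_of_disjoint d1, hcard z hz, hcard w hw',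
    hcard _ hwz, ← Fintype.card_subtype, ← Nat.card_eq_fintype_card, F.cardQ] at this
  have := Nat.mul_pos (Nat.card_pos (α := ↥K)) F.l_pos
  nlinarith

end Facts

end CfsgLib.PGroups.BSW
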