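import Cfsg.Agent.Lib.PGroups.BSW.Counting
import Cfsg.Agent.Lib.Signalizer.Involutions
import Cfsg.Agent.Lib.Signalizer.BrauerFowler
import Mathlib.GroupTheory.Sylow

/-!
# The configuration of the abstract Brauer–Suzuki–Wall theorem
-/

set_option autoImplicit false

namespace CfsgLib.PGroups.BSW

open Subgroup
open CfsgLib.Signalizer (involution_sq involution_inv involution_ne_one orderOf_eq_two_of orderOf_conj)

variable {G : Type*} [Group G]

/-- The hypotheses: `C(t) = K⟨s⟩` is generalized dihedral, `K` is a TI subgroup, one class of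
involutions. -/
structure Config (t s : G) (K : Subgroup G) : Prop where
  ht : orderOf t = 2
  comm : IsMulCommutative ↥K
  le_cent : K ≤ Subgroup.centralizer ({t} : Set G)
  htK : t ∈ K
  hs : orderOf s = 2
  hsH : s ∈ Subgroup.centralizer ({t} : Set G)
  hsK : s ∉ K
  hH : K ⊔ Subgroup.zpowers s = Subgroup.centralizer ({t} : Set G)
  hCK : K ⊓ Subgroup.centralizer ({s} : Set G) = Subgroup.zpowers t
  hinv : ∀ x ∈ K, s * x * s⁻¹ = x⁻¹
  hTI : ∀ g : G, g ∉ Subgroup.centralizer ({t} : Set G) →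
    K ⊓ K.map (MulAut.conj g).toMonoidHom = ⊥
  hconj : ∀ x y : G, orderOf x = 2 → orderOf y = 2 → IsConj x y

namespace Config

variable {t s : G} {K : Subgroup G} (C : Config t s K)

local notation "H" => Subgroup.centralizer (Singleton.singleton t : Set G)

include C

theorem mul_comm' {x y : G} (hx : x ∈ K) (hy : y ∈ K) : x * y = y * x :=
  congrArg Subtype.val (C.comm.is_comm.comm ⟨x, hx⟩ ⟨y, hy⟩)

theorem s_sq : s * s = 1 := involution_sq C.hs

theorem s_inv : s⁻¹ = s := involution_inv C.hs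

theorem s_mul {x : G} (hx : x ∈ K) : s * x = x⁻¹ * s := by
  rw [← C.hinv x hx, inv_mul_cancel_right]

theorem mem_cases {h : G} (hh : h ∈ H) : h ∈ K ∨ h * s ∈ K := by
  rw [← C.hH, Subgroup.sup_eq_closure] at hh
  induction hh using Subgroup.closure_induction with
  | mem x hx =>
    rcases hx with hx | hx
    · exact Or.inl hx
    · obtain ⟨i, rfl⟩ := Subgroup.mem_zpowers_iff.mp hx
      rcases Int.even_or_odd i with ⟨j, rfl⟩ | ⟨j, rfl⟩
      · left
        rw [← two_mul, zpow_mul, show s ^ (2 : ℤ) = 1 by rw [zpow_two, C.s_sq], one_zpow]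
        exact one_mem K
      · right
        rw [zpow_add, zpow_mul, show s ^ (2 : ℤ) = 1 by rw [zpow_two, C.s_sq], one_zpow, one_mul,
          zpow_one, C.s_sq]
        exact one_mem K
  | one => exact Or.inl (one_mem K)
  | mul a b _ _ ha hb =>
    rcases hb with hb | hb
    · rcases ha with ha | ha
      · exact Or.inl (mul_mem ha hb)
      · right
        have : a * b * s = a * s * b⁻¹ := by
          rw [mul_assoc a s, C.s_mul (inv_mem hb), inv_inv, ← mul_assoc]
        rw [this]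
        exact mul_mem ha (inv_mem hb)
    · rcases ha with ha | ha
      · exact Or.inr (by rw [mul_assoc]; exact mul_mem ha hb)
      · left
        have : a * b = a * s * (b * s)⁻¹ := by
          calc a * b = a * (b * s * s) := by rw [mul_assoc b, C.s_sq, mul_one]
            _ = a * (s * (b * s)⁻¹) := by rw [C.s_mul (inv_mem hb), inv_inv]
            _ = _ := (mul_assoc _ _ _).symm
        rw [this]
        exact mul_mem ha (inv_mem hb)
  | inv a _ ha =>
    rcases ha with ha | ha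
    · exact Or.inl (inv_mem ha)
    · right
      have : a⁻¹ * s = a * s := by
        have h1 := C.s_mul (inv_mem ha)
        rw [inv_inv, mul_inv_rev, C.s_inv, ← mul_assoc, C.s_sq, one_mul, mul_assoc, C.s_sq,
          mul_one] at h1
        rw [h1]
      rwa [this]

/-- Elements of `H` outside `K` are involutions. -/
theorem orderOf_eq_two {h : G} (hh : h ∈ H) (hK : h ∉ K) : orderOf h = 2 := by
  obtain hk | hk := C.mem_cases hh
  · exact absurd hk hK
  refine orderOf_eq_two_of (fun h1 => hK (h1 ▸ one_mem K)) ?_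
  have hh' : h = h * s * s := by rw [mul_assoc, C.s_sq, mul_one]
  calc h * h = h * s * s * (h * s * s) := by rw [← hh']
    _ = h * s * (s * (h * s)) * s := by simp only [mul_assoc]
    _ = 1 := by rw [C.s_mul hk, ← mul_assoc, mul_inv_cancel, one_mul, C.s_sq]

theorem eq_one_or_t {x : G} (hx : x ∈ K) (h2 : x * x = 1) : x = 1 ∨ x = t := by
  have hmem : x ∈ Subgroup.zpowers t := by
    rw [← C.hCK]
    refine ⟨hx, Subgroup.mem_centralizer_singleton_iff.mpr ?_⟩
    rw [C.s_mul hx, inv_eq_of_mul_eq_one_right h2]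
  obtain ⟨i, rfl⟩ := Subgroup.mem_zpowers_iff.mp hmem
  rcases Int.even_or_odd i with ⟨j, rfl⟩ | ⟨j, rfl⟩
  · left
    rw [← two_mul, zpow_mul, show t ^ (2 : ℤ) = 1 by rw [zpow_two, involution_sq C.ht], one_zpow]
  · right
    rw [zpow_add, zpow_mul, show t ^ (2 : ℤ) = 1 by rw [zpow_two, involution_sq C.ht], one_zpow,
      one_mul, zpow_one]

theorem t_ne_one : t ≠ 1 := involution_ne_one C.ht

/-- Conjugation by elements of `H` fixes or inverts `K`. -/
theorem conj_cases {h : G} (hh : h ∈ H) :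
    (∀ x ∈ K, h * x * h⁻¹ = x) ∨ (∀ x ∈ K, h * x * h⁻¹ = x⁻¹) := by
  rcases C.mem_cases hh with hk | hk
  · exact Or.inl fun x hx => by rw [C.mul_comm' hk hx, mul_inv_cancel_right]
  · refine Or.inr fun x hx => ?_
    have hh' : h = h * s * s := by rw [mul_assoc, C.s_sq, mul_one]
    calc h * x * h⁻¹ = h * s * (s * x * s⁻¹) * (h * s)⁻¹ := by
          conv_lhs => rw [hh']
          simp only [mul_inv_rev, mul_assoc]
      _ = x⁻¹ := by rw [C.hinv x hx, C.mul_comm' hk (inv_mem hx), mul_inv_cancel_right]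

theorem conj_mem {h : G} (hh : h ∈ H) {x : G} (hx : x ∈ K) : h * x * h⁻¹ ∈ K := by
  rcases C.conj_cases hh with e | e <;> rw [e x hx]
  · exact hx
  · exact inv_mem hx

theorem ti (g x : G) (hx : x ∈ K) (hx1 : x ≠ 1) (hg : g * x * g⁻¹ ∈ K) : g ∈ H := by
  by_contra hgH
  have h1 : g * x * g⁻¹ ∈ (⊥ : Subgroup G) := by
    rw [← C.hTI g hgH]
    exact ⟨hg, x, hx, rfl⟩
  exact hx1 (conj_eq_one_iff.mp (Subgroup.mem_bot.mp h1))

theorem cent_le {x : G} (hx : x ∈ K) (hx1 : x ≠ 1) :
    Subgroup.centralizer ({x} : Set G) ≤ H := fun g hg => by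
  refine C.ti g x hx hx1 ?_
  rwa [Subgroup.mem_centralizer_singleton_iff.mp hg, mul_inv_cancel_right]

theorem cent_eq {x : G} (hx : x ∈ K) (hx2 : x * x ≠ 1) :
    Subgroup.centralizer ({x} : Set G) = K := by
  refine le_antisymm (fun g hg => ?_) fun g hg =>
    Subgroup.mem_centralizer_singleton_iff.mpr (C.mul_comm' hg hx)
  have hgH := C.cent_le hx (fun h => hx2 (by rw [h, one_mul])) hg
  have hgx : g * x * g⁻¹ = x := by
    rw [Subgroup.mem_centralizer_singleton_iff.mp hg, mul_inv_cancel_right]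
  rcases C.mem_cases hgH with hk | hk
  · exact hk
  · exfalso
    rcases C.conj_cases hgH with e | e
    · have h1 := e _ hk
      have hgs : Commute g (g * s) := mul_inv_eq_iff_eq_mul.mp h1
      have hh' : g = g * s * s := by rw [mul_assoc, C.s_sq, mul_one]
      have h2 : g * x * g⁻¹ = x⁻¹ := by
        calc g * x * g⁻¹ = g * s * (s * x * s⁻¹) * (g * s)⁻¹ := by
              conv_lhs => rw [hh']
              simp only [mul_inv_rev, mul_assoc]
          _ = x⁻¹ := by rw [C.hinv x hx, C.mul_comm' hk (inv_mem hx), mul_inv_cancel_right]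
      exact hx2 (by nth_rewrite 2 [← inv_inv x]; rw [← h2, hgx, mul_inv_cancel])
    · exact hx2 (by nth_rewrite 1 [← hgx, e x hx]; exact inv_mul_cancel x)

variable [Finite G]

omit [Finite G] in
theorem k_even : 2 ∣ Nat.card ↥K := C.ht ▸ Subgroup.orderOf_dvd_natCard K C.htK

theorem two_le_k : 2 ≤ Nat.card ↥K := Nat.le_of_dvd Nat.card_pos C.k_even

omit [Finite G] in
theorem card_H : Nat.card ↥(H) = 2 * Nat.card ↥K := by
  have hidx : (K.subgroupOf H).index = 2 := by
    rw [Subgroup.index_eq_two_iff]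
    refine ⟨⟨s, C.hsH⟩, fun b => ?_⟩
    simp only [Subgroup.mem_subgroupOf, Subgroup.coe_mul]
    rcases C.mem_cases b.2 with hb | hb
    · exact Or.inr ⟨hb, fun h => C.hsK ((Subgroup.mul_mem_cancel_left K hb).mp h)⟩
    · exact Or.inl ⟨hb, fun h => C.hsK ((Subgroup.mul_mem_cancel_left K h).mp hb)⟩
  rw [← (K.subgroupOf H).card_mul_index, hidx, Nat.mul_comm,
    Nat.card_congr (Subgroup.subgroupOfEquivOfLe C.le_cent).toEquiv]

omit [Finite G] in
theorem index_mul : (H).index * (2 * Nat.card ↥K) = Nat.card G := by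
  rw [← C.card_H, Subgroup.index_mul_card]

theorem card_involutions : Nat.card {u : G // orderOf u = 2} = (H).index := by
  have h := CfsgLib.Signalizer.card_conj_class t
  have he : Nat.card {u : G // orderOf u = 2} = Nat.card {u : G // IsConj t u} := by
    refine Nat.card_congr (Equiv.subtypeEquivRight fun u => ⟨fun h => C.hconj t u C.ht h, ?_⟩)
    rintro hu
    obtain ⟨g, rfl⟩ := isConj_iff.mp hu
    rw [orderOf_conj, C.ht]
  rw [he]
  have h2 := (H).index_mul_card
  refine Nat.eq_of_mul_eq_mul_right Nat.card_pos (m := Nat.card ↥(H)) ?_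
  rw [h, h2]

/-- A nonidentity element whose order is not prime to `|H|` is conjugate into `H`. -/
theorem exists_conj_mem_of_not_coprime {z : G} (hz : ¬ (orderOf z).Coprime (2 * Nat.card ↥K)) :
    ∃ g : G, g * z * g⁻¹ ∈ H := by
  obtain ⟨r, hr, hr1, hr2⟩ := Nat.Prime.not_coprime_iff_dvd.mp hz
  have := Fact.mk hr
  set w := z ^ (orderOf z / r) with hw
  have hwo : orderOf w = r := orderOf_pow_orderOf_div (orderOf_pos z).ne' hr1
  have hwz : z * w = w * z := (Commute.self_pow z _).eq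
  suffices ∃ g : G, g * w * g⁻¹ ∈ K by
    obtain ⟨g, hg⟩ := this
    refine ⟨g, C.cent_le hg (fun h => hr.ne_one ?_) (Subgroup.mem_centralizer_singleton_iff.mpr ?_)⟩
    · rw [← hwo, conj_eq_one_iff.mp h, orderOf_one]
    · calc g * z * g⁻¹ * (g * w * g⁻¹) = g * (z * w) * g⁻¹ := by group
        _ = g * (w * z) * g⁻¹ := by rw [hwz]
        _ = g * w * g⁻¹ * (g * z * g⁻¹) := by group
  rcases eq_or_ne r 2 with rfl | hr2'
  · obtain ⟨g, hg⟩ := isConj_iff.mp (C.hconj w t hwo C.ht)
    exact ⟨g, hg ▸ C.htK⟩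
  have hrk : r ∣ Nat.card ↥K := ((Nat.Prime.dvd_mul hr).mp hr2).resolve_left
    fun h => hr2' ((Nat.prime_dvd_prime_iff_eq hr Nat.prime_two).mp h)
  let R : Sylow r ↥K := default
  have hR1 : (R : Subgroup ↥K) ≠ ⊥ := R.ne_bot_of_dvd_card hrk
  set R' := (R : Subgroup ↥K).map K.subtype with hR'
  have hp : IsPGroup r ↥R' := R.2.map K.subtype
  obtain ⟨S, hS⟩ := hp.exists_le_sylow
  -- the normalizer of a nontrivial `r`-subgroup of `K` lies in `H`, so `S` does
  have hSR : (S : Subgroup G) ≤ R' := by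
    by_contra hlt
    have hpS : Group.IsNilpotent ↥(S : Subgroup G) := S.2.isNilpotent
    have hlt' : R'.subgroupOf (S : Subgroup G) < ⊤ :=
      lt_top_iff_ne_top.mpr fun h => hlt (Subgroup.subgroupOf_eq_top.mp h)
    obtain ⟨⟨y, hyS⟩, hyN, hyR⟩ := SetLike.exists_of_lt
      (Group.normalizerCondition_of_isNilpotent (G := ↥(S : Subgroup G)) _ hlt')
    have hyR' : y ∉ R' := fun h => hyR (Subgroup.mem_subgroupOf.mpr h)
    obtain ⟨⟨x, hxK⟩, hxR, hx1⟩ := (Subgroup.ne_bot_iff_exists_ne_one.mp hR1).elim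
      fun a ha => (⟨(a : ↥K), a.2, fun h => ha (Subtype.ext h)⟩ :
        ∃ a : ↥K, a ∈ (R : Subgroup ↥K) ∧ a ≠ 1)
    have hxR' : x ∈ R' := ⟨⟨x, hxK⟩, hxR, rfl⟩
    have hyx : y * x * y⁻¹ ∈ R' := by
      have := (Subgroup.mem_normalizer_iff.mp hyN ⟨x, hS hxR'⟩).mp (Subgroup.mem_subgroupOf.mpr hxR')
      exact Subgroup.mem_subgroupOf.mp this
    have hle : R' ≤ K := by rintro _ ⟨a, -, rfl⟩; exact a.2
    have hyH : y ∈ H := C.ti y x hxK (fun h => hx1 (Subtype.ext h)) (hle hyx)
    rcases em (y ∈ K) with hyK | hyK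
    · -- `⟨R, y⟩` is an `r`-subgroup of `K` containing `R`
      set T := (S : Subgroup G).subgroupOf K with hT
      have hTp : IsPGroup r ↥T := S.2.comap_of_injective K.subtype K.subtype_injective
      have hRT : (R : Subgroup ↥K) ≤ T := fun a ha => hS ⟨a, ha, rfl⟩
      have hmem : (⟨y, hyK⟩ : ↥K) ∈ T := hyS
      rw [R.is_maximal' hTp hRT] at hmem
      exact hyR' ⟨⟨y, hyK⟩, hmem, rfl⟩
    · obtain ⟨m, hm⟩ := IsPGroup.iff_orderOf.mp S.2 ⟨y, hyS⟩
      rw [Subgroup.orderOf_mk, C.orderOf_eq_two hyH hyK] at hm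
      rcases m with _ | m
      · simp at hm
      · exact hr2' ((Nat.prime_dvd_prime_iff_eq hr Nat.prime_two).mp
          (hm ▸ dvd_pow_self r m.succ_ne_zero))
  have hwp : IsPGroup r ↥(Subgroup.zpowers w) :=
    IsPGroup.of_card (n := 1) (by rw [Nat.card_zpowers, hwo, pow_one])
  obtain ⟨Q, hQ⟩ := hwp.exists_le_sylow
  obtain ⟨g, hg⟩ := MulAction.exists_smul_eq G Q S
  refine ⟨g, (show R' ≤ K by rintro _ ⟨a, -, rfl⟩; exact a.2) (hSR ?_)⟩
  rw [← hg, Sylow.coe_subgroup_smul]
  exact Subgroup.smul_mem_pointwise_smul w (MulAut.conj g) _ (hQ (Subgroup.mem_zpowers w))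

omit [Finite G] in
theorem conjInto_of_conj_mem_H {z g : G} (hz : z ≠ 1) (hg : g * z * g⁻¹ ∈ H) : ConjInto K z := by
  by_cases hK : g * z * g⁻¹ ∈ K
  · exact ⟨hz, g, hK⟩
  · obtain ⟨a, ha⟩ := isConj_iff.mp (C.hconj _ t (C.orderOf_eq_two hg hK) C.ht)
    refine ⟨hz, a * g, ?_⟩
    rw [show a * g * z * (a * g)⁻¹ = a * (g * z * g⁻¹) * a⁻¹ by group, ha]
    exact C.htK

theorem conjInto_iff {z : G} :
    ConjInto K z ↔ ¬ (orderOf z).Coprime (2 * Nat.card ↥K) := by
  constructor
  · rintro ⟨hz, g, hg⟩ hcop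
    have h1 : orderOf z ∣ Nat.card ↥K := by
      rw [← orderOf_conj g z]; exact Subgroup.orderOf_dvd_natCard K hg
    have h2 : orderOf z = 1 := Nat.eq_one_of_dvd_coprimes hcop dvd_rfl (h1.mul_left 2)
    exact hz (orderOf_eq_one_iff.mp h2)
  · intro h
    obtain ⟨g, hg⟩ := C.exists_conj_mem_of_not_coprime h
    exact C.conjInto_of_conj_mem_H (fun e => h (by rw [e, orderOf_one]; exact Nat.coprime_one_left _)) hg

omit [Finite G] in
theorem conjInto_involution {u : G} (hu : orderOf u = 2) : ConjInto K u := by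
  obtain ⟨g, hg⟩ := isConj_iff.mp (C.hconj u t hu C.ht)
  exact ⟨involution_ne_one hu, g, hg ▸ C.htK⟩

omit [Finite G] in
/-- An involution of `C(z)` forces `z` to be conjugate into `K`. -/
theorem conjInto_of_commute_involution {z u : G} (hz : z ≠ 1) (hu : orderOf u = 2)
    (hc : z * u = u * z) : ConjInto K z := by
  obtain ⟨g, hg⟩ := isConj_iff.mp (C.hconj u t hu C.ht)
  refine C.conjInto_of_conj_mem_H hz (g := g) (Subgroup.mem_centralizer_singleton_iff.mpr ?_)
  rw [← hg]
  calc g * z * g⁻¹ * (g * u * g⁻¹) = g * (z * u) * g⁻¹ := by group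
    _ = g * (u * z) * g⁻¹ := by rw [hc]
    _ = g * u * g⁻¹ * (g * z * g⁻¹) := by group

end Config

end CfsgLib.PGroups.BSW
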