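import Cfsg.Agent.Lib.PGroups.BSW.Pairs
import Cfsg.Agent.Lib.Char.Complete
import Mathlib.Algebra.BigOperators.Ring.Finset
import Mathlib.Tactic.LinearCombination

/-!
# The numerical facts: order, the three types of elements and their numbers
-/

set_option autoImplicit false

namespace CfsgLib.PGroups.BSW

open Subgroup CfsgLib.Char
open scoped ComplexConjugate

variable {G : Type*} [Group G]

/-- The nonidentity elements of order dividing `m`. -/
def OfType (m : ℕ) (z : G) : Prop := z ≠ 1 ∧ orderOf z ∣ m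

/-- The numerical consequences of the character theory. -/
structure Facts (K : Subgroup G) (n : ℤ) (q l : ℕ) : Prop where
  hn : n = 1 ∨ n = -1
  hq : (q : ℤ) = 2 * (Nat.card ↥K : ℤ) + n
  hl : (l : ℤ) = (Nat.card ↥K : ℤ) + n
  hk : 2 ∣ Nat.card ↥K
  hcard : Nat.card G = 2 * Nat.card ↥K * q * l
  htri : ∀ z : G, z ≠ 1 → ConjInto K z ∨ OfType q z ∨ OfType l z
  hQ : Nat.card {z : G // OfType q z} + 1 = q ^ 2
  hL : (Nat.card {z : G // OfType l z} : ℤ) = (q : ℤ) * ((l : ℤ) * (Nat.card ↥K + 1) - q)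

section Arith

variable {k q l : ℕ} {n : ℤ} (hn : n = 1 ∨ n = -1) (hq : (q : ℤ) = 2 * (k : ℤ) + n)
  (hl : (l : ℤ) = (k : ℤ) + n) (hk : 2 ∣ k)

include hn hq in
omit hl hk in
theorem coprime_q_twoK : q.Coprime (2 * k) := by
  refine Nat.isCoprime_iff_coprime.mp ⟨n, -n, ?_⟩
  push_cast
  rcases hn with rfl | rfl <;> linarith

include hn hl hk in
omit hq in
theorem coprime_l_twoK : l.Coprime (2 * k) := by
  obtain ⟨c, rfl⟩ := hk
  have h1 : l.Coprime 2 := Nat.isCoprime_iff_coprime.mp ⟨n, -(n * c), by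
    push_cast at hl ⊢; rcases hn with rfl | rfl <;> linarith⟩
  have h2 : l.Coprime (2 * c) := Nat.isCoprime_iff_coprime.mp ⟨n, -n, by
    push_cast at hl ⊢; rcases hn with rfl | rfl <;> linarith⟩
  exact h1.mul_right h2

include hn hq hl in
omit hk in
theorem coprime_q_l : q.Coprime l := by
  refine Nat.isCoprime_iff_coprime.mp ⟨-n, 2 * n, ?_⟩
  rcases hn with rfl | rfl <;> linarith

end Arith

namespace Config

variable {t s : G} {K : Subgroup G} (C : Config t s K)

local notation "H" => Subgroup.centralizer (Singleton.singleton t : Set G)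

include C

open scoped Classical in
theorem facts_of_fun [Fintype G] {n : ℤ} {q l : ℕ} (hn : n = 1 ∨ n = -1)
    (hq : (q : ℤ) = 2 * (Nat.card ↥K : ℤ) + n) (hl : (l : ℤ) = (Nat.card ↥K : ℤ) + n)
    (hcard : Nat.card G = 2 * Nat.card ↥K * q * l) (R P : G → ℂ)
    (hR : Cfsg.IsClassFunction G R) (hone : R 1 * conj (R 1) = (q : ℂ) ^ 2)
    (hnorm : Cfsg.classInner R R = 1) (hK : ∀ x ∈ K, x ≠ 1 → R x = 1)
    (hsum : ∀ z : G, z ≠ 1 → ¬ ConjInto K z → 1 + R z + P z = 0)
    (hRv : ∀ z : G, ¬ (orderOf z).Coprime q → R z = 0)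
    (hPv : ∀ z : G, ¬ (orderOf z).Coprime l → P z = 0) : Facts K n q l := by
  have hk := C.k_even
  have c1 := coprime_q_twoK hn hq
  have c2 := coprime_l_twoK hn hl hk
  have c3 := coprime_q_l hn hq hl
  have hKnot : ∀ {m : ℕ} {z : G}, m.Coprime (2 * Nat.card ↥K) → OfType m z → ¬ ConjInto K z :=
    fun {m z} hm hz h => (C.conjInto_iff.mp h) (hm.coprime_dvd_left hz.2)
  have htri : ∀ z : G, z ≠ 1 → ConjInto K z ∨ OfType q z ∨ OfType l z := by
    intro z hz
    by_cases h : ConjInto K z
    · exact Or.inl h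
    have hcop : (orderOf z).Coprime (2 * Nat.card ↥K) := by
      by_contra h'; exact h (C.conjInto_iff.mpr h')
    have hd : orderOf z ∣ q * l := by
      refine hcop.dvd_of_dvd_mul_left ?_
      rw [← mul_assoc, ← hcard]
      exact _root_.orderOf_dvd_natCard z
    by_cases h1 : (orderOf z).Coprime l
    · exact Or.inr (Or.inl ⟨hz, h1.dvd_of_dvd_mul_right hd⟩)
    by_cases h2 : (orderOf z).Coprime q
    · exact Or.inr (Or.inr ⟨hz, h2.dvd_of_dvd_mul_left hd⟩)
    exfalso
    have := hsum z hz h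
    rw [hRv z h2, hPv z h1] at this
    norm_num at this
  have hI : (H).index = q * l := by
    have := C.index_mul
    rw [hcard, mul_comm ((H).index), mul_assoc (2 * Nat.card ↥K)] at this
    exact Nat.eq_of_mul_eq_mul_left (Nat.mul_pos two_pos Nat.card_pos) this
  have hnotcop : ∀ {m : ℕ} {z : G}, OfType m z → ¬ (orderOf z).Coprime m := fun {m z} hz h =>
    hz.1 (orderOf_eq_one_iff.mp (Nat.eq_one_of_dvd_coprimes h dvd_rfl hz.2))
  -- the partition of `G`
  set A := Finset.univ.filter (fun z : G => ConjInto K z) with hA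
  set B := Finset.univ.filter (fun z : G => OfType q z) with hB
  set D := Finset.univ.filter (fun z : G => OfType l z) with hD
  have hABd : Disjoint A B := Finset.disjoint_filter.mpr fun z _ ha hb => hKnot c1 hb ha
  have hAD : Disjoint (A ∪ B) D := by
    rw [Finset.disjoint_union_left]
    exact ⟨Finset.disjoint_filter.mpr fun z _ ha hb => hKnot c2 hb ha,
      Finset.disjoint_filter.mpr fun z _ ha hb =>
        hb.1 (orderOf_eq_one_iff.mp (Nat.eq_one_of_dvd_coprimes c3 ha.2 hb.2))⟩
  have hall : (Finset.univ : Finset G).erase 1 = A ∪ B ∪ D := by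
    ext z
    simp only [hA, hB, hD, Finset.mem_erase, Finset.mem_union, Finset.mem_filter, Finset.mem_univ,
      true_and, and_true, or_assoc]
    exact ⟨htri z, fun h => h.elim (·.1) fun h => h.elim (·.1) (·.1)⟩
  have hTI : ∀ g x : G, x ∈ K → x ≠ 1 → g * x * g⁻¹ ∈ K → g ∈ H := C.ti
  have hAcard : A.card = q * l * (Nat.card ↥K - 1) := by
    rw [hA, card_conjInto hTI (fun g hg x hx => C.conj_mem hg hx), hI]
  have hBcard : B.card = Nat.card {z : G // OfType q z} := by
    rw [Nat.card_eq_fintype_card, Fintype.card_subtype]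
  have hDcard : D.card = Nat.card {z : G // OfType l z} := by
    rw [Nat.card_eq_fintype_card, Fintype.card_subtype]
  -- the norm of `R`
  have hsumR : ∑ z : G, R z * conj (R z) = (Nat.card G : ℂ) := by
    have := hnorm
    rw [Cfsg.classInner, inv_mul_eq_iff_eq_mul₀ (Nat.cast_ne_zero.mpr Nat.card_pos.ne'), mul_one]
      at this
    exact this
  rw [← Finset.add_sum_erase _ _ (Finset.mem_univ (1 : G)), hone, hall,
    Finset.sum_union hAD, Finset.sum_union hABd] at hsumR
  have hsA : ∑ z ∈ A, R z * conj (R z) = (A.card : ℂ) := by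
    rw [Finset.sum_congr rfl (g := fun _ => (1 : ℂ)) fun z hz => ?_, Finset.sum_const, nsmul_eq_mul,
      mul_one]
    obtain ⟨hz1, g, hg⟩ := (Finset.mem_filter.mp hz).2
    rw [← hR z g, hK _ hg (fun h => hz1 (conj_eq_one_iff.mp h))]
    simp
  have hsB : ∑ z ∈ B, R z * conj (R z) = 0 := Finset.sum_eq_zero fun z hz => by
    rw [hRv z (hnotcop (Finset.mem_filter.mp hz).2), zero_mul]
  have hsD : ∑ z ∈ D, R z * conj (R z) = (D.card : ℂ) := by
    rw [Finset.sum_congr rfl (g := fun _ => (1 : ℂ)) fun z hz => ?_, Finset.sum_const, nsmul_eq_mul,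
      mul_one]
    have hz' := (Finset.mem_filter.mp hz).2
    have := hsum z hz'.1 (hKnot c2 hz')
    rw [hPv z (hnotcop hz'), add_zero] at this
    have hRz : R z = -1 := by linear_combination this
    rw [hRz]; simp
  rw [hsA, hsB, hsD, hAcard, hDcard, add_zero] at hsumR
  have hnat : q ^ 2 + (q * l * (Nat.card ↥K - 1) + Nat.card {z : G // OfType l z}) = Nat.card G := by
    exact_mod_cast hsumR
  have htot : Nat.card G = 1 + (A.card + B.card + D.card) := by
    rw [← Finset.card_union_of_disjoint hABd, ← Finset.card_union_of_disjoint hAD, ← hall,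
      Finset.card_erase_of_mem (Finset.mem_univ _), Finset.card_univ, ← Nat.card_eq_fintype_card]
    have := Nat.card_pos (α := G)
    omega
  rw [hAcard, hBcard, hDcard] at htot
  refine ⟨hn, hq, hl, hk, hcard, htri, by omega, ?_⟩
  have hk1 : ((Nat.card ↥K - 1 : ℕ) : ℤ) = (Nat.card ↥K : ℤ) - 1 := by
    have := C.two_le_k; omega
  have hz : ((q : ℤ) ^ 2 + ((q : ℤ) * l * ((Nat.card ↥K - 1 : ℕ) : ℤ) +
      (Nat.card {z : G // OfType l z} : ℤ))) = 2 * (Nat.card ↥K : ℤ) * q * l := by
    exact_mod_cast hnat.trans hcard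
  rw [hk1] at hz
  linear_combination hz

end Config

end CfsgLib.PGroups.BSW
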