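import Cfsg.Agent.Lib.PGroups.BSW.Induced
import Cfsg.Agent.Lib.PGroups.BSW.Facts
import Cfsg.Agent.Lib.Char.DefectZero
import Cfsg.Agent.Lib.Char.Brauer

/-!
# Coefficients of the induced virtual characters
-/

set_option autoImplicit false

namespace CfsgLib.PGroups.BSW

open Subgroup CfsgLib.Char
open scoped ComplexConjugate

variable {G : Type*} [Group G] [Fintype G] {K : Subgroup G}

/-- The coefficient of `χ` in the virtual character induced from `1 - l`. -/
noncomputable def co (l : ↥K →* ℂˣ) (χ : Cfsg.IrrCharacter G) : ℤ :=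
  (IsGen.exists_classInner_eq_intCast (isGen_Phi l) (IsGen.of_irr χ.2)).choose

theorem co_spec (l : ↥K →* ℂˣ) (χ : Cfsg.IrrCharacter G) :
    Cfsg.classInner (Phi l) (χ : G → ℂ) = (co l χ : ℂ) :=
  (IsGen.exists_classInner_eq_intCast (isGen_Phi l) (IsGen.of_irr χ.2)).choose_spec

/-- The trivial character. -/
noncomputable def trivialIrr (G : Type*) [Group G] : Cfsg.IrrCharacter G :=
  ⟨fun g => (((1 : G →* ℂˣ) g : ℂˣ) : ℂ), isIrrCharacter_linear 1⟩

theorem trivialIrr_apply (g : G) : (trivialIrr G : G → ℂ) g = 1 := rfl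

theorem co_trivial [Fintype ↥K] {l : ↥K →* ℂˣ} (hl : l ≠ 1) : co l (trivialIrr G) = 1 := by
  have h := co_spec l (trivialIrr G)
  rw [show ((trivialIrr G : Cfsg.IrrCharacter G) : G → ℂ) = fun _ => (1 : ℂ) from rfl,
    Config.classInner_Phi_one hl] at h
  exact_mod_cast h.symm

theorem Phi_eq_sum [Fintype (Cfsg.IrrCharacter G)] (l : ↥K →* ℂˣ) (g : G) :
    Phi l g = ∑ χ : Cfsg.IrrCharacter G, (co l χ : ℂ) * (χ : G → ℂ) g := by
  rw [classFunction_apply_eq_sum (IsGen.isClassFunction (isGen_Phi l)) g]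
  simp only [co_spec]

theorem sum_co_mul [Fintype (Cfsg.IrrCharacter G)] (l m : ↥K →* ℂˣ) :
    ((∑ χ : Cfsg.IrrCharacter G, co l χ * co m χ : ℤ) : ℂ) = Cfsg.classInner (Phi l) (Phi m) := by
  rw [classInner_eq_sum (IsGen.isClassFunction (isGen_Phi l))]
  simp only [co_spec]
  push_cast
  exact Finset.sum_congr rfl fun χ _ => by rw [map_intCast]

/-- A function on an abelian subgroup orthogonal to all linear characters vanishes. -/
theorem eq_zero_of_sum_hom [Fintype ↥K] (hK : IsMulCommutative ↥K) {h : ↥K → ℂ}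
    (h0 : ∀ l : ↥K →* ℂˣ, ∑ x : ↥K, (l x : ℂ) * h x = 0) : h = 0 := by
  refine eq_zero_of_classInner_eq_zero (fun g x => ?_) fun χ => ?_
  · rw [show x * g * x⁻¹ = g by rw [hK.is_comm.comm x g, mul_inv_cancel_right]]
  · obtain ⟨l, hl⟩ := exists_hom hK χ
    rw [hl, Cfsg.classInner]
    have h1 : ∑ x : ↥K, h x * conj (l x : ℂ) = ∑ x : ↥K, ((l⁻¹ x : ℂˣ) : ℂ) * h x :=
      Finset.sum_congr rfl fun x _ => by
        rw [← map_inv_eq_conj, map_inv, MonoidHom.inv_apply, mul_comm]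
    simp only [h1, h0, mul_zero]

/-- The restriction to `K` of a character from its coefficients. -/
theorem restrict_eq [Fintype ↥K] (hK : IsMulCommutative ↥K) (χ : Cfsg.IrrCharacter G) (c : ℤ)
    (ψ : ↥K → ℂ)
    (hψ : ∀ l : ↥K →* ℂˣ, l ≠ 1 →
      ∑ x : ↥K, ψ x - ∑ x : ↥K, (l x : ℂ) * ψ x = (Nat.card ↥K : ℂ) * ((c * co l χ : ℤ) : ℂ))
    (x : ↥K) (hx : x ≠ 1) : conj ((c : ℂ) * (χ : G → ℂ) x) = ψ x := by
  classical
  set g : ↥K → ℂ := fun x => conj ((c : ℂ) * (χ : G → ℂ) x) with hg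
  set a : ℂ := ∑ x : ↥K, g x - ∑ x : ↥K, ψ x with ha
  have hdiff : ∀ l : ↥K →* ℂˣ, ∑ x : ↥K, g x - ∑ x : ↥K, (l x : ℂ) * g x =
      (Nat.card ↥K : ℂ) * ((c * co l χ : ℤ) : ℂ) := fun l => by
    push_cast
    rw [← co_spec l χ, Config.classInner_Phi l (IsIrr.isClassFunction χ.2), ← Finset.sum_sub_distrib]
    rw [mul_left_comm (c : ℂ), ← mul_assoc, mul_inv_cancel₀ (Nat.cast_ne_zero.mpr Nat.card_pos.ne'),
      one_mul, Finset.mul_sum]
    refine Finset.sum_congr rfl fun x _ => ?_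
    simp only [hg, map_mul, map_intCast]
    ring
  have h0 : (fun x => g x - ψ x - if x = 1 then a else 0) = 0 := by
    refine eq_zero_of_sum_hom hK fun l => ?_
    simp only [mul_sub, mul_ite, mul_zero, Finset.sum_sub_distrib, Finset.sum_ite_eq',
      Finset.mem_univ, if_true, map_one, Units.val_one, one_mul]
    by_cases hl : l = 1
    · subst hl
      simp [ha]
    · linear_combination (-1 : ℂ) * hdiff l + hψ l hl + (-1 : ℂ) * ha
  have := congrFun h0 x
  have h' : g x = ψ x := by simpa [hx, sub_eq_zero] using this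
  exact h'

namespace Config

variable {t s : G} (C : Config t s K)

include C

theorem Phi_inv (l : ↥K →* ℂˣ) : Phi l⁻¹ = Phi l := by
  funext z
  by_cases hz : ConjInto K z
  · obtain ⟨hz1, g, hg⟩ := hz
    rw [← IsGen.isClassFunction (isGen_Phi l) z g, ← IsGen.isClassFunction (isGen_Phi l⁻¹) z g,
      C.Phi_of_mem _ hg (fun h => hz1 (conj_eq_one_iff.mp h)),
      C.Phi_of_mem _ hg (fun h => hz1 (conj_eq_one_iff.mp h))]
    simp only [MonoidHom.inv_apply, map_inv, inv_inv]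
    ring
  · rw [C.Phi_zero l hz, C.Phi_zero l⁻¹ hz]

theorem co_inv (l : ↥K →* ℂˣ) (χ : Cfsg.IrrCharacter G) : co l⁻¹ χ = co l χ := by
  have h := co_spec l⁻¹ χ
  rw [C.Phi_inv, co_spec] at h
  exact_mod_cast h.symm

/-- The identity of the involution class: `∑ co(χ) χ(t)² / χ(1) = 4k³/|G|`. -/
theorem sum_co_sq_div [Fintype (Cfsg.IrrCharacter G)] [Fintype ↥K] {l : ↥K →* ℂˣ} (hl : l ≠ 1) :
    (Nat.card G : ℂ) * ∑ χ : Cfsg.IrrCharacter G,
        (co l χ : ℂ) * ((χ : G → ℂ) t * (χ : G → ℂ) t / (χ : G → ℂ) 1) =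
      4 * (Nat.card ↥K : ℂ) ^ 3 := by
  classical
  set F : G → ℂ := fun w => ∑ χ : Cfsg.IrrCharacter G,
    (χ : G → ℂ) t * (χ : G → ℂ) t * (χ : G → ℂ) w / (χ : G → ℂ) 1 with hF
  have hFc : Cfsg.IsClassFunction G F := fun g x => by
    simp only [hF, fun χ : Cfsg.IrrCharacter G => IsIrr.isClassFunction χ.2 g x]
  have htreal : ∀ χ : Cfsg.IrrCharacter G, conj ((χ : G → ℂ) t) = (χ : G → ℂ) t := fun χ => by
    rw [← IsIrr.map_inv χ.2, CfsgLib.Signalizer.involution_inv C.ht]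
  have h1real : ∀ χ : Cfsg.IrrCharacter G, conj ((χ : G → ℂ) 1) = (χ : G → ℂ) 1 := fun χ => by
    rw [← IsIrr.map_inv χ.2, inv_one]
  have e1 : Cfsg.classInner (Phi l) F = ∑ χ : Cfsg.IrrCharacter G,
      (co l χ : ℂ) * ((χ : G → ℂ) t * (χ : G → ℂ) t / (χ : G → ℂ) 1) := by
    simp only [Cfsg.classInner, hF, map_sum, Finset.mul_sum]
    rw [Finset.sum_comm]
    refine Finset.sum_congr rfl fun χ _ => ?_
    rw [← co_spec, Cfsg.classInner, Finset.mul_sum, Finset.sum_mul]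
    refine Finset.sum_congr rfl fun w _ => ?_
    simp only [map_div₀, map_mul, htreal, h1real]
    ring
  have e2 : (Nat.card G : ℂ) * Cfsg.classInner (Phi l) F = 4 * (Nat.card ↥K : ℂ) ^ 3 := by
    rw [classInner_Phi l hFc, mul_left_comm, Finset.mul_sum]
    have hterm : ∀ x : ↥K, (Nat.card G : ℂ) * ((1 - (l x : ℂ)) * conj (F x)) =
        4 * (Nat.card ↥K : ℂ) ^ 3 * (1 - (l x : ℂ)) := by
      intro x
      rcases eq_or_ne x 1 with rfl | hx
      · simp
      · have hS := congrArg conj (C.sum_char_eq (x : G))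
        rw [C.card_pairs_of_mem x.2 (fun h => hx (Subtype.ext h))] at hS
        simp only [map_mul, map_natCast, map_ofNat, map_pow] at hS
        rw [mul_left_comm, hS]
        ring
    rw [Finset.sum_congr rfl fun x _ => hterm x, ← Finset.mul_sum, Finset.sum_sub_distrib,
      sum_hom, if_neg hl, Finset.sum_const, Finset.card_univ, nsmul_eq_mul, mul_one, sub_zero,
      ← Nat.card_eq_fintype_card]
    have hk : (Nat.card ↥K : ℂ) ≠ 0 := Nat.cast_ne_zero.mpr Nat.card_pos.ne'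
    field_simp
  rw [← e1, e2]

end Config

/-- A character whose degree carries the full `r`-part for each `r ∣ m` vanishes off `m'`. -/
theorem eq_zero_of_not_coprime {m a d : ℕ} (χ : Cfsg.IrrCharacter G) (hd : (χ : G → ℂ) 1 = d)
    (hg : Nat.card G = a * m) (hcop : m.Coprime a) (hmd : m ∣ d) {z : G}
    (hz : ¬ (orderOf z).Coprime m) : (χ : G → ℂ) z = 0 := by
  obtain ⟨r, hr, hr1, hr2⟩ := Nat.Prime.not_coprime_iff_dvd.mp hz
  obtain ⟨N, ρ, hρ, hχ⟩ := χ.2
  have := hρ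
  have hfin : Module.finrank ℂ (Fin N → ℂ) = d := by
    have e := congrFun hχ 1
    rw [Representation.char_one, hd] at e
    exact_mod_cast e
  rw [← hχ]
  refine CfsgLib.Char.character_eq_zero_of_defect_zero
    (fun θ hθ hE => CfsgLib.Brauer.isGeneralizedCharacter_of_elementary hθ hE) ρ hr
    (Nat.ordProj_dvd _ _) (Nat.pow_succ_factorization_not_dvd Nat.card_pos.ne' hr) ?_ hr1
  rw [hfin]
  refine dvd_trans ?_ hmd
  have hra : r.Coprime a := hcop.coprime_dvd_left hr2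
  exact (hra.pow_left _).dvd_of_dvd_mul_left (hg ▸ Nat.ordProj_dvd (Nat.card G) r)

end CfsgLib.PGroups.BSW
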