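import Mathlib.GroupTheory.Index
import Mathlib.GroupTheory.Coset.Card
import Mathlib.GroupTheory.GroupAction.Quotient
import Mathlib.Algebra.BigOperators.Fin
import Mathlib.Data.Fintype.BigOperators
import Mathlib.Tactic.Group
import Mathlib.Tactic.Linarith
import Mathlib.Tactic.Push

/-!
# Elements conjugate into a trivial-intersection subgroup
-/

set_option autoImplicit false

namespace CfsgLib.PGroups.BSW

variable {G : Type*} [Group G]

/-- The nonidentity elements conjugate into `S`. -/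
def ConjInto (S : Subgroup G) (z : G) : Prop := z ≠ 1 ∧ ∃ g : G, g * z * g⁻¹ ∈ S

theorem conjInto_of_mem {S : Subgroup G} {z : G} (hz : z ∈ S) (h1 : z ≠ 1) : ConjInto S z :=
  ⟨h1, 1, by simpa using hz⟩

theorem conjInto_conj {S : Subgroup G} {z : G} (g : G) :
    ConjInto S (g * z * g⁻¹) ↔ ConjInto S z := by
  constructor
  · rintro ⟨h1, a, ha⟩
    exact ⟨fun h => h1 (by rw [h, mul_one, mul_inv_cancel]), a * g, by
      rwa [show a * g * z * (a * g)⁻¹ = a * (g * z * g⁻¹) * a⁻¹ by group]⟩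
  · rintro ⟨h1, a, ha⟩
    exact ⟨fun h => h1 (conj_eq_one_iff.mp h), a * g⁻¹, by
      rwa [show a * g⁻¹ * (g * z * g⁻¹) * (a * g⁻¹)⁻¹ = a * z * a⁻¹ by group]⟩

variable [Fintype G] {S N : Subgroup G}

open scoped Classical in
/-- A class function summed over the elements conjugate into a TI subgroup. -/
theorem sum_conjInto (hTI : ∀ g x : G, x ∈ S → x ≠ 1 → g * x * g⁻¹ ∈ S → g ∈ N)
    (hN : ∀ g ∈ N, ∀ x ∈ S, g * x * g⁻¹ ∈ S) {M : Type*} [AddCommMonoid M] (F : G → M)
    (hF : ∀ g x : G, F (g * x * g⁻¹) = F x) :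
    ∑ z ∈ Finset.univ.filter (fun z => ConjInto S z), F z =
      N.index • ∑ x ∈ Finset.univ.filter (fun x => x ∈ S ∧ x ≠ 1), F x := by
  have hidx : N.index = (Finset.univ : Finset (G ⧸ N)).card := by
    rw [Finset.card_univ, Fintype.card_eq_nat_card]; rfl
  rw [hidx, ← Finset.sum_const, ← Finset.sum_product']
  symm
  refine Finset.sum_bij (fun p _ => Quotient.out p.1 * p.2 * (Quotient.out p.1)⁻¹)
    ?_ ?_ ?_ ?_
  · rintro ⟨c, x⟩ h
    simp only [Finset.mem_product, Finset.mem_filter, Finset.mem_univ, true_and] at h ⊢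
    exact (conjInto_conj _).mpr (conjInto_of_mem h.1 h.2)
  · rintro ⟨c, x⟩ h ⟨d, y⟩ h' he
    simp only [Finset.mem_product, Finset.mem_filter, Finset.mem_univ, true_and] at h h' he
    have hxy : (Quotient.out d)⁻¹ * Quotient.out c * x * ((Quotient.out d)⁻¹ * Quotient.out c)⁻¹
        = y := by
      calc (Quotient.out d)⁻¹ * Quotient.out c * x * ((Quotient.out d)⁻¹ * Quotient.out c)⁻¹
          = (Quotient.out d)⁻¹ * (Quotient.out c * x * (Quotient.out c)⁻¹) * Quotient.out d := by
            group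
        _ = y := by rw [he]; group
    have hmem := hTI _ x h.1 h.2 (by rw [hxy]; exact h'.1)
    have hcd : d = c := by
      rw [← QuotientGroup.out_eq' d, ← QuotientGroup.out_eq' c, QuotientGroup.eq]
      exact hmem
    subst hcd
    simp only [inv_mul_cancel, one_mul, inv_one, mul_one] at hxy
    rw [hxy]
  · intro z hz
    simp only [Finset.mem_filter, Finset.mem_univ, true_and] at hz
    obtain ⟨hz1, g, hg⟩ := hz
    obtain ⟨n, hn⟩ := QuotientGroup.mk_out_eq_mul N g⁻¹
    refine ⟨(QuotientGroup.mk g⁻¹, (n : G)⁻¹ * (g * z * g⁻¹) * n), ?_, ?_⟩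
    · simp only [Finset.mem_product, Finset.mem_filter, Finset.mem_univ, true_and]
      refine ⟨?_, fun h => hz1 ?_⟩
      · simpa using hN (n : G)⁻¹ (inv_mem n.2) _ hg
      · calc z = g⁻¹ * n * ((n : G)⁻¹ * (g * z * g⁻¹) * n) * (n : G)⁻¹ * g := by group
          _ = 1 := by rw [h]; group
    · simp only [hn]
      group
  · rintro ⟨c, x⟩ _
    exact (hF _ _).symm

open scoped Classical in
theorem card_conjInto (hTI : ∀ g x : G, x ∈ S → x ≠ 1 → g * x * g⁻¹ ∈ S → g ∈ N)
    (hN : ∀ g ∈ N, ∀ x ∈ S, g * x * g⁻¹ ∈ S) :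
    (Finset.univ.filter (fun z => ConjInto S z)).card = N.index * (Nat.card S - 1) := by
  have h := sum_conjInto hTI hN (fun _ => (1 : ℕ)) (fun _ _ => rfl)
  simp only [Finset.sum_const, smul_eq_mul, mul_one] at h
  rw [h]
  congr 1
  have : Finset.univ.filter (fun x : G => x ∈ S ∧ x ≠ 1) =
      (Finset.univ.filter (fun x : G => x ∈ S)).erase 1 := by
    ext x; simp [and_comm]
  rw [this, Finset.card_erase_of_mem (by simp), Nat.card_eq_fintype_card, Fintype.card_subtype]

/-- A finite group in which each element `≠ 1` lies in a self-normalizing TI subgroup contained in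
its centralizer is abelian. -/
theorem commute_of_selfNormalizing
    (hA : ∀ a : G, a ≠ 1 → ∀ x y : G, x * a = a * x → y * a = a * y → x * y = y * x)
    (hSN : ∀ a : G, a ≠ 1 → ∀ g : G,
      (∀ x ∈ Subgroup.centralizer ({a} : Set G), g * x * g⁻¹ ∈ Subgroup.centralizer ({a} : Set G)) →
        g ∈ Subgroup.centralizer ({a} : Set G)) :
    ∀ x y : G, x * y = y * x := by
  classical
  intro x y
  by_cases hx : x = 1
  · rw [hx, one_mul, mul_one]
  set B : G → Subgroup G := fun a => Subgroup.centralizer ({a} : Set G) with hB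
  -- centralizers of nontrivial elements coincide when they meet
  have hmeet : ∀ a b : G, a ≠ 1 → b ≠ 1 → b ∈ B a → B b = B a := by
    intro a b ha hb hba
    ext z
    have hba' : b * a = a * b := Subgroup.mem_centralizer_singleton_iff.mp hba
    simp only [hB, Subgroup.mem_centralizer_singleton_iff]
    exact ⟨fun h => hA b hb z a h hba'.symm, fun h => hA a ha z b h hba'⟩
  have hTI : ∀ a : G, a ≠ 1 → ∀ g z : G, z ∈ B a → z ≠ 1 → g * z * g⁻¹ ∈ B a → g ∈ B a := by
    intro a ha g z hz hz1 hgz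
    have e1 := hmeet a z ha hz1 hz
    have e2 := hmeet a _ ha (fun h => hz1 (conj_eq_one_iff.mp h)) hgz
    refine hSN a ha g fun w hw => ?_
    have hw' : w ∈ B z := e1.symm ▸ hw
    show g * w * g⁻¹ ∈ B a
    rw [← e2]
    simp only [hB, Subgroup.mem_centralizer_singleton_iff] at hw' ⊢
    calc g * w * g⁻¹ * (g * z * g⁻¹) = g * (w * z) * g⁻¹ := by group
      _ = g * (z * w) * g⁻¹ := by rw [hw']
      _ = g * z * g⁻¹ * (g * w * g⁻¹) := by group
  have hcount : ∀ a : G, a ≠ 1 →
      (Finset.univ.filter (fun z => ConjInto (B a) z)).card * 2 ≥ Nat.card G ∧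
        ((B a).index ≠ 1 → (Finset.univ.filter (fun z => ConjInto (B a) z)).card + 1 < Nat.card G) := by
    intro a ha
    rw [card_conjInto (hTI a ha) (fun g hg z hz => mul_mem (mul_mem hg hz) (inv_mem hg))]
    have hcard := (B a).index_mul_card
    have h2 : 2 ≤ Nat.card (B a) := by
      by_contra h
      have h1 : Nat.card (B a) = 1 := by
        have := Nat.card_pos (α := B a); omega
      exact ha (Subgroup.card_eq_one.mp h1 ▸
        Subgroup.mem_centralizer_singleton_iff.mpr rfl : a ∈ (⊥ : Subgroup G))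
    have hi : 0 < (B a).index := Nat.pos_of_ne_zero Subgroup.index_ne_zero_of_finite
    obtain ⟨m, hm⟩ := Nat.exists_eq_add_of_le h2
    rw [hm] at hcard ⊢
    rw [show 2 + m - 1 = m + 1 by omega]
    refine ⟨by nlinarith, fun h => ?_⟩
    have : 2 ≤ (B a).index := by omega
    nlinarith
  by_contra hne
  have hyx : y ∉ B x := fun h => hne (Subgroup.mem_centralizer_singleton_iff.mp h).symm
  have hidx : (B x).index ≠ 1 := fun h => hyx (Subgroup.index_eq_one.mp h ▸ Subgroup.mem_top y)
  obtain ⟨h1, h1'⟩ := hcount x hx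
  obtain ⟨y', hy'1, hy'⟩ : ∃ y' : G, y' ≠ 1 ∧ ¬ ConjInto (B x) y' := by
    by_contra h
    push Not at h
    have : (Finset.univ.filter (fun z => ConjInto (B x) z)).card + 1 = Nat.card G := by
      rw [Finset.filter_congr (q := fun z => z ≠ 1) (fun z _ => ⟨fun hz => hz.1, h z⟩),
        Finset.filter_ne', Finset.card_erase_of_mem (Finset.mem_univ _), Finset.card_univ,
        ← Nat.card_eq_fintype_card]
      have := Nat.card_pos (α := G)
      omega
    have := h1' hidx
    omega
  have hdis : Disjoint (Finset.univ.filter (fun z => ConjInto (B x) z))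
      (Finset.univ.filter (fun z => ConjInto (B y') z)) := by
    rw [Finset.disjoint_filter]
    rintro z - ⟨hz1, g, hg⟩ ⟨-, g', hg'⟩
    apply hy'
    have e1 := hmeet x _ hx (fun h => hz1 (conj_eq_one_iff.mp h)) hg
    have e2 := hmeet y' _ hy'1 (fun h => hz1 (conj_eq_one_iff.mp h)) hg'
    have hy'mem : y' ∈ B (g' * z * g'⁻¹) := e2 ▸ Subgroup.mem_centralizer_singleton_iff.mpr rfl
    refine ⟨hy'1, g * g'⁻¹, ?_⟩
    rw [← e1]
    simp only [hB, Subgroup.mem_centralizer_singleton_iff] at hy'mem ⊢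
    calc g * g'⁻¹ * y' * (g * g'⁻¹)⁻¹ * (g * z * g⁻¹)
        = g * g'⁻¹ * (y' * (g' * z * g'⁻¹)) * (g * g'⁻¹)⁻¹ := by group
      _ = g * g'⁻¹ * (g' * z * g'⁻¹ * y') * (g * g'⁻¹)⁻¹ := by rw [hy'mem]
      _ = g * z * g⁻¹ * (g * g'⁻¹ * y' * (g * g'⁻¹)⁻¹) := by group
  obtain ⟨h2, -⟩ := hcount y' hy'1
  have hsub : Finset.univ.filter (fun z => ConjInto (B x) z) ∪
      Finset.univ.filter (fun z => ConjInto (B y') z) ⊆ Finset.univ.erase (1 : G) := by
    intro z hz
    simp only [Finset.mem_union, Finset.mem_filter, Finset.mem_univ, true_and] at hz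
    exact Finset.mem_erase.mpr ⟨hz.elim (·.1) (·.1), Finset.mem_univ _⟩
  have := Finset.card_le_card hsub
  rw [Finset.card_union_of_disjoint hdis, Finset.card_erase_of_mem (Finset.mem_univ _),
    Finset.card_univ, ← Nat.card_eq_fintype_card] at this
  have := Nat.card_pos (α := G)
  omega

end CfsgLib.PGroups.BSW
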