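import Cfsg.Agent.Lib.PGroups.BSW.Coef
import Mathlib.Tactic.IntervalCases

/-!
# Decomposition of the induced virtual characters, and the order formula
-/

set_option autoImplicit false

namespace CfsgLib.PGroups.BSW

open Subgroup CfsgLib.Char
open scoped ComplexConjugate

variable {G : Type*} [Group G] [Fintype G] {t s : G} {K : Subgroup G}

/-- The two further constituents from the norm. -/
theorem exists_pair_of_sum_sq {ι : Type*} [DecidableEq ι] (E : Finset ι) (m : ι → ℤ)
    (h : ∑ i ∈ E, m i * m i = 2) :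
    ∃ a ∈ E, ∃ b ∈ E, a ≠ b ∧ m a * m a = 1 ∧ m b * m b = 1 ∧
      ∀ i ∈ E, i ≠ a → i ≠ b → m i = 0 := by
  have hle : ∀ i ∈ E, m i * m i ≤ 1 := by
    intro i hi
    by_contra hlt
    have h1 := Finset.single_le_sum (f := fun i => m i * m i) (fun j _ => mul_self_nonneg (m j)) hi
    have h2 : (m i).natAbs * (m i).natAbs ≤ 2 := by
      have : ((m i).natAbs : ℤ) * (m i).natAbs ≤ 2 := by rw [← Int.natCast_mul, Int.natAbs_mul_self]; omega
      exact_mod_cast this
    have h3 : (m i).natAbs ≤ 1 := by nlinarith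
    have h4 : m i * m i = ((m i).natAbs * (m i).natAbs : ℕ) := Int.natAbs_mul_self.symm
    have h5 : (m i).natAbs * (m i).natAbs ≤ 1 := Nat.mul_le_mul h3 h3
    omega
  obtain ⟨a, ha, ha0⟩ : ∃ a ∈ E, m a ≠ 0 := by
    by_contra h0
    push Not at h0
    rw [Finset.sum_eq_zero fun i hi => by rw [h0 i hi, mul_zero]] at h
    norm_num at h
  have ha1 : m a * m a = 1 := by
    have := mul_self_pos.mpr ha0
    have := hle a ha
    omega
  rw [← Finset.add_sum_erase _ _ ha, ha1] at h
  obtain ⟨b, hb, hb0⟩ : ∃ b ∈ E.erase a, m b ≠ 0 := by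
    by_contra h0
    push Not at h0
    rw [Finset.sum_eq_zero fun i hi => by rw [h0 i hi, mul_zero]] at h
    norm_num at h
  have hbE := Finset.mem_of_mem_erase hb
  have hb1 : m b * m b = 1 := by
    have := mul_self_pos.mpr hb0
    have := hle b hbE
    omega
  rw [← Finset.add_sum_erase _ _ hb, hb1] at h
  have hrest : ∑ i ∈ (E.erase a).erase b, m i * m i = 0 := by omega
  refine ⟨a, ha, b, hbE, fun e => (Finset.mem_erase.mp hb).1 e.symm, ha1, hb1, fun i hi hia hib => ?_⟩
  exact mul_self_eq_zero.mp ((Finset.sum_eq_zero_iff_of_nonneg fun j _ => mul_self_nonneg (m j)).mp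
    hrest i (Finset.mem_erase.mpr ⟨hib, Finset.mem_erase.mpr ⟨hia, hi⟩⟩))

/-- A constituent with sign, as a generalized character. -/
noncomputable def signed (c : ℤ) (χ : Cfsg.IrrCharacter G) : G → ℂ := fun g => (c : ℂ) * (χ : G → ℂ) g

/-- A nonreal character: `1 + R + P`. -/
structure Split (l : ↥K →* ℂˣ) (a b : Cfsg.IrrCharacter G) : Prop where
  a1 : a ≠ trivialIrr G
  b1 : b ≠ trivialIrr G
  ne : a ≠ b
  sqa : co l a * co l a = 1
  sqb : co l b * co l b = 1
  eq : ∀ g, Phi l g = 1 + signed (co l a) a g + signed (co l b) b g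
  zero : ∀ χ, χ ≠ trivialIrr G → χ ≠ a → χ ≠ b → co l χ = 0

namespace Config

variable (C : Config t s K)

include C

open scoped Classical in
theorem sum_erase_co [Fintype (Cfsg.IrrCharacter G)] [Fintype ↥K] {l m : ↥K →* ℂˣ} (hl : l ≠ 1)
    (hm : m ≠ 1) :
    ∑ χ ∈ Finset.univ.erase (trivialIrr G), co l χ * co m χ =
      1 + (if l = m then 1 else 0) + (if l * m = 1 then 1 else 0) := by
  have h : (∑ χ : Cfsg.IrrCharacter G, co l χ * co m χ) =
      2 + (if l = m then 1 else 0) + (if l * m = 1 then 1 else 0) := by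
    have := sum_co_mul l m
    rw [C.classInner_Phi_Phi hl hm] at this
    have h' : ((∑ χ : Cfsg.IrrCharacter G, co l χ * co m χ : ℤ) : ℂ) =
        ((2 + (if l = m then 1 else 0) + (if l * m = 1 then 1 else 0) : ℤ) : ℂ) := by
      rw [this]; push_cast; congr!
    exact_mod_cast h'
  rw [← Finset.add_sum_erase _ _ (Finset.mem_univ (trivialIrr G)), co_trivial hl, co_trivial hm] at h
  linarith

theorem exists_split [Fintype ↥K] {l : ↥K →* ℂˣ} (hl : l * l ≠ 1) :
    ∃ a b : Cfsg.IrrCharacter G, Split l a b := by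
  classical
  have := Fintype.ofFinite (Cfsg.IrrCharacter G)
  have hl1 : l ≠ 1 := fun h => hl (by subst h; ext x; simp)
  have h := C.sum_erase_co hl1 hl1
  rw [if_pos rfl, if_neg hl] at h
  obtain ⟨a, ha, b, hb, hab, h1, h2, h0⟩ := exists_pair_of_sum_sq _ _ (h.trans (by norm_num))
  refine ⟨a, b, (Finset.mem_erase.mp ha).1, (Finset.mem_erase.mp hb).1, hab, h1, h2, fun g => ?_,
    fun χ hχ hχa hχb => h0 χ (Finset.mem_erase.mpr ⟨hχ, Finset.mem_univ _⟩) hχa hχb⟩
  rw [Phi_eq_sum, ← Finset.add_sum_erase _ _ (Finset.mem_univ (trivialIrr G)), co_trivial hl1,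
    trivialIrr_apply, Int.cast_one, one_mul, add_assoc]
  congr 1
  rw [← Finset.add_sum_erase _ _ ha, ← Finset.add_sum_erase _ _
    (Finset.mem_erase.mpr ⟨hab.symm, hb⟩), Finset.sum_eq_zero, add_zero]
  · rfl
  · intro χ hχ
    simp only [Finset.mem_erase] at hχ
    rw [h0 χ (Finset.mem_erase.mpr hχ.2.2) hχ.2.1 hχ.1, Int.cast_zero, zero_mul]

omit C in
theorem split_symm {l : ↥K →* ℂˣ} {a b : Cfsg.IrrCharacter G} (S : Split l a b) : Split l b a :=
  ⟨S.b1, S.a1, S.ne.symm, S.sqb, S.sqa, fun g => by rw [S.eq g]; ring,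
    fun χ h1 h2 h3 => S.zero χ h1 h3 h2⟩

omit C in
theorem split_deg {l : ↥K →* ℂˣ} {a b : Cfsg.IrrCharacter G} (S : Split l a b) {da db : ℕ}
    (ha : (a : G → ℂ) 1 = da) (hb : (b : G → ℂ) 1 = db) :
    1 + co l a * da + co l b * db = 0 := by
  have h := S.eq 1
  rw [Phi, indFun_apply_one, oneSub, map_one, Units.val_one, sub_self, mul_zero, signed, signed,
    ha, hb] at h
  exact_mod_cast h.symm

/-- Outside `{λ, λ⁻¹}` exactly one of the two constituents is met, with the same sign. -/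
theorem one_of_two [Fintype ↥K] {l m : ↥K →* ℂˣ} {a b : Cfsg.IrrCharacter G} (S : Split l a b)
    (hl : l * l ≠ 1) (hm : m ≠ 1) (h1 : l ≠ m) (h2 : l * m ≠ 1) :
    (co l a * co m a = 1 ∧ co m b = 0) ∨ (co m a = 0 ∧ co l b * co m b = 1) := by
  classical
  have := Fintype.ofFinite (Cfsg.IrrCharacter G)
  have hl1 : l ≠ 1 := fun h => hl (by subst h; ext x; simp)
  have hlm := C.sum_erase_co hl1 hm
  have hmm := C.sum_erase_co hm hm
  rw [if_neg h1, if_neg h2] at hlm
  have ha : a ∈ Finset.univ.erase (trivialIrr G) := Finset.mem_erase.mpr ⟨S.a1, Finset.mem_univ _⟩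
  have hb : b ∈ (Finset.univ.erase (trivialIrr G)).erase a :=
    Finset.mem_erase.mpr ⟨S.ne.symm, Finset.mem_erase.mpr ⟨S.b1, Finset.mem_univ _⟩⟩
  rw [← Finset.add_sum_erase _ _ ha, ← Finset.add_sum_erase _ _ hb, Finset.sum_eq_zero, add_zero]
    at hlm
  swap
  · intro χ hχ
    simp only [Finset.mem_erase, Finset.mem_univ, and_true] at hχ
    rw [S.zero χ hχ.2.2 hχ.2.1 hχ.1, zero_mul]
  rw [← Finset.add_sum_erase _ _ ha, ← Finset.add_sum_erase _ _ hb] at hmm
  have hrest : 0 ≤ ∑ χ ∈ ((Finset.univ.erase (trivialIrr G)).erase a).erase b, co m χ * co m χ :=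
    Finset.sum_nonneg fun χ _ => mul_self_nonneg _
  have hbound : co m a * co m a + co m b * co m b ≤ 3 := by
    have : (if m = m then (1 : ℤ) else 0) + (if m * m = 1 then 1 else 0) ≤ 2 := by
      split_ifs <;> norm_num
    linarith
  set x := co l a * co m a with hx
  set y := co l b * co m b with hy
  have hx2 : x * x = co m a * co m a := by
    rw [hx, show co l a * co m a * (co l a * co m a) = co l a * co l a * (co m a * co m a) by ring,
      S.sqa, one_mul]
  have hy2 : y * y = co m b * co m b := by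
    rw [hy, show co l b * co m b * (co l b * co m b) = co l b * co l b * (co m b * co m b) by ring,
      S.sqb, one_mul]
  have hx01 : x = 0 ∨ x = 1 := by
    have hy' : y = 1 - x := by linarith
    have : x * x + (1 - x) * (1 - x) ≤ 3 := by rw [hy'] at hy2; linarith
    have h5 : 0 ≤ x := by nlinarith
    have h6 : x ≤ 1 := by nlinarith
    omega
  rcases hx01 with h | h
  · right
    refine ⟨mul_self_eq_zero.mp (by rw [← hx2, h, mul_zero]), by linarith⟩
  · left
    refine ⟨h, mul_self_eq_zero.mp (by rw [← hy2, show y = 0 by linarith, mul_zero])⟩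

/-- The equation of the involution class. -/
theorem split_equation [Fintype ↥K] {l : ↥K →* ℂˣ} (hl : l * l ≠ 1)
    {a b : Cfsg.IrrCharacter G} (S : Split l a b) :
    (Nat.card G : ℂ) * (1 + signed (co l a) a t ^ 2 / signed (co l a) a 1 +
      signed (co l b) b t ^ 2 / signed (co l b) b 1) = 4 * (Nat.card ↥K : ℂ) ^ 3 := by
  classical
  have := Fintype.ofFinite (Cfsg.IrrCharacter G)
  have hl1 : l ≠ 1 := fun h => hl (by subst h; ext x; simp)
  rw [← C.sum_co_sq_div hl1]
  congr 1
  have ha : a ∈ Finset.univ.erase (trivialIrr G) := Finset.mem_erase.mpr ⟨S.a1, Finset.mem_univ _⟩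
  have hb : b ∈ (Finset.univ.erase (trivialIrr G)).erase a :=
    Finset.mem_erase.mpr ⟨S.ne.symm, Finset.mem_erase.mpr ⟨S.b1, Finset.mem_univ _⟩⟩
  rw [← Finset.add_sum_erase _ _ (Finset.mem_univ (trivialIrr G)), ← Finset.add_sum_erase _ _ ha,
    ← Finset.add_sum_erase _ _ hb, Finset.sum_eq_zero, co_trivial hl1]
  swap
  · intro χ hχ
    simp only [Finset.mem_erase, Finset.mem_univ, and_true] at hχ
    rw [S.zero χ hχ.2.2 hχ.2.1 hχ.1, Int.cast_zero, zero_mul]
  have key : ∀ (c : ℤ) (χ : Cfsg.IrrCharacter G), c * c = 1 →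
      signed c χ t ^ 2 / signed c χ 1 = (c : ℂ) * ((χ : G → ℂ) t * (χ : G → ℂ) t / (χ : G → ℂ) 1) := by
    intro c χ hc
    rcases mul_self_eq_one_iff.mp hc with rfl | rfl <;> simp [signed, sq, div_neg]
  rw [key _ _ S.sqa, key _ _ S.sqb, trivialIrr_apply, trivialIrr_apply]
  push_cast
  ring

end Config

section Real

variable [Fintype ↥K]

theorem Config.real_unique (C : Config t s K) {m m' : ↥K →* ℂˣ} (hm : m * m = 1) (hm1 : m ≠ 1)
    (hm' : m' * m' = 1) (hm1' : m' ≠ 1) : m = m' := by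
  let sq : ↥K →* ↥K :=
    { toFun := fun x => x * x
      map_one' := mul_one 1
      map_mul' := fun x y => by
        rw [mul_assoc, ← mul_assoc y, C.comm.is_comm.comm y x]
        simp only [mul_assoc] }
  have hker : Nat.card ↥sq.ker ≤ 2 := by
    have h : (sq.ker : Set ↥K) ⊆ {1, ⟨t, C.htK⟩} := fun x hx => by
      have hx' : (x : G) * x = 1 := congrArg Subtype.val (MonoidHom.mem_ker.mp hx)
      rcases C.eq_one_or_t x.2 hx' with h | h
      · exact Or.inl (Subtype.ext h)
      · exact Or.inr (Subtype.ext h)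
    exact (Nat.card_mono (Set.toFinite _) h).trans
      (by rw [Nat.card_coe_set_eq]; exact (Set.ncard_insert_le _ _).trans (by simp))
  have hsq : ∀ {u : ↥K →* ℂˣ}, u * u = 1 → ∀ x ∈ sq.range, u x = 1 := by
    rintro u hu _ ⟨y, rfl⟩
    show u (y * y) = 1
    rw [map_mul, ← MonoidHom.mul_apply, hu, MonoidHom.one_apply]
  have hidx : sq.range.index ≤ 2 := by
    have h1 := sq.range.index_mul_card
    have h2 := sq.ker.index_mul_card
    rw [Subgroup.index_ker] at h2
    have h3 : 0 < Nat.card ↥sq.range := Nat.card_pos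
    nlinarith
  obtain ⟨y, hy⟩ : ∃ y, m y ≠ 1 := by
    by_contra h; push Not at h; exact hm1 (MonoidHom.ext h)
  have hyr : y ∉ sq.range := fun h => hy (hsq hm y h)
  have hidx2 : sq.range.index = 2 := by
    have : sq.range.index ≠ 1 := fun h => hyr (Subgroup.index_eq_one.mp h ▸ Subgroup.mem_top y)
    have := Nat.pos_of_ne_zero (Subgroup.index_ne_zero_of_finite (H := sq.range))
    omega
  have hneg : ∀ {u : ↥K →* ℂˣ}, u * u = 1 → u ≠ 1 → ∀ x, x ∉ sq.range → ((u x : ℂˣ) : ℂ) = -1 := by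
    intro u hu hu1 x hx
    have h2 : ((u x : ℂˣ) : ℂ) * (u x : ℂ) = 1 := by
      rw [← Units.val_mul, ← MonoidHom.mul_apply, hu]; rfl
    rcases mul_self_eq_one_iff.mp h2 with h | h
    · exfalso
      apply hu1
      ext z
      rw [MonoidHom.one_apply]
      by_cases hz : z ∈ sq.range
      · rw [hsq hu z hz]
      · have hzx : z * x⁻¹ ∈ sq.range := by
          rw [Subgroup.mul_mem_iff_of_index_two hidx2, inv_mem_iff]
          exact iff_of_false hz hx
        have h3 := hsq hu _ hzx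
        rw [map_mul, map_inv, show u x = 1 from Units.ext h, inv_one, mul_one] at h3
        rw [h3]
    · exact h
  ext x
  by_cases hx : x ∈ sq.range
  · rw [hsq hm x hx, hsq hm' x hx]
  · rw [hneg hm hm1 x hx, hneg hm' hm1' x hx]

end Real

end CfsgLib.PGroups.BSW
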