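import Cfsg.Agent.Lib.PGroups.BSW.Pairs
import Cfsg.Agent.Lib.Char.Virtual
import Cfsg.Agent.Lib.Char.AbelianInertia
import Cfsg.Agent.Lib.CharDegree.Basic
import Mathlib.GroupTheory.FiniteAbelian.Duality
import Mathlib.Analysis.SpecialFunctions.Complex.Circle
import Mathlib.RingTheory.RootsOfUnity.Complex

/-!
# The virtual characters induced from `1 - λ`
-/

set_option autoImplicit false

namespace CfsgLib.PGroups.BSW

open Subgroup CfsgLib.Char
open scoped ComplexConjugate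

variable {G : Type*} [Group G]

/-- `1 - λ` on `K`. -/
noncomputable def oneSub {K : Subgroup G} (l : ↥K →* ℂˣ) : ↥K → ℂ := fun x => 1 - (l x : ℂ)

/-- The induced virtual character of `1 - λ`. -/
noncomputable def Phi [Fintype G] {K : Subgroup G} (l : ↥K →* ℂˣ) : G → ℂ :=
  Cfsg.indFun K (oneSub l)

theorem isGen_Phi [Fintype G] {K : Subgroup G} (l : ↥K →* ℂˣ) :
    Cfsg.IsGeneralizedCharacter G (Phi l) := by
  refine IsGen.indFun ?_
  show Cfsg.IsGeneralizedCharacter ↥K ((1 : ↥K → ℂ) - fun x => (l x : ℂ))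
  exact IsGen.sub IsGen.one (IsGen.of_irr (isIrrCharacter_linear l))

/-- Irreducible characters of an abelian subgroup are linear. -/
theorem exists_hom [Finite G] {K : Subgroup G} (hK : IsMulCommutative ↥K)
    (χ : Cfsg.IrrCharacter ↥K) : ∃ l : ↥K →* ℂˣ, (χ : ↥K → ℂ) = fun x => (l x : ℂ) :=
  CfsgLib.CharDegree.exists_hom_of_degree_one χ
    (CfsgLib.CharDegree.charDegree_of_comm (fun a b => hK.is_comm.comm a b) χ)

theorem exists_apply_ne_one [Finite G] {K : Subgroup G} (hK : IsMulCommutative ↥K) {x : ↥K}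
    (hx : x ≠ 1) : ∃ l : ↥K →* ℂˣ, l x ≠ 1 := by
  let _ : CommGroup ↥K := { (inferInstance : Group ↥K) with mul_comm := hK.is_comm.comm }
  exact CommGroup.exists_apply_ne_one_of_hasEnoughRootsOfUnity ↥K ℂ hx

theorem map_inv_eq_conj [Finite G] {K : Subgroup G} (l : ↥K →* ℂˣ) (x : ↥K) :
    ((l x⁻¹ : ℂˣ) : ℂ) = conj (l x : ℂ) :=
  IsIrr.map_inv (isIrrCharacter_linear l) x

open scoped Classical in
theorem sum_hom {K : Subgroup G} [Fintype ↥K] (l : ↥K →* ℂˣ) :
    ∑ x : ↥K, (l x : ℂ) = if l = 1 then (Nat.card ↥K : ℂ) else 0 := by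
  by_cases h : l = 1
  · subst h; simp [Nat.card_eq_fintype_card]
  · rw [if_neg h]
    refine sum_hom_units_eq_zero ((Units.coeHom ℂ).comp l) fun h' => h ?_
    ext x
    simpa using DFunLike.congr_fun h' x

namespace Config

variable {t s : G} {K : Subgroup G} (C : Config t s K)

local notation "H" => Subgroup.centralizer (Singleton.singleton t : Set G)

include C

theorem Phi_zero [Fintype G] (l : ↥K →* ℂˣ) {z : G} (hz : ¬ ConjInto K z) : Phi l z = 0 := by
  rcases eq_or_ne z 1 with rfl | hz1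
  · rw [Phi, indFun_apply_one]; simp [oneSub]
  · simp only [Phi, Cfsg.indFun]
    rw [Finset.sum_eq_zero, mul_zero]
    intro y _
    refine extendByZero_of_notMem _ _ fun h => hz ⟨hz1, y⁻¹, ?_⟩
    simpa [mul_assoc] using h

theorem Phi_of_mem [Fintype G] (l : ↥K →* ℂˣ) {x : G} (hx : x ∈ K) (hx1 : x ≠ 1) :
    Phi l x = 2 - (l ⟨x, hx⟩ : ℂ) - (l ⟨x, hx⟩⁻¹ : ℂˣ) := by
  classical
  set a : ℂ := 1 - (l ⟨x, hx⟩ : ℂ) with ha
  set b : ℂ := 1 - ((l ⟨x, hx⟩⁻¹ : ℂˣ) : ℂ) with hb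
  have hval : ∀ y : G, Cfsg.extendByZero K (oneSub l) (y⁻¹ * x * y) =
      if y ∈ K then a else if y ∈ H then b else 0 := by
    intro y
    by_cases hyK : y ∈ K
    · rw [if_pos hyK]
      have e : y⁻¹ * x * y = x := by rw [mul_assoc, ← C.mul_comm' hyK hx, inv_mul_cancel_left]
      rw [e, extendByZero_of_mem _ _ hx]; rfl
    · rw [if_neg hyK]
      by_cases hyH : y ∈ H
      · rw [if_pos hyH]
        have e : y⁻¹ * x * y = x⁻¹ := by
          have hy2 : y⁻¹ = y := CfsgLib.Signalizer.involution_inv (C.orderOf_eq_two hyH hyK)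
          have hfix : y * x * y⁻¹ = x⁻¹ := by
            rcases C.conj_cases hyH with e | e
            · by_cases hx2 : x * x = 1
              · rw [e x hx, inv_eq_of_mul_eq_one_right hx2]
              · exact absurd (C.cent_eq hx hx2 ▸ Subgroup.mem_centralizer_singleton_iff.mpr
                  (mul_inv_eq_iff_eq_mul.mp (e x hx))) hyK
            · exact e x hx
          rw [hy2] at hfix ⊢
          exact hfix
        rw [e, extendByZero_of_mem _ _ (inv_mem hx)]
        rfl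
      · rw [if_neg hyH]
        refine extendByZero_of_notMem _ _ fun h => hyH ?_
        simpa using inv_mem (C.ti y⁻¹ x hx hx1 (by simpa using h))
  simp only [Phi, Cfsg.indFun, hval, Finset.sum_ite, Finset.sum_const_zero, add_zero,
    Finset.sum_const, nsmul_eq_mul, Finset.filter_filter]
  have h1 : ((Finset.univ.filter fun y : G => y ∈ K).card : ℂ) = (Nat.card ↥K : ℂ) := by
    rw [Nat.card_eq_fintype_card, Fintype.card_subtype]
  have h2 : ((Finset.univ.filter fun y : G => ¬y ∈ K ∧ y ∈ H).card : ℂ) = (Nat.card ↥K : ℂ) := by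
    rw [← C.card_H_diff, Nat.card_eq_fintype_card, Fintype.card_subtype]
    simp only [and_comm]
  rw [h1, h2, ← mul_add, ← mul_assoc, inv_mul_cancel₀ (Nat.cast_ne_zero.mpr Nat.card_pos.ne'),
    one_mul, ha, hb]
  ring

theorem Phi_t [Fintype G] (l : ↥K →* ℂˣ) : Phi l t = 2 - 2 * (l ⟨t, C.htK⟩ : ℂ) := by
  rw [C.Phi_of_mem l C.htK C.t_ne_one]
  have : (⟨t, C.htK⟩ : ↥K)⁻¹ = ⟨t, C.htK⟩ := Subtype.ext (CfsgLib.Signalizer.involution_inv C.ht)
  rw [this]; ring

omit C in
theorem classInner_Phi [Fintype G] [Fintype ↥K] (l : ↥K →* ℂˣ) {F : G → ℂ}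
    (hF : Cfsg.IsClassFunction G F) :
    Cfsg.classInner (Phi l) F =
      (Nat.card ↥K : ℂ)⁻¹ * ∑ x : ↥K, (1 - (l x : ℂ)) * conj (F x) := by
  rw [Phi, frobenius_reciprocity K _ hF]; rfl

omit C in
theorem classInner_Phi_one [Fintype G] {l : ↥K →* ℂˣ} (hl : l ≠ 1) :
    Cfsg.classInner (Phi l) (fun _ => (1 : ℂ)) = 1 := by
  classical
  rw [classInner_Phi l (fun g x => rfl)]
  simp only [map_one, mul_one, Finset.sum_sub_distrib, sum_hom, if_neg hl, sub_zero,
    Finset.sum_const, Finset.card_univ, nsmul_eq_mul, mul_one]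
  rw [← Nat.card_eq_fintype_card, inv_mul_cancel₀ (Nat.cast_ne_zero.mpr Nat.card_pos.ne')]

open scoped Classical in
theorem classInner_Phi_Phi [Fintype G] {l m : ↥K →* ℂˣ} (hl : l ≠ 1) (hm : m ≠ 1) :
    Cfsg.classInner (Phi l) (Phi m) =
      2 + (if l = m then 1 else 0) + (if l * m = 1 then 1 else 0) := by
  rw [classInner_Phi l (IsGen.isClassFunction (isGen_Phi m))]
  have h : ∀ x : ↥K, (1 - (l x : ℂ)) * conj (Phi m x) =
      2 - (m x : ℂ) - ((m⁻¹ x : ℂˣ) : ℂ) - 2 * (l x : ℂ) + ((l * m) x : ℂˣ) + ((l * m⁻¹) x : ℂˣ) := by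
    intro x
    by_cases hx : (x : G) = 1
    · have hx' : x = 1 := Subtype.ext hx
      subst hx'
      simp
      norm_num
    · rw [C.Phi_of_mem m x.2 hx]
      rw [map_sub, map_sub, map_ofNat, ← map_inv_eq_conj, ← map_inv_eq_conj, inv_inv]
      simp only [Subtype.coe_eta, MonoidHom.inv_apply, MonoidHom.mul_apply, map_inv, Units.val_mul]
      ring
  have hminv : m⁻¹ ≠ 1 := fun e =>
    hm (MonoidHom.ext fun x => inv_eq_one.mp (DFunLike.congr_fun e x))
  have hlm : l * m⁻¹ = 1 ↔ l = m :=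
    ⟨fun e => MonoidHom.ext fun x => mul_inv_eq_one.mp (DFunLike.congr_fun e x),
      fun e => MonoidHom.ext fun x => mul_inv_eq_one.mpr (DFunLike.congr_fun e x)⟩
  simp only [h, Finset.sum_add_distrib, Finset.sum_sub_distrib, ← Finset.mul_sum, sum_hom,
    if_neg hl, if_neg hm, if_neg hminv, Finset.sum_const, Finset.card_univ,
    nsmul_eq_mul, mul_zero, sub_zero, hlm, ← Nat.card_eq_fintype_card]
  have hk : (Nat.card ↥K : ℂ) ≠ 0 := Nat.cast_ne_zero.mpr Nat.card_pos.ne'
  split_ifs <;> field_simp <;> ring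

end Config

end CfsgLib.PGroups.BSW
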