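import Cfsg.Agent.Lib.PGroups.BSW.Elements

/-!
# Which elements are inverted by involutions
-/

set_option autoImplicit false

namespace CfsgLib.PGroups.BSW

open Subgroup
open CfsgLib.Signalizer (InvPairs)

variable {G : Type*} [Group G] [Fintype G] {t s : G} {K : Subgroup G} (C : Config t s K) {n : ℤ}
  {q l : ℕ}

namespace Facts

variable (F : Facts K n q l)

include C F

theorem index_H : (Subgroup.centralizer ({t} : Set G)).index = q * l := by
  have := C.index_mul
  rw [F.hcard, mul_comm _ (2 * Nat.card ↥K), mul_assoc (2 * Nat.card ↥K) q l] at this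
  exact Nat.eq_of_mul_eq_mul_left (Nat.mul_pos two_pos Nat.card_pos) this

open scoped Classical in
/-- The pairs of involutions, sorted by the type of their product. -/
theorem pairs_split :
    (q * l) ^ 2 = q * l + q * l * (Nat.card ↥K - 1) * Nat.card ↥K +
      ∑ z ∈ (Finset.univ : Finset G).filter (OfType q), Nat.card (InvPairs z) +
      ∑ z ∈ (Finset.univ : Finset G).filter (OfType l), Nat.card (InvPairs z) := by
  have h := CfsgLib.Signalizer.sum_card_pairs (G := G)
  rw [C.card_involutions, F.index_H C, ← Finset.add_sum_erase _ _ (Finset.mem_univ (1 : G)),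
    C.card_pairs_one, F.index_H C] at h
  obtain ⟨c1, c2, c3⟩ := F.coprimes
  have hKnot : ∀ {m : ℕ} {z : G}, m.Coprime (2 * Nat.card ↥K) → OfType m z → ¬ ConjInto K z :=
    fun {m z} hm hz h => (C.conjInto_iff.mp h) (hm.coprime_dvd_left hz.2)
  have hall : (Finset.univ : Finset G).erase 1 = Finset.univ.filter (ConjInto K) ∪
      Finset.univ.filter (OfType q) ∪ Finset.univ.filter (OfType l) := by
    ext z
    simp only [Finset.mem_erase, Finset.mem_union, Finset.mem_filter, Finset.mem_univ, true_and,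
      and_true, or_assoc]
    exact ⟨F.htri z, fun h => h.elim (·.1) fun h => h.elim (·.1) (·.1)⟩
  have d1 : Disjoint (Finset.univ.filter (ConjInto K)) (Finset.univ.filter (OfType q)) :=
    Finset.disjoint_filter.mpr fun z _ ha hb => hKnot c1 hb ha
  have d2 : Disjoint (Finset.univ.filter (ConjInto K) ∪ Finset.univ.filter (OfType q))
      (Finset.univ.filter (OfType l)) := by
    rw [Finset.disjoint_union_left]
    exact ⟨Finset.disjoint_filter.mpr fun z _ ha hb => hKnot c2 hb ha,
      Finset.disjoint_filter.mpr fun z _ ha hb =>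
        hb.1 (orderOf_eq_one_iff.mp (Nat.eq_one_of_dvd_coprimes c3 ha.2 hb.2))⟩
  rw [hall, Finset.sum_union d2, Finset.sum_union d1] at h
  have hsK : ∑ z ∈ Finset.univ.filter (ConjInto K), Nat.card (InvPairs z) =
      q * l * (Nat.card ↥K - 1) * Nat.card ↥K := by
    have hTI : ∀ g x : G, x ∈ K → x ≠ 1 → g * x * g⁻¹ ∈ K → g ∈ Subgroup.centralizer ({t} : Set G) := C.ti
    have hN : ∀ g ∈ Subgroup.centralizer ({t} : Set G), ∀ x ∈ K, g * x * g⁻¹ ∈ K :=
      fun g hg x hx => C.conj_mem hg hx
    rw [← F.index_H C, ← card_conjInto hTI hN, ← smul_eq_mul, ← Finset.sum_const]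
    refine Finset.sum_congr rfl fun z hz => ?_
    obtain ⟨hz1, g, hg⟩ := (Finset.mem_filter.mp hz).2
    rw [← card_invPairs_conj g z, C.card_pairs_of_mem hg (fun e => hz1 (conj_eq_one_iff.mp e))]
  rw [← h, hsK]
  ring

/-- For `q = 2k + 1` some element of type `q` is inverted. -/
theorem exists_inverted (hn : n = 1) : ∃ z : G, OfType q z ∧ IsInverted z := by
  classical
  by_contra h
  push Not at h
  have hs := F.pairs_split C
  rw [Finset.sum_eq_zero (s := (Finset.univ : Finset G).filter (OfType q)) fun z hz => by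
    by_contra hne
    exact h z (Finset.mem_filter.mp hz).2 (isInverted_of_card_ne_zero hne), add_zero] at hs
  have hD : ∑ z ∈ (Finset.univ : Finset G).filter (OfType l), Nat.card (InvPairs z) ≤
      Nat.card {z : G // OfType l z} * l := by
    rw [Nat.card_eq_fintype_card, Fintype.card_subtype, ← smul_eq_mul, ← Finset.sum_const]
    refine Finset.sum_le_sum fun z hz => ?_
    exact (CfsgLib.Signalizer.card_pairs_le_centralizer z).trans
      (Nat.le_of_dvd F.l_pos (F.cent_l_dvd C (Finset.mem_filter.mp hz).2))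
  have hle : (q * l) ^ 2 ≤ q * l + q * l * (Nat.card ↥K - 1) * Nat.card ↥K +
      Nat.card {z : G // OfType l z} * l := by omega
  have h' : ((q : ℤ) * l) ^ 2 ≤ (q : ℤ) * l + (q : ℤ) * l * ((Nat.card ↥K - 1 : ℕ) : ℤ) * Nat.card ↥K +
      (Nat.card {z : G // OfType l z} : ℤ) * l := by exact_mod_cast hle
  rw [F.hL, Nat.cast_sub (Nat.card_pos : 0 < Nat.card ↥K), F.hq, F.hl, hn] at h'
  have hk : (2 : ℤ) ≤ Nat.card ↥K := by exact_mod_cast C.two_le_k
  push_cast at h'
  nlinarith [mul_pos (mul_pos (show (0 : ℤ) < 2 * (Nat.card ↥K : ℤ) + 1 by omega)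
    (show (0 : ℤ) < (Nat.card ↥K : ℤ) + 1 by omega)) (show (0 : ℤ) < 4 * (Nat.card ↥K : ℤ) by omega)]

/-- For `q = 2k - 1`, if no element of type `q` is inverted then every element of type `l` is. -/
theorem all_inverted (hn : n = -1) (hno : ∀ z : G, OfType q z → ¬ IsInverted z) :
    ∀ z : G, OfType l z → IsInverted z ∧ Nat.card ↥(Subgroup.centralizer ({z} : Set G)) = l := by
  classical
  have hs := F.pairs_split C
  rw [Finset.sum_eq_zero (s := (Finset.univ : Finset G).filter (OfType q)) fun z hz => by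
    by_contra hne
    exact hno z (Finset.mem_filter.mp hz).2 (isInverted_of_card_ne_zero hne), add_zero] at hs
  have hb : ∀ z ∈ (Finset.univ : Finset G).filter (OfType l), Nat.card (InvPairs z) ≤ l := fun z hz =>
    (CfsgLib.Signalizer.card_pairs_le_centralizer z).trans
      (Nat.le_of_dvd F.l_pos (F.cent_l_dvd C (Finset.mem_filter.mp hz).2))
  have heq : (∑ z ∈ (Finset.univ : Finset G).filter (OfType l), Nat.card (InvPairs z) : ℕ) =
      ∑ _z ∈ (Finset.univ : Finset G).filter (OfType l), l := by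
    have h' : ((q : ℤ) * l) ^ 2 = (q : ℤ) * l + (q : ℤ) * l * ((Nat.card ↥K - 1 : ℕ) : ℤ) * Nat.card ↥K +
        ((∑ z ∈ (Finset.univ : Finset G).filter (OfType l), Nat.card (InvPairs z) : ℕ) : ℤ) := by exact_mod_cast hs
    rw [Nat.cast_sub (Nat.card_pos : 0 < Nat.card ↥K)] at h'
    rw [Finset.sum_const, smul_eq_mul, ← Fintype.card_subtype, ← Nat.card_eq_fintype_card]
    have hz : ((∑ z ∈ (Finset.univ : Finset G).filter (OfType l), Nat.card (InvPairs z) : ℕ) : ℤ) =
        ((Nat.card {z : G // OfType l z} * l : ℕ) : ℤ) := by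
      rw [Nat.cast_mul, F.hL]
      rw [F.hq, F.hl, hn] at h' ⊢
      push_cast at h' ⊢
      linear_combination -h'
    exact_mod_cast hz
  intro z hz
  have hmem : z ∈ (Finset.univ : Finset G).filter (OfType l) := Finset.mem_filter.mpr ⟨Finset.mem_univ _, hz⟩
  have e := (Finset.sum_eq_sum_iff_of_le hb).mp heq z hmem
  refine ⟨isInverted_of_card_ne_zero (by rw [e]; exact F.l_pos.ne'), le_antisymm
    (Nat.le_of_dvd F.l_pos (F.cent_l_dvd C hz)) ?_⟩
  rw [← e]
  exact CfsgLib.Signalizer.card_pairs_le_centralizer z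

end Facts

end CfsgLib.PGroups.BSW
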