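import Cfsg.Agent.Lib.PGroups.BSW.Decomp

/-!
# The common constituent and the order formula for `|K| ≥ 4`
-/

set_option autoImplicit false

namespace CfsgLib.PGroups.BSW

open Subgroup CfsgLib.Char
open scoped ComplexConjugate

variable {G : Type*} [Group G] [Fintype G] {t s : G} {K : Subgroup G} [Fintype ↥K]

namespace Config

variable (C : Config t s K)

include C

theorem apply_t (m : ↥K →* ℂˣ) :
    ((m ⟨t, C.htK⟩ : ℂˣ) : ℂ) = 1 ∨ ((m ⟨t, C.htK⟩ : ℂˣ) : ℂ) = -1 := by
  refine mul_self_eq_one_iff.mp ?_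
  rw [← Units.val_mul, ← map_mul,
    show (⟨t, C.htK⟩ : ↥K) * ⟨t, C.htK⟩ = 1 from Subtype.ext (CfsgLib.Signalizer.involution_sq C.ht),
    map_one, Units.val_one]

theorem exists_nonreal (hk : 4 ≤ Nat.card ↥K) : ∃ l : ↥K →* ℂˣ, l * l ≠ 1 := by
  obtain ⟨x, hx⟩ : ∃ x : ↥K, x * x ≠ 1 := by
    by_contra h
    push Not at h
    have hsub : (Set.univ : Set ↥K) ⊆ {1, ⟨t, C.htK⟩} := fun x _ => by
      rcases C.eq_one_or_t x.2 (congrArg Subtype.val (h x)) with e | e
      · exact Or.inl (Subtype.ext e)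
      · exact Or.inr (Subtype.ext e)
    have := Nat.card_mono (Set.toFinite _) hsub
    rw [Nat.card_univ, Nat.card_coe_set_eq] at this
    have h2 : ({1, ⟨t, C.htK⟩} : Set ↥K).ncard ≤ 2 := (Set.ncard_insert_le _ _).trans (by simp)
    omega
  obtain ⟨l, hl⟩ := exists_apply_ne_one C.comm hx
  exact ⟨l, fun h => hl (by rw [map_mul, ← MonoidHom.mul_apply, h, MonoidHom.one_apply])⟩

/-- Two nonreal characters of opposite parity. -/
theorem exists_parity {l m : ↥K →* ℂˣ} (hl : l * l ≠ 1) (hm : m * m ≠ 1) (h1 : l ≠ m)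
    (h2 : l * m ≠ 1) :
    ∃ p p' : ↥K →* ℂˣ, p * p ≠ 1 ∧ p' * p' ≠ 1 ∧
      ((p ⟨t, C.htK⟩ : ℂˣ) : ℂ) = 1 ∧ ((p' ⟨t, C.htK⟩ : ℂˣ) : ℂ) = -1 := by
  have hpos : ∃ p : ↥K →* ℂˣ, p * p ≠ 1 ∧ ((p ⟨t, C.htK⟩ : ℂˣ) : ℂ) = 1 := by
    rcases C.apply_t l with hlt | hlt
    · exact ⟨l, hl, hlt⟩
    rcases C.apply_t m with hmt | hmt
    · exact ⟨m, hm, hmt⟩
    by_contra hno
    push Not at hno
    have e1 : ((l * m) ⟨t, C.htK⟩ : ℂˣ) = (1 : ℂˣ) := Units.ext (by
      rw [MonoidHom.mul_apply, Units.val_mul, hlt, hmt]; norm_num)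
    have e2 : ((l * m⁻¹) ⟨t, C.htK⟩ : ℂˣ) = (1 : ℂˣ) := Units.ext (by
      rw [MonoidHom.mul_apply, MonoidHom.inv_apply, Units.val_mul, Units.val_inv_eq_inv_val, hlt,
        hmt]; norm_num)
    have r1 : l * m * (l * m) = 1 := by
      by_contra h; exact hno _ h (by rw [e1]; rfl)
    have r2 : l * m⁻¹ * (l * m⁻¹) = 1 := by
      by_contra h; exact hno _ h (by rw [e2]; rfl)
    have h2' : l * m⁻¹ ≠ 1 := fun e =>
      h1 (MonoidHom.ext fun x => mul_inv_eq_one.mp (DFunLike.congr_fun e x))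
    have e := C.real_unique r1 h2 r2 h2'
    refine hm (MonoidHom.ext fun x => ?_)
    have ex := mul_left_cancel (DFunLike.congr_fun e x)
    rw [MonoidHom.mul_apply, MonoidHom.one_apply]
    exact mul_eq_one_iff_eq_inv.mpr ex
  have hneg : ∃ p : ↥K →* ℂˣ, p * p ≠ 1 ∧ ((p ⟨t, C.htK⟩ : ℂˣ) : ℂ) = -1 := by
    rcases C.apply_t l with hlt | hlt
    swap
    · exact ⟨l, hl, hlt⟩
    have htne : (⟨t, C.htK⟩ : ↥K) ≠ 1 := fun h => C.t_ne_one (congrArg Subtype.val h)
    obtain ⟨u, hu⟩ := exists_apply_ne_one C.comm htne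
    have hut : ((u ⟨t, C.htK⟩ : ℂˣ) : ℂ) = -1 :=
      (C.apply_t u).resolve_left fun h => hu (Units.ext h)
    by_cases hu2 : u * u = 1
    · refine ⟨l * u, fun h => hl (MonoidHom.ext fun x => ?_), ?_⟩
      · have h' := DFunLike.congr_fun h x
        have hux := DFunLike.congr_fun hu2 x
        simp only [MonoidHom.mul_apply, MonoidHom.one_apply] at h' hux ⊢
        rwa [mul_mul_mul_comm, hux, mul_one] at h'
      · rw [MonoidHom.mul_apply, Units.val_mul, hlt, hut, one_mul]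
    · exact ⟨u, hu2, hut⟩
  obtain ⟨p, hp, hpt⟩ := hpos
  obtain ⟨p', hp', hpt'⟩ := hneg
  exact ⟨p, p', hp, hp', hpt, hpt'⟩

/-- A split containing a given constituent. -/
theorem exists_split_with {m : ↥K →* ℂˣ} (hm : m * m ≠ 1) {a : Cfsg.IrrCharacter G}
    (ha1 : a ≠ trivialIrr G) (ha : co m a ≠ 0) : ∃ e, Split m a e := by
  obtain ⟨x, y, S⟩ := C.exists_split hm
  by_cases hax : a = x
  · exact ⟨y, hax ▸ S⟩
  by_cases hay : a = y
  · exact ⟨x, hay ▸ split_symm S⟩
  exact absurd (S.zero a ha1 hax hay) ha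

/-- If `m` picks `a` and `m'` picks `b`, the third constituent of `m` is met by `m'`. -/
theorem third_constituent {l m m' : ↥K →* ℂˣ} {a b : Cfsg.IrrCharacter G} (S : Split l a b)
    (hm : m * m ≠ 1) (hm' : m' ≠ 1) (hma : co l a * co m a = 1) (hmb : co m b = 0)
    (hm'a : co m' a = 0) (hm'b : co m' b ≠ 0) :
    ∃ e, Split m a e ∧ e ≠ b ∧ co m e * co m' e = 1 ∧ co m a = co l a := by
  classical
  have := Fintype.ofFinite (Cfsg.IrrCharacter G)
  have hane : co m a ≠ 0 := fun h => by rw [h, mul_zero] at hma; norm_num at hma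
  obtain ⟨e, Se⟩ := C.exists_split_with hm S.a1 hane
  have heb : e ≠ b := fun h => by
    have := Se.sqb; rw [h, hmb, mul_zero] at this; norm_num at this
  refine ⟨e, Se, heb, ?_, ?_⟩
  · have hm1 : m ≠ 1 := fun h => hm (by subst h; ext x; simp)
    have h1 : m ≠ m' := fun h => by rw [← h, hmb] at hm'b; exact hm'b rfl
    have h2 : m * m' ≠ 1 := fun h => by
      have e' : m' = m⁻¹ := MonoidHom.ext fun x =>
        (inv_eq_of_mul_eq_one_right (DFunLike.congr_fun h x)).symm
      rw [e', C.co_inv, hmb] at hm'b; exact hm'b rfl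
    have h := C.sum_erase_co hm1 hm'
    rw [if_neg h1, if_neg h2, add_zero, add_zero] at h
    rw [← Finset.add_sum_erase _ _ (Finset.mem_erase.mpr ⟨Se.b1, Finset.mem_univ _⟩),
      Finset.sum_eq_zero, add_zero] at h
    · exact h
    · intro χ hχ
      simp only [Finset.mem_erase, Finset.mem_univ, and_true] at hχ
      by_cases hχa : χ = a
      · rw [hχa, hm'a, mul_zero]
      · rw [Se.zero χ hχ.2 hχa hχ.1, zero_mul]
  · calc co m a = co l a * co l a * co m a := by rw [S.sqa, one_mul]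
      _ = co l a := by rw [mul_assoc, hma, mul_one]

theorem false_of_nonreal_pair {l m m' : ↥K →* ℂˣ} {a b : Cfsg.IrrCharacter G} (S : Split l a b)
    (hm : m * m ≠ 1) (hm' : m' * m' ≠ 1) (hma : co l a * co m a = 1) (hmb : co m b = 0)
    (hm'a : co m' a = 0) (hm'b : co l b * co m' b = 1) : False := by
  have hm'1 : m' ≠ 1 := fun h => hm' (by subst h; ext x; simp)
  have hbne : co m' b ≠ 0 := fun h => by rw [h, mul_zero] at hm'b; norm_num at hm'b
  obtain ⟨e, Se, heb, hee, hca⟩ := C.third_constituent S hm hm'1 hma hmb hm'a hbne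
  obtain ⟨e', Se'⟩ := C.exists_split_with hm' S.b1 hbne
  have hee' : e' = e := by
    by_contra hne
    have h0 := Se'.zero e Se.b1 heb (Ne.symm hne)
    rw [h0, mul_zero] at hee; norm_num at hee
  subst hee'
  have hcb : co m' b = co l b := by
    calc co m' b = co l b * co l b * co m' b := by rw [S.sqb, one_mul]
      _ = co l b := by rw [mul_assoc, hm'b, mul_one]
  have hce : co m' e' = co m e' := by
    calc co m' e' = co m e' * co m e' * co m' e' := by rw [Se.sqb, one_mul]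
      _ = co m e' := by rw [mul_assoc, hee, mul_one]
  obtain ⟨da, -, hda⟩ := IsIrr.exists_degree a.2
  obtain ⟨db, -, hdb⟩ := IsIrr.exists_degree b.2
  obtain ⟨de, -, hde⟩ := IsIrr.exists_degree e'.2
  have h1 := split_deg S hda hdb
  have h2 := split_deg Se hda hde
  have h3 := split_deg Se' hdb hde
  rw [hca] at h2
  rw [hcb, hce] at h3
  omega

theorem false_of_disagree {l m m' : ↥K →* ℂˣ} {a b : Cfsg.IrrCharacter G} (S : Split l a b)
    (hl : l * l ≠ 1) (hm : m * m ≠ 1) (hm' : m' ≠ 1) (hma : co l a * co m a = 1) (hmb : co m b = 0)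
    (hm'a : co m' a = 0) (hm'b : co l b * co m' b = 1) : False := by
  classical
  by_cases hm'2 : m' * m' ≠ 1
  · exact C.false_of_nonreal_pair S hm hm'2 hma hmb hm'a hm'b
  push Not at hm'2
  have hcol : ∀ {p : ↥K →* ℂˣ}, p = l ∨ l * p = 1 → ∀ χ : Cfsg.IrrCharacter G, co p χ = co l χ := by
    rintro p (rfl | h) χ
    · rfl
    · rw [show p = l⁻¹ from MonoidHom.ext fun x =>
        (inv_eq_of_mul_eq_one_right (DFunLike.congr_fun h x)).symm, C.co_inv]
  have hall : ∀ p : ↥K →* ℂˣ, p * p ≠ 1 → co l a * co p a = 1 := by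
    intro p hp
    have hp1 : p ≠ 1 := fun h => hp (by subst h; ext x; simp)
    by_cases h1 : l = p
    · rw [hcol (Or.inl h1.symm), S.sqa]
    by_cases h2 : l * p = 1
    · rw [hcol (Or.inr h2), S.sqa]
    rcases C.one_of_two S hl hp1 h1 h2 with h | h
    · exact h.1
    · exact (C.false_of_nonreal_pair S hm hp hma hmb h.1 h.2).elim
  -- the restriction of the constituent `a`
  have hres : ∀ x : ↥K, x ≠ 1 →
      conj ((co l a : ℂ) * (a : G → ℂ) x) = 1 + ((m' x : ℂˣ) : ℂ) := by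
    refine restrict_eq C.comm a (co l a) _ fun p hp => ?_
    have hprod : ∑ x : ↥K, (p x : ℂ) * (1 + (m' x : ℂ)) =
        ∑ x : ↥K, (p x : ℂ) + ∑ x : ↥K, ((p * m') x : ℂˣ).val := by
      rw [← Finset.sum_add_distrib]
      exact Finset.sum_congr rfl fun x _ => by rw [MonoidHom.mul_apply, Units.val_mul]; ring
    rw [hprod, Finset.sum_add_distrib, sum_hom m', sum_hom p, sum_hom (p * m'), if_neg hp, if_neg hm',
      Finset.sum_const, Finset.card_univ, nsmul_eq_mul, mul_one, add_zero, zero_add,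
      ← Nat.card_eq_fintype_card]
    by_cases hpm : p * m' = 1
    · have : p = m' := MonoidHom.ext fun x => by
        have e1 := DFunLike.congr_fun hpm x
        have e2 := DFunLike.congr_fun hm'2 x
        simp only [MonoidHom.mul_apply, MonoidHom.one_apply] at e1 e2
        exact mul_right_cancel (e1.trans e2.symm)
      rw [if_pos hpm, this, hm'a]; simp
    · have hp2 : p * p ≠ 1 := fun h => hpm (by rw [C.real_unique h hp hm'2 hm', hm'2])
      rw [if_neg hpm, hall p hp2]; simp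
  set r : ℂ := signed (co l a) a t with hr
  have hrv : r = 1 + ((m' ⟨t, C.htK⟩ : ℂˣ) : ℂ) := by
    rw [← hres ⟨t, C.htK⟩ (fun h => C.t_ne_one (congrArg Subtype.val h)), hr, signed, map_mul,
      map_intCast, ← IsIrr.map_inv a.2, CfsgLib.Signalizer.involution_inv C.ht]
  obtain ⟨da, hda0, hda⟩ := IsIrr.exists_degree a.2
  -- the equation for every nonreal character
  have heq : ∀ p : ↥K →* ℂˣ, p * p ≠ 1 → ∀ v : ℂ, ((p ⟨t, C.htK⟩ : ℂˣ) : ℂ) = v →
      (Nat.card G : ℂ) * (1 + r ^ 2 / ((co l a : ℂ) * da) +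
        (2 - 2 * v - 1 - r) ^ 2 / (-1 - (co l a : ℂ) * da)) = 4 * (Nat.card ↥K : ℂ) ^ 3 ∧
      (-1 - (co l a : ℂ) * da) ≠ 0 := by
    intro p hp v hv
    have hpa := hall p hp
    obtain ⟨e, Se⟩ := C.exists_split_with hp S.a1 (fun h => by rw [h, mul_zero] at hpa; norm_num at hpa)
    have hca : co p a = co l a := by
      calc co p a = co l a * co l a * co p a := by rw [S.sqa, one_mul]
        _ = co l a := by rw [mul_assoc, hpa, mul_one]
    have h1 := Se.eq 1
    have ht' := Se.eq t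
    rw [Phi, indFun_apply_one, oneSub, map_one, Units.val_one, sub_self, mul_zero, hca] at h1
    rw [C.Phi_t, hv, hca, ← hr] at ht'
    have e1 : signed (co p e) e 1 = -1 - (co l a : ℂ) * da := by
      rw [signed, hda] at h1; linear_combination -h1
    have e2 : signed (co p e) e t = 2 - 2 * v - 1 - r := by linear_combination -ht'
    have h := C.split_equation hp Se
    rw [hca, e1, e2, ← hr, show signed (co l a) a 1 = (co l a : ℂ) * da by rw [signed, hda]] at h
    refine ⟨h, ?_⟩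
    rw [← e1, signed]
    refine mul_ne_zero ?_ (IsIrr.apply_one_ne_zero e.2)
    rw [Int.cast_ne_zero]
    intro h0; have := Se.sqb; rw [h0, mul_zero] at this; norm_num at this
  have hne1 : l ≠ m := fun h => by
    rw [← h] at hmb; have := S.sqb; rw [hmb, mul_zero] at this; norm_num at this
  have hne2 : l * m ≠ 1 := fun h => by
    rw [hcol (Or.inr h)] at hmb; have := S.sqb; rw [hmb, mul_zero] at this; norm_num at this
  obtain ⟨p, p', hp, hp', hpt, hpt'⟩ := C.exists_parity hl hm hne1 hne2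
  obtain ⟨E1, hP0⟩ := heq p hp 1 hpt
  obtain ⟨E2, -⟩ := heq p' hp' (-1) hpt'
  have hG : (Nat.card G : ℂ) ≠ 0 := Nat.cast_ne_zero.mpr Nat.card_pos.ne'
  have h3 : (2 - 2 * (1 : ℂ) - 1 - r) ^ 2 / (-1 - (co l a : ℂ) * da) =
      (2 - 2 * (-1 : ℂ) - 1 - r) ^ 2 / (-1 - (co l a : ℂ) * da) := by
    have := mul_left_cancel₀ hG (E1.trans E2.symm)
    linear_combination this
  rw [div_left_inj' hP0] at h3
  have h4 : r = 1 := by linear_combination h3 / 8
  rw [hrv] at h4
  rcases C.apply_t m' with e | e <;> rw [e] at h4 <;> norm_num at h4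

/-- A common constituent of all the virtual characters. -/
theorem exists_common (hk : 4 ≤ Nat.card ↥K) :
    ∃ (l : ↥K →* ℂˣ) (a b : Cfsg.IrrCharacter G), l * l ≠ 1 ∧ Split l a b ∧
      ∀ m : ↥K →* ℂˣ, m ≠ 1 → co l a * co m a = 1 := by
  classical
  obtain ⟨l, hl⟩ := C.exists_nonreal hk
  obtain ⟨a, b, S⟩ := C.exists_split hl
  by_cases hA : ∀ m : ↥K →* ℂˣ, m ≠ 1 → co l a * co m a = 1
  · exact ⟨l, a, b, hl, S, hA⟩
  by_cases hB : ∀ m : ↥K →* ℂˣ, m ≠ 1 → co l b * co m b = 1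
  · exact ⟨l, b, a, hl, split_symm S, hB⟩
  exfalso
  push Not at hA hB
  obtain ⟨μ, hμ1, hμ⟩ := hA
  obtain ⟨ν, hν1, hν⟩ := hB
  have hne : ∀ (p : ↥K →* ℂˣ) (χ : Cfsg.IrrCharacter G), co l χ * co l χ = 1 →
      co l χ * co p χ ≠ 1 → l ≠ p ∧ l * p ≠ 1 := by
    intro p χ hsq h
    refine ⟨fun e => h (e ▸ hsq), fun e => h ?_⟩
    rw [show p = l⁻¹ from MonoidHom.ext fun x =>
      (inv_eq_of_mul_eq_one_right (DFunLike.congr_fun e x)).symm, C.co_inv, hsq]
  obtain ⟨hμa, hμb⟩ := hne μ a S.sqa hμ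
  obtain ⟨hνa, hνb⟩ := hne ν b S.sqb hν
  obtain ⟨hμ', hμ''⟩ := (C.one_of_two S hl hμ1 hμa hμb).resolve_left (fun h => hμ h.1)
  obtain ⟨hν', hν''⟩ := (C.one_of_two S hl hν1 hνa hνb).resolve_right (fun h => hν h.2)
  by_cases hν2 : ν * ν = 1
  · by_cases hμ2 : μ * μ = 1
    · have e := C.real_unique hμ2 hμ1 hν2 hν1
      rw [e] at hμ'
      rw [hμ', mul_zero] at hν'
      norm_num at hν'
    · exact C.false_of_disagree (split_symm S) hl hμ2 hν1 hμ'' hμ' hν'' hν'
  · exact C.false_of_disagree S hl hν2 hμ1 hν' hν'' hμ' hμ''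

/-- The order formula and the three types of elements, for `|K| ≥ 4`. -/
theorem facts_of_four_le (hk : 4 ≤ Nat.card ↥K) : ∃ (n : ℤ) (q l : ℕ), Facts K n q l := by
  classical
  have := Fintype.ofFinite ↥(Subgroup.centralizer ({t} : Set G))
  obtain ⟨l, a, b, hl, S, hall⟩ := C.exists_common hk
  set R := signed (co l a) a with hR
  set P := signed (co l b) b with hP
  have hres : ∀ x : ↥K, x ≠ 1 → conj ((co l a : ℂ) * (a : G → ℂ) x) = (1 : ℂ) := by
    refine restrict_eq C.comm a (co l a) _ fun p hp => ?_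
    simp only [mul_one, sum_hom, if_neg hp, hall p hp, Finset.sum_const, Finset.card_univ,
      nsmul_eq_mul, ← Nat.card_eq_fintype_card]
    simp
  have hK1 : ∀ x ∈ K, x ≠ 1 → R x = 1 := fun x hx hx1 => by
    have h := congrArg conj (hres ⟨x, hx⟩ (fun h => hx1 (congrArg Subtype.val h)))
    simpa [hR, signed, map_mul] using h
  have hRc : Cfsg.IsClassFunction G R := fun g x => by
    simp only [hR, signed, IsIrr.isClassFunction a.2 g x]
  obtain ⟨da, hda0, hda⟩ := IsIrr.exists_degree a.2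
  obtain ⟨db, hdb0, hdb⟩ := IsIrr.exists_degree b.2
  have hdeg := split_deg S hda hdb
  set R1 : ℤ := co l a * da with hR1
  have hR1' : R 1 = (R1 : ℂ) := by simp [hR, hR1, signed, hda]
  have hP1' : P 1 = ((-1 - R1 : ℤ) : ℂ) := by
    rw [hP, signed, hdb, show (-1 - R1 : ℤ) = co l b * db by linarith]
    push_cast; rfl
  -- congruence
  obtain ⟨j, hj⟩ : ∃ j : ℤ, R1 = 1 + 2 * (Nat.card ↥K : ℤ) * j := by
    set Hs := Subgroup.centralizer ({t} : Set G) with hHs
    have hgen : Cfsg.IsGeneralizedCharacter ↥Hs (fun h : ↥Hs => R h) :=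
      IsGen.restrict Hs (show Cfsg.IsGeneralizedCharacter G R from
        IsGen.intCast_smul (co l a) (IsGen.of_irr a.2))
    obtain ⟨i, hi⟩ := IsGen.exists_classInner_eq_intCast hgen IsGen.one
    refine ⟨i - 1, ?_⟩
    have hone : ∀ h : ↥Hs, h ≠ 1 → R h = 1 := fun h hh => by
      obtain ⟨h1, g, hg⟩ := C.conjInto_of_conj_mem_H (z := (h : G)) (g := 1)
        (fun e => hh (Subtype.ext e)) (by rw [one_mul, inv_one, mul_one]; exact h.2)
      rw [← hRc h g]
      exact hK1 _ hg (fun e => h1 (conj_eq_one_iff.mp e))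
    have hsum : ∑ h : ↥Hs, R h = (R1 : ℂ) + ((2 * Nat.card ↥K - 1 : ℕ) : ℂ) := by
      rw [← Finset.add_sum_erase _ _ (Finset.mem_univ (1 : ↥Hs)), OneMemClass.coe_one, hR1',
        Finset.sum_congr rfl (fun h hh => hone h (Finset.mem_erase.mp hh).1), Finset.sum_const,
        Finset.card_erase_of_mem (Finset.mem_univ _), Finset.card_univ, ← Nat.card_eq_fintype_card,
        hHs, C.card_H, nsmul_eq_mul, mul_one]
    rw [Cfsg.classInner] at hi
    simp only [Pi.one_apply, map_one, mul_one] at hi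
    rw [hsum, inv_mul_eq_iff_eq_mul₀ (Nat.cast_ne_zero.mpr Nat.card_pos.ne'), hHs, C.card_H,
      Nat.cast_sub (by omega)] at hi
    push_cast at hi
    have : (R1 : ℂ) = ((1 + 2 * (Nat.card ↥K : ℤ) * (i - 1) : ℤ) : ℂ) := by
      push_cast; linear_combination hi
    exact_mod_cast this
  have hPt : P t ^ 2 = 4 := by
    have h := S.eq t
    rw [C.Phi_t, ← hR, ← hP, hK1 t C.htK C.t_ne_one] at h
    have e : P t = -2 * ((l ⟨t, C.htK⟩ : ℂˣ) : ℂ) := by linear_combination -h
    rw [e]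
    rcases C.apply_t l with e' | e' <;> rw [e'] <;> norm_num
  have hR0 : R1 ≠ 0 := mul_ne_zero (fun h => by
    have := S.sqa; rw [h, mul_zero] at this; norm_num at this) (by exact_mod_cast hda0.ne')
  have hP0 : -1 - R1 ≠ 0 := by
    rw [show (-1 - R1 : ℤ) = co l b * db by linarith]
    exact mul_ne_zero (fun h => by
      have := S.sqb; rw [h, mul_zero] at this; norm_num at this) (by exact_mod_cast hdb0.ne')
  set k : ℤ := (Nat.card ↥K : ℤ) with hkdef
  have hmain : (Nat.card G : ℤ) * (R1 - 1) ^ 2 = 4 * k ^ 3 * (R1 * (R1 + 1)) := by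
    have h := C.split_equation hl S
    rw [← hR, ← hP, hR1', hP1', hK1 t C.htK C.t_ne_one, hPt] at h
    have hR0' : (R1 : ℂ) ≠ 0 := Int.cast_ne_zero.mpr hR0
    have hP0' : ((-1 - R1 : ℤ) : ℂ) ≠ 0 := Int.cast_ne_zero.mpr hP0
    have h' : (((Nat.card G : ℤ) * (R1 - 1) ^ 2 : ℤ) : ℂ) =
        ((4 * k ^ 3 * (R1 * (R1 + 1)) : ℤ) : ℂ) := by
      rw [hkdef]
      push_cast at h hP0' ⊢
      field_simp at h
      linear_combination (-1 : ℂ) * h
    exact_mod_cast h'
  obtain ⟨c, hc⟩ : ∃ c : ℤ, (Nat.card G : ℤ) = 2 * k * c := by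
    refine ⟨((Subgroup.centralizer ({t} : Set G)).index : ℤ), ?_⟩
    rw [← C.index_mul, hkdef]; push_cast; ring
  have hk0 : k ≠ 0 := by rw [hkdef]; exact_mod_cast Nat.card_pos.ne'
  have hcn : c * j ^ 2 = (2 * k * j + 1) * (k * j + 1) := by
    refine mul_left_cancel₀ (show (8 : ℤ) * k ^ 3 ≠ 0 by positivity) ?_
    rw [hj, hc] at hmain
    linear_combination hmain
  have hj1 : j = 1 ∨ j = -1 :=
    Int.eq_one_or_neg_one_of_mul_eq_one (v := c * j - 2 * k ^ 2 * j - 3 * k)
      (by linear_combination hcn)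
  have hjj : j * j = 1 := by rcases hj1 with rfl | rfl <;> norm_num
  have hk4 : 4 ≤ k := by rw [hkdef]; exact_mod_cast hk
  refine ⟨j, (2 * k + j).toNat, (k + j).toNat, ?_⟩
  have hq : (((2 * k + j).toNat : ℕ) : ℤ) = 2 * k + j := Int.toNat_of_nonneg (by omega)
  have hl' : (((k + j).toNat : ℕ) : ℤ) = k + j := Int.toNat_of_nonneg (by omega)
  set q := (2 * k + j).toNat
  set m := (k + j).toNat
  have hcard : Nat.card G = 2 * Nat.card ↥K * q * m := by
    have hz : (Nat.card G : ℤ) = 2 * k * ((2 * k + j) * (k + j)) := by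
      rw [hc]
      have : c = (2 * k + j) * (k + j) := by
        linear_combination hcn + (2 * k ^ 2 - c - 1) * hjj
      rw [this]
    rw [hkdef, ← hq, ← hl'] at hz
    push_cast at hz
    exact_mod_cast (by linear_combination hz :
      (Nat.card G : ℤ) = 2 * (Nat.card ↥K : ℤ) * (q : ℤ) * (m : ℤ))
  have hRq : R1 = j * q := by rw [hj, hq]; linear_combination (-1 : ℤ) * hjj
  have hdaq : da = q := by
    have h1 : (da : ℤ) = co l a * j * q := by
      rw [mul_assoc, ← hRq, hR1, ← mul_assoc, S.sqa, one_mul]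
    rcases mul_self_eq_one_iff.mp S.sqa with e | e <;> rcases hj1 with e' | e' <;>
      simp only [e, e'] at h1 <;> push_cast at h1 <;> omega
  have hdbm : db = 2 * m := by
    have h1 : (db : ℤ) = co l b * (-2 * j * m) := by
      have h2 : co l b * db = -2 * j * (m : ℤ) := by
        rw [hl']
        linear_combination hdeg - hj + 2 * hjj
      rw [← h2, ← mul_assoc, S.sqb, one_mul]
    rcases mul_self_eq_one_iff.mp S.sqb with e | e <;> rcases hj1 with e' | e' <;>
      simp only [e, e'] at h1 <;> push_cast at h1 <;> omega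
  refine C.facts_of_fun hj1 (by rw [← hkdef]; exact hq) (by rw [← hkdef]; exact hl') hcard R P hRc
    ?_ ?_ hK1 ?_ ?_ ?_
  · rw [hR1', hRq, map_intCast]
    have hjjc : (j : ℂ) * j = 1 := by exact_mod_cast hjj
    push_cast
    linear_combination ((q : ℂ) ^ 2) * hjjc
  · have := classInner_irr_self a
    simp only [hR, Cfsg.classInner] at this ⊢
    refine Eq.trans ?_ this
    congr 1
    refine Finset.sum_congr rfl fun g _ => ?_
    rcases mul_self_eq_one_iff.mp S.sqa with e | e <;> simp [signed, e]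
  · intro z _ hz
    have := S.eq z
    rw [C.Phi_zero l hz, ← hR, ← hP] at this
    exact this.symm
  · intro z hz
    rw [hR, signed, eq_zero_of_not_coprime a hda (a := 2 * Nat.card ↥K * m) (m := q)
      (by rw [hcard]; ring) ?_ (hdaq ▸ dvd_rfl) hz, mul_zero]
    exact (coprime_q_twoK hj1 (by rw [← hkdef]; exact hq)).mul_right
      (coprime_q_l hj1 (by rw [← hkdef]; exact hq) (by rw [← hkdef]; exact hl'))
  · intro z hz
    rw [hP, signed, eq_zero_of_not_coprime b hdb (a := 2 * Nat.card ↥K * q) (m := m)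
      (by rw [hcard]) ?_ (hdbm ▸ dvd_mul_left m 2) hz, mul_zero]
    exact (coprime_l_twoK hj1 (by rw [← hkdef]; exact hl') C.k_even).mul_right
      (coprime_q_l hj1 (by rw [← hkdef]; exact hq) (by rw [← hkdef]; exact hl')).symm

end Config

end CfsgLib.PGroups.BSW
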