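import Cfsg.Agent.Lib.PGroups.BSW.Decomp

/-!
# The case `|K| = 2`
-/

set_option autoImplicit false

namespace CfsgLib.PGroups.BSW

open Subgroup CfsgLib.Char
open scoped ComplexConjugate

theorem exists_triple {ι : Type*} [DecidableEq ι] (E : Finset ι) (m : ι → ℤ)
    (h : ∑ i ∈ E, m i * m i = 3) :
    ∃ a ∈ E, ∃ b ∈ E, ∃ c ∈ E, a ≠ b ∧ a ≠ c ∧ b ≠ c ∧ m a * m a = 1 ∧ m b * m b = 1 ∧
      m c * m c = 1 ∧ ∀ i ∈ E, i ≠ a → i ≠ b → i ≠ c → m i = 0 := by
  obtain ⟨a, ha, ha1⟩ : ∃ a ∈ E, m a * m a = 1 := by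
    by_contra h0
    push Not at h0
    obtain ⟨i, hi, hi0⟩ := Finset.exists_ne_zero_of_sum_ne_zero (h.trans_ne (by norm_num))
    have h1 := Finset.single_le_sum (f := fun i => m i * m i) (fun j _ => mul_self_nonneg (m j)) hi
    have h2 : m i * m i ≠ 0 := hi0
    have h3 := h0 i hi
    have h4 : (m i).natAbs * (m i).natAbs ≤ 3 := by
      have : ((m i).natAbs : ℤ) * (m i).natAbs ≤ 3 := by
        rw [← Int.natCast_mul, Int.natAbs_mul_self]; omega
      exact_mod_cast this
    have h5 : (m i).natAbs ≤ 1 := by nlinarith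
    have h6 : (m i).natAbs * (m i).natAbs ≤ 1 := Nat.mul_le_mul h5 h5
    have h7 : m i * m i = ((m i).natAbs * (m i).natAbs : ℕ) := Int.natAbs_mul_self.symm
    omega
  rw [← Finset.add_sum_erase _ _ ha, ha1] at h
  obtain ⟨b, hb, c, hc, hbc, hb1, hc1, h0⟩ := exists_pair_of_sum_sq (E.erase a) m (by linarith)
  refine ⟨a, ha, b, Finset.mem_of_mem_erase hb, c, Finset.mem_of_mem_erase hc,
    (Finset.mem_erase.mp hb).1.symm, (Finset.mem_erase.mp hc).1.symm, hbc, ha1, hb1, hc1,
    fun i hi h1 h2 h3 => h0 i (Finset.mem_erase.mpr ⟨h1, hi⟩) h2 h3⟩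

/-- The possible signed degrees. -/
theorem triple_cases {g : ℕ} {A B E : ℤ} (hA : A % 4 = 1) (hB : B % 4 = 1) (hE : E % 4 = 1)
    (hsum : 1 + A + B + E = 0)
    (heq : (g : ℤ) * (A * B * E + B * E + A * E + A * B) = 32 * (A * B * E))
    (hsq : 1 + A ^ 2 + B ^ 2 + E ^ 2 ≤ g) :
    (g = 12 ∧ ((A = -3 ∧ B = 1 ∧ E = 1) ∨ (A = 1 ∧ B = -3 ∧ E = 1) ∨ (A = 1 ∧ B = 1 ∧ E = -3))) ∨
    (g = 60 ∧ ((A = 5 ∧ B = -3 ∧ E = -3) ∨ (A = -3 ∧ B = 5 ∧ E = -3) ∨
      (A = -3 ∧ B = -3 ∧ E = 5))) := by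
  have hA0 : (A : ℝ) ≠ 0 := by exact_mod_cast (show A ≠ 0 by omega)
  have hB0 : (B : ℝ) ≠ 0 := by exact_mod_cast (show B ≠ 0 by omega)
  have hE0 : (E : ℝ) ≠ 0 := by exact_mod_cast (show E ≠ 0 by omega)
  have hr : (g : ℝ) * (1 + 1 / (A : ℝ) + 1 / B + 1 / E) = 32 := by
    have h : ((g : ℝ) * ((A : ℝ) * B * E + B * E + A * E + A * B)) = 32 * ((A : ℝ) * B * E) := by
      exact_mod_cast heq
    field_simp
    linear_combination h
  have hlow : ∀ X : ℤ, X % 4 = 1 → (-1 / 3 : ℝ) ≤ 1 / (X : ℝ) := by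
    intro X hX
    rcases lt_or_gt_of_ne (show X ≠ 0 by omega) with h | h
    · have h3 : (X : ℝ) ≤ -3 := by exact_mod_cast (show X ≤ -3 by omega)
      rw [le_div_iff_of_neg (by linarith : (X : ℝ) < 0)]
      linarith
    · have : (0 : ℝ) < 1 / (X : ℝ) := by
        have : (0 : ℝ) < X := by exact_mod_cast h
        positivity
      linarith
  have hpos : (1 / 3 : ℝ) ≤ 1 + 1 / (A : ℝ) + 1 / B + 1 / E := by
    have key : ∀ X : ℤ, 0 < X → (0 : ℝ) ≤ 1 / (X : ℝ) := fun X hX => by
      have : (0 : ℝ) < X := by exact_mod_cast hX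
      positivity
    have h1 := hlow A hA
    have h2 := hlow B hB
    have h3 := hlow E hE
    rcases (show 0 < A ∨ 0 < B ∨ 0 < E by omega) with h | h | h
    · linarith [key A h]
    · linarith [key B h]
    · linarith [key E h]
  have hg : g ≤ 96 := by
    have : (g : ℝ) * (1 / 3) ≤ 32 := hr ▸ mul_le_mul_of_nonneg_left hpos (Nat.cast_nonneg g)
    have : (g : ℝ) ≤ 96 := by linarith
    exact_mod_cast this
  have bound : ∀ X : ℤ, X % 4 = 1 → X ^ 2 ≤ 95 → X = -7 ∨ X = -3 ∨ X = 1 ∨ X = 5 ∨ X = 9 := by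
    intro X hX h
    have h1 : X ≤ 9 := by nlinarith
    have h2 : -9 ≤ X := by nlinarith
    omega
  have sA := bound A hA (by nlinarith)
  have sB := bound B hB (by nlinarith)
  rcases sA with rfl | rfl | rfl | rfl | rfl <;> rcases sB with rfl | rfl | rfl | rfl | rfl <;>
    (obtain rfl : E = _ := eq_neg_of_add_eq_zero_right hsum; norm_num at *) <;> omega

variable {G : Type*} [Group G] [Fintype G] {t s : G} {K : Subgroup G} [Fintype ↥K]

namespace Config

variable (C : Config t s K)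

include C

theorem facts_of_eq_two (hk : Nat.card ↥K = 2) : ∃ (n : ℤ) (q l : ℕ), Facts K n q l := by
  classical
  have := Fintype.ofFinite (Cfsg.IrrCharacter G)
  have := Fintype.ofFinite ↥(Subgroup.centralizer ({t} : Set G))
  set T : ↥K := ⟨t, C.htK⟩ with hT
  have hT1 : T ≠ 1 := fun h => C.t_ne_one (congrArg Subtype.val h)
  have hT2 : T * T = 1 := Subtype.ext (CfsgLib.Signalizer.involution_sq C.ht)
  have huniv : ∀ x : ↥K, x = 1 ∨ x = T := by
    intro x
    by_contra h
    push Not at h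
    have h3 : ({1, T, x} : Finset ↥K).card = 3 := by
      rw [Finset.card_insert_of_notMem (by simp [hT1.symm, h.1.symm]), Finset.card_pair h.2.symm]
    have := Finset.card_le_univ ({1, T, x} : Finset ↥K)
    rw [h3, ← Nat.card_eq_fintype_card, hk] at this
    omega
  obtain ⟨η, hη⟩ := exists_apply_ne_one C.comm hT1
  have hηT : ((η T : ℂˣ) : ℂ) = -1 := by
    have h2 : ((η T : ℂˣ) : ℂ) * (η T : ℂ) = 1 := by
      rw [← Units.val_mul, ← map_mul, hT2, map_one, Units.val_one]
    exact (mul_self_eq_one_iff.mp h2).resolve_left fun h => hη (Units.ext h)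
  have hη1 : η ≠ 1 := fun h => hη (by rw [h, MonoidHom.one_apply])
  have hηη : η * η = 1 := MonoidHom.ext fun x => by
    rcases huniv x with rfl | rfl
    · simp
    · rw [MonoidHom.mul_apply, ← map_mul, hT2, map_one, MonoidHom.one_apply]
  have hco : ∀ χ : Cfsg.IrrCharacter G, (co η χ : ℂ) = (χ : G → ℂ) t := by
    intro χ
    rw [← co_spec, classInner_Phi η (IsIrr.isClassFunction χ.2),
      Finset.sum_eq_single T (fun x _ hx => by
        rw [(huniv x).resolve_right hx, map_one, Units.val_one, sub_self, zero_mul])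
        (fun h => absurd (Finset.mem_univ _) h),
      hηT, hk, ← IsIrr.map_inv χ.2, hT]
    rw [CfsgLib.Signalizer.involution_inv C.ht]
    push_cast
    ring
  have hnorm := C.sum_erase_co hη1 hη1
  rw [if_pos rfl, if_pos hηη] at hnorm
  obtain ⟨a, ha, b, hb, c, hc, hab, hac, hbc, sa, sb, sc, h0⟩ :=
    exists_triple _ _ (hnorm.trans (by norm_num))
  have ha1 := (Finset.mem_erase.mp ha).1
  have hb1 := (Finset.mem_erase.mp hb).1
  have hc1 := (Finset.mem_erase.mp hc).1
  have hsplit : ∀ F : Cfsg.IrrCharacter G → ℂ, (∀ χ, co η χ = 0 → F χ = 0) →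
      ∑ χ, F χ = F (trivialIrr G) + F a + F b + F c := by
    intro F hF
    rw [← Finset.add_sum_erase _ _ (Finset.mem_univ (trivialIrr G)),
      ← Finset.add_sum_erase _ _ ha,
      ← Finset.add_sum_erase _ _ (Finset.mem_erase.mpr ⟨hab.symm, hb⟩),
      ← Finset.add_sum_erase _ _ (Finset.mem_erase.mpr ⟨hbc.symm,
        Finset.mem_erase.mpr ⟨hac.symm, hc⟩⟩),
      Finset.sum_eq_zero, add_zero]
    · ring
    · intro χ hχ
      simp only [Finset.mem_erase] at hχ
      exact hF χ (h0 χ (Finset.mem_erase.mpr hχ.2.2.2) hχ.2.2.1 hχ.2.1 hχ.1)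
  have hPhi : ∀ g, Phi η g = 1 + signed (co η a) a g + signed (co η b) b g + signed (co η c) c g := by
    intro g
    rw [Phi_eq_sum, hsplit _ (fun χ h => by rw [h, Int.cast_zero, zero_mul]), co_trivial hη1,
      trivialIrr_apply, Int.cast_one, one_mul]
    rfl
  obtain ⟨da, hda0, hda⟩ := IsIrr.exists_degree a.2
  obtain ⟨db, hdb0, hdb⟩ := IsIrr.exists_degree b.2
  obtain ⟨dc, hdc0, hdc⟩ := IsIrr.exists_degree c.2
  set A : ℤ := co η a * da with hA
  set B : ℤ := co η b * db with hB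
  set E : ℤ := co η c * dc with hE
  have hsum : 1 + A + B + E = 0 := by
    have h := hPhi 1
    rw [Phi, indFun_apply_one, oneSub, map_one, Units.val_one, sub_self, mul_zero, signed, signed,
      signed, hda, hdb, hdc] at h
    have : ((1 + A + B + E : ℤ) : ℂ) = 0 := by push_cast [hA, hB, hE]; linear_combination (-1 : ℂ) * h
    exact_mod_cast this
  have hcard : Nat.card ↥(Subgroup.centralizer ({t} : Set G)) = 4 := by
    rw [C.card_H, hk]
  have hmod : ∀ (χ : Cfsg.IrrCharacter G) (d : ℕ), (χ : G → ℂ) 1 = d → co η χ * co η χ = 1 →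
      (co η χ * d) % 4 = 1 := by
    intro χ d hd hsq
    set Hs := Subgroup.centralizer ({t} : Set G) with hHs
    obtain ⟨i, hi⟩ := IsGen.exists_classInner_eq_intCast
      (IsGen.restrict Hs (IsGen.of_irr χ.2)) IsGen.one
    rw [Cfsg.classInner] at hi
    simp only [Pi.one_apply, map_one, mul_one] at hi
    have hone : ∀ h : ↥Hs, h ≠ 1 → (χ : G → ℂ) h = (co η χ : ℂ) := fun h hh => by
      obtain ⟨h1, g, hg⟩ := C.conjInto_of_conj_mem_H (z := (h : G)) (g := 1)
        (fun e => hh (Subtype.ext e)) (by rw [one_mul, inv_one, mul_one]; exact h.2)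
      rw [hco, ← IsIrr.isClassFunction χ.2 h g]
      rcases huniv ⟨_, hg⟩ with e | e
      · exact absurd (conj_eq_one_iff.mp (congrArg Subtype.val e)) h1
      · rw [show g * (h : G) * g⁻¹ = t from congrArg Subtype.val e]
    rw [← Finset.add_sum_erase _ _ (Finset.mem_univ (1 : ↥Hs)), OneMemClass.coe_one, hd,
      Finset.sum_congr rfl (fun h hh => hone h (Finset.mem_erase.mp hh).1), Finset.sum_const,
      Finset.card_erase_of_mem (Finset.mem_univ _), Finset.card_univ, ← Nat.card_eq_fintype_card,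
      hHs, hcard, inv_mul_eq_iff_eq_mul₀ (by norm_num)] at hi
    have : ((d + 3 * co η χ : ℤ) : ℂ) = ((4 * i : ℤ) : ℂ) := by
      push_cast
      simp only [nsmul_eq_mul] at hi
      push_cast at hi
      linear_combination hi
    have h4 : (d : ℤ) + 3 * co η χ = 4 * i := by exact_mod_cast this
    rcases mul_self_eq_one_iff.mp hsq with e | e <;> rw [e] at h4 ⊢ <;> omega
  have heq : (Nat.card G : ℤ) * (A * B * E + B * E + A * E + A * B) = 32 * (A * B * E) := by
    have h := C.sum_co_sq_div hη1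
    rw [hsplit _ (fun χ h => by rw [h, Int.cast_zero, zero_mul]), co_trivial hη1, trivialIrr_apply,
      trivialIrr_apply, ← hco, ← hco, ← hco, hda, hdb, hdc, hk] at h
    have hA' : (A : ℂ) = (co η a : ℂ) * da := by rw [hA]; push_cast; rfl
    have hB' : (B : ℂ) = (co η b : ℂ) * db := by rw [hB]; push_cast; rfl
    have hE' : (E : ℂ) = (co η c : ℂ) * dc := by rw [hE]; push_cast; rfl
    have hne : ∀ (χ : Cfsg.IrrCharacter G) (d : ℕ), (χ : G → ℂ) 1 = d → (d : ℂ) ≠ 0 :=
      fun χ d hd => hd ▸ IsIrr.apply_one_ne_zero χ.2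
    have n1 := hne a da hda
    have n2 := hne b db hdb
    have n3 := hne c dc hdc
    have h' : (((Nat.card G : ℤ) * (A * B * E + B * E + A * E + A * B) : ℤ) : ℂ) =
        ((32 * (A * B * E) : ℤ) : ℂ) := by
      push_cast [hA', hB', hE'] at h ⊢
      field_simp at h
      rcases mul_self_eq_one_iff.mp sa with e1 | e1 <;> rcases mul_self_eq_one_iff.mp sb with e2 | e2 <;>
        rcases mul_self_eq_one_iff.mp sc with e3 | e3 <;>
        simp only [e1, e2, e3, Int.cast_one, Int.cast_neg] at h ⊢ <;>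
        first | linear_combination h | linear_combination (-1 : ℂ) * h
    exact_mod_cast h'
  have hsq : 1 + A ^ 2 + B ^ 2 + E ^ 2 ≤ (Nat.card G : ℤ) := by
    have h := sum_sq_degree (G := G)
    have hd : ∀ χ : Cfsg.IrrCharacter G, ∃ d : ℕ, (χ : G → ℂ) 1 = d := fun χ =>
      (IsIrr.exists_degree χ.2).imp fun _ h => h.2
    choose d hd using hd
    simp only [hd] at h
    have h' : ∑ χ, d χ ^ 2 = Nat.card G := by exact_mod_cast h
    have hsub := Finset.sum_le_sum_of_subset (f := fun χ => d χ ^ 2)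
      (Finset.subset_univ ({trivialIrr G, a, b, c} : Finset (Cfsg.IrrCharacter G)))
    rw [h', Finset.sum_insert (by simp [ha1.symm, hb1.symm, hc1.symm]),
      Finset.sum_insert (by simp [hab, hac]), Finset.sum_pair hbc] at hsub
    have e1 : d (trivialIrr G) = 1 := by
      have := hd (trivialIrr G); rw [trivialIrr_apply] at this; exact_mod_cast this.symm
    have ea : d a = da := by exact_mod_cast (hd a).symm.trans hda
    have eb : d b = db := by exact_mod_cast (hd b).symm.trans hdb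
    have ec : d c = dc := by exact_mod_cast (hd c).symm.trans hdc
    rw [e1, ea, eb, ec] at hsub
    have hsub' : (1 : ℤ) + ((da : ℤ) ^ 2 + ((db : ℤ) ^ 2 + (dc : ℤ) ^ 2)) ≤ Nat.card G := by
      exact_mod_cast (by simpa using hsub : 1 + (da ^ 2 + (db ^ 2 + dc ^ 2)) ≤ Nat.card G)
    have p : ∀ (e : ℤ) (d : ℤ), e * e = 1 → (e * d) ^ 2 = d ^ 2 := fun e d h => by
      rw [mul_pow, sq e, h, one_mul]
    rw [hA, hB, hE, p _ _ sa, p _ _ sb, p _ _ sc]
    linarith
  have hcases := triple_cases (hmod a da hda sa) (hmod b db hdb sb) (hmod c dc hdc sc) hsum heq hsq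
  -- the facts from one distinguished constituent
  have main : ∀ (n : ℤ) (q l : ℕ) (x y z : Cfsg.IrrCharacter G) (dx dy dz : ℕ),
      (n = 1 ∨ n = -1) → (q : ℤ) = 4 + n → (l : ℤ) = 2 + n → Nat.card G = 4 * q * l →
      (∀ g, Phi η g = 1 + signed (co η x) x g + signed (co η y) y g + signed (co η z) z g) →
      co η x * co η x = 1 → (x : G → ℂ) 1 = dx → (y : G → ℂ) 1 = dy → (z : G → ℂ) 1 = dz →
      dx = q → l ∣ dy → l ∣ dz → Facts K n q l := by
    intro n q l x y z dx dy dz hn hq hl hg hphi sx hdx hdy hdz hxq hyl hzl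
    refine C.facts_of_fun hn (by rw [hk]; push_cast; linarith) (by rw [hk]; push_cast; linarith) (by rw [hk]; linarith)
      (signed (co η x) x) (fun g => signed (co η y) y g + signed (co η z) z g) ?_ ?_ ?_ ?_ ?_ ?_ ?_
    · exact fun g h => by simp only [signed, IsIrr.isClassFunction x.2 g h]
    · rw [signed, hdx, hxq, map_mul, map_intCast, map_natCast]
      have : (co η x : ℂ) * co η x = 1 := by exact_mod_cast sx
      linear_combination (q : ℂ) ^ 2 * this
    · refine Eq.trans ?_ (classInner_irr_self x)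
      simp only [Cfsg.classInner]
      congr 1
      refine Finset.sum_congr rfl fun g _ => ?_
      rcases mul_self_eq_one_iff.mp sx with e | e <;> simp [signed, e]
    · intro u hu hu1
      have e : u = t := congrArg Subtype.val
        ((huniv ⟨u, hu⟩).resolve_left fun h => hu1 (congrArg Subtype.val h))
      rw [e, signed, ← hco]
      exact_mod_cast sx
    · intro u _ hu
      have h := hphi u
      rw [C.Phi_zero η hu] at h
      linear_combination -h
    · intro u hu
      rw [signed, eq_zero_of_not_coprime x hdx (a := 4 * l) (m := q) (by rw [hg]; ring) ?_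
        (hxq ▸ dvd_rfl) hu, mul_zero]
      have c2 : q.Coprime (2 * 2) := coprime_q_twoK hn (by push_cast; linarith)
      exact c2.mul_right (coprime_q_l (k := 2) hn (by push_cast; linarith) (by push_cast; linarith))
    · intro u hu
      have c2 : l.Coprime (4 * q) :=
        (coprime_l_twoK (k := 2) hn (by push_cast; linarith) dvd_rfl).mul_right
          (coprime_q_l (k := 2) hn (by push_cast; linarith) (by push_cast; linarith)).symm
      show signed _ y u + signed _ z u = 0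
      rw [signed, signed, eq_zero_of_not_coprime y hdy (a := 4 * q) (m := l) (by rw [hg]) c2 hyl hu,
        eq_zero_of_not_coprime z hdz (a := 4 * q) (m := l) (by rw [hg]) c2 hzl hu]
      ring
  have hdeg : ∀ (e : ℤ) (d : ℕ) (X : ℤ), e * e = 1 → e * d = X → d = X.natAbs := fun e d X he h => by
    rcases mul_self_eq_one_iff.mp he with rfl | rfl <;> omega
  have p2 : ∀ g, Phi η g = 1 + signed (co η b) b g + signed (co η a) a g + signed (co η c) c g :=
    fun g => by rw [hPhi g]; ring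
  have p3 : ∀ g, Phi η g = 1 + signed (co η c) c g + signed (co η a) a g + signed (co η b) b g :=
    fun g => by rw [hPhi g]; ring
  rcases hcases with ⟨hg, h⟩ | ⟨hg, h⟩
  · refine ⟨-1, 3, 1, ?_⟩
    have hg' : Nat.card G = 4 * 3 * 1 := hg
    rcases h with ⟨e1, -, -⟩ | ⟨-, e1, -⟩ | ⟨-, -, e1⟩
    · exact main _ _ _ a b c _ _ _ (Or.inr rfl) rfl rfl hg' hPhi sa hda hdb hdc
        (hdeg _ _ _ sa e1) (one_dvd _) (one_dvd _)
    · exact main _ _ _ b a c _ _ _ (Or.inr rfl) rfl rfl hg' p2 sb hdb hda hdc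
        (hdeg _ _ _ sb e1) (one_dvd _) (one_dvd _)
    · exact main _ _ _ c a b _ _ _ (Or.inr rfl) rfl rfl hg' p3 sc hdc hda hdb
        (hdeg _ _ _ sc e1) (one_dvd _) (one_dvd _)
  · refine ⟨1, 5, 3, ?_⟩
    have hg' : Nat.card G = 4 * 5 * 3 := hg
    rcases h with ⟨e1, e2, e3⟩ | ⟨e2, e1, e3⟩ | ⟨e2, e3, e1⟩
    · exact main _ _ _ a b c _ _ _ (Or.inl rfl) rfl rfl hg' hPhi sa hda hdb hdc
        (hdeg _ _ _ sa e1) (dvd_of_eq (hdeg _ _ _ sb e2).symm) (dvd_of_eq (hdeg _ _ _ sc e3).symm)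
    · exact main _ _ _ b a c _ _ _ (Or.inl rfl) rfl rfl hg' p2 sb hdb hda hdc
        (hdeg _ _ _ sb e1) (dvd_of_eq (hdeg _ _ _ sa e2).symm) (dvd_of_eq (hdeg _ _ _ sc e3).symm)
    · exact main _ _ _ c a b _ _ _ (Or.inl rfl) rfl rfl hg' p3 sc hdc hda hdb
        (hdeg _ _ _ sc e1) (dvd_of_eq (hdeg _ _ _ sa e2).symm) (dvd_of_eq (hdeg _ _ _ sb e3).symm)

end Config

end CfsgLib.PGroups.BSW
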