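import Cfsg.Agent.Lib.PGroups.BSW.Normalizer
import Cfsg.Agent.Lib.PGroups.BSW.OrderFormula
import Cfsg.Agent.Lib.PGroups.BSW.Small
import Mathlib.GroupTheory.SchurZassenhaus

/-!
# The abstract Brauer–Suzuki–Wall theorem
-/

set_option autoImplicit false

namespace CfsgLib.PGroups.BSW

open Subgroup
open CfsgLib.Signalizer (involution_sq involution_inv orderOf_eq_two_of orderOf_conj)

variable {G : Type*} [Group G] [Fintype G] {t s : G} {K : Subgroup G}

/-- The conclusion of the theorem for the subgroups `Q` and `D`. -/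
structure Conclusion (Q D : Subgroup G) : Prop where
  card_eq : 2 * Nat.card G = Nat.card ↥Q * (Nat.card ↥Q + 1) * (Nat.card ↥Q - 1)
  cent : ∀ x ∈ Q, x ≠ 1 → Subgroup.centralizer ({x} : Set G) = Q
  comm : IsMulCommutative ↥D
  card_D : 2 * Nat.card ↥D + 1 = Nat.card ↥Q
  inf_eq : Q ⊓ D = ⊥
  norm_eq : Subgroup.normalizer (Q : Set G) = Q ⊔ D
  norm_sub : ∀ X : Subgroup G, X ≤ D → X ≠ ⊥ →
    Subgroup.normalizer (X : Set G) = Subgroup.normalizer (D : Set G) ∧
    ∃ u : G, orderOf u = 2 ∧ u ∉ D ∧ (∀ d ∈ D, u * d * u⁻¹ = d⁻¹) ∧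
      Subgroup.normalizer (D : Set G) = D ⊔ Subgroup.zpowers u

namespace Config

variable (C : Config t s K)

local notation "H" => Subgroup.centralizer (Singleton.singleton t : Set G)

include C

theorem normalizer_eq_H {X : Subgroup G} (hX : X ≤ K) (hX1 : X ≠ ⊥) :
    Subgroup.normalizer (X : Set G) = H := by
  obtain ⟨⟨x, hx⟩, hx1⟩ := Subgroup.ne_bot_iff_exists_ne_one.mp hX1
  refine le_antisymm (fun g hg => C.ti g x (hX hx) (fun e => hx1 (Subtype.ext e))
    (hX ((Subgroup.mem_normalizer_iff.mp hg x).mp hx))) fun g hg => ?_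
  have key : ∀ h ∈ H, ∀ a ∈ X, h * a * h⁻¹ ∈ X := by
    intro h hh a ha
    rcases C.conj_cases hh with e | e <;> rw [e a (hX ha)]
    · exact ha
    · exact inv_mem ha
  rw [Subgroup.mem_normalizer_iff]
  intro a
  refine ⟨key g hg a, fun ha => ?_⟩
  have := key g⁻¹ (inv_mem hg) _ ha
  rwa [show g⁻¹ * (g * a * g⁻¹) * g⁻¹⁻¹ = a by group] at this

end Config

namespace Facts

variable (C : Config t s K) {n : ℤ} {q l p j : ℕ} [Fact p.Prime] (F : Facts K n q l)
  (hqp : q = p ^ j) (hj : 0 < j)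

include C F hqp hj

/-- If one element of type `q` is inverted, every Sylow `p`-subgroup is a centralizer. -/
theorem cent_of_exists_inverted (h : ∃ z : G, OfType q z ∧ IsInverted z) :
    ∀ P : Sylow p G, ∀ x ∈ (P : Subgroup G), x ≠ 1 →
      Subgroup.centralizer ({x} : Set G) = (P : Subgroup G) := by
  obtain ⟨z, hz, u, hu, hinv⟩ := h
  obtain ⟨S, hS⟩ := F.exists_sylow_eq_cent C hqp hj hz
  have habS : ∀ a ∈ (S : Subgroup G), ∀ b ∈ (S : Subgroup G), a * b = b * a := by
    rw [hS]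
    exact fun a ha b hb => commute_of_inverted _
      (C.cent_of_inverted F.coprimes.1 (F.cent_q_dvd C hz) hu hinv) ha hb
  intro P
  obtain ⟨g, hg⟩ := MulAction.exists_smul_eq G S P
  have habP : ∀ a ∈ (P : Subgroup G), ∀ b ∈ (P : Subgroup G), a * b = b * a := by
    intro a ha b hb
    rw [← hg, Sylow.coe_subgroup_smul, Subgroup.mem_pointwise_smul_iff_inv_smul_mem] at ha hb
    exact (MulAut.conj g)⁻¹.injective (by simpa [map_mul] using habS _ ha _ hb)
  exact fun x hx hx1 => cent_eq_of_card (F.sylow_card C hqp hj P) habP hx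
    (F.cent_q_dvd C (F.ofType_of_mem_sylow C hqp hj hx hx1))

/-- `|N(P)|` times `q + 1` is `|G|`. -/
theorem card_normalizer
    (hC : ∀ P : Sylow p G, ∀ x ∈ (P : Subgroup G), x ≠ 1 →
      Subgroup.centralizer ({x} : Set G) = (P : Subgroup G))
    (P : Sylow p G) :
    Nat.card ↥(Subgroup.normalizer ((P : Subgroup G) : Set G)) * (q + 1) = 2 * Nat.card ↥K * q * l := by
  rw [← F.index_normalizer C hqp hj hC P, Subgroup.card_mul_index, F.hcard]

omit hqp hj in
theorem two_mul_card : 2 * Nat.card G = q * (q + 1) * (q - 1) := by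
  obtain ⟨c, hc⟩ : ∃ c, q = c + 1 := ⟨q - 1, by
    have := F.q_odd; rcases q with _ | q
    · simp at this
    · omega⟩
  have h2 := F.q_sq
  rw [F.hcard, hc] at *
  rw [Nat.add_sub_cancel]
  nlinarith

theorem conclusion_plus (hn : n = 1) : ∃ Q D : Subgroup G, Conclusion Q D := by
  classical
  obtain ⟨z₀, hz₀, u, hu, hinv₀⟩ := F.exists_inverted C hn
  have hC := F.cent_of_exists_inverted C hqp hj ⟨z₀, hz₀, u, hu, hinv₀⟩
  -- a conjugate is inverted by `t`
  obtain ⟨g, hg⟩ := isConj_iff.mp (C.hconj u t hu C.ht)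
  set z := g * z₀ * g⁻¹ with hzdef
  have hz : OfType q z :=
    ⟨fun e => hz₀.1 (conj_eq_one_iff.mp e), by rw [orderOf_conj]; exact hz₀.2⟩
  have hinv : t * z * t⁻¹ = z⁻¹ := by
    calc t * z * t⁻¹ = g * (u * z₀ * u⁻¹) * g⁻¹ := by rw [← hg, hzdef]; group
      _ = z⁻¹ := by rw [hinv₀, hzdef]; group
  obtain ⟨P, hP⟩ := F.exists_sylow_eq_cent C hqp hj hz
  have hPinv : ∀ a ∈ (P : Subgroup G), t * a * t⁻¹ = a⁻¹ := by
    rw [hP]; exact C.cent_of_inverted F.coprimes.1 (F.cent_q_dvd C hz) C.ht hinv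
  set N := Subgroup.normalizer ((P : Subgroup G) : Set G) with hNdef
  set D := Subgroup.centralizer ({t} : Set G) ⊓ N with hDdef
  have hPodd : ∀ a ∈ (P : Subgroup G), a * a = 1 → a = 1 := by
    intro a ha haa
    by_contra ha1
    have h2 := orderOf_eq_two_of ha1 haa
    have := (F.ofType_of_mem_sylow C hqp hj ha ha1).2
    rw [h2] at this
    exact (Nat.not_even_iff_odd.mpr F.q_odd) (even_iff_two_dvd.mpr this)
  have hinf : ∀ a ∈ (P : Subgroup G), a ∈ Subgroup.centralizer ({t} : Set G) → a = 1 := by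
    intro a ha hat
    refine hPodd a ha ?_
    have h1 := hPinv a ha
    rw [← Subgroup.mem_centralizer_singleton_iff.mp hat, mul_inv_cancel_right] at h1
    exact mul_eq_one_iff_eq_inv.mpr h1
  obtain ⟨z', hz'P, hz'1⟩ : ∃ x ∈ (P : Subgroup G), x ≠ 1 :=
    ⟨z, hP ▸ Subgroup.mem_centralizer_singleton_iff.mpr rfl, hz.1⟩
  -- whatever inverts `P` differs from `t` by an element of `P`
  have hdiff : ∀ v : G, (∀ a ∈ (P : Subgroup G), v * a * v⁻¹ = a⁻¹) → v * t ∈ (P : Subgroup G) := by
    intro v hv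
    rw [← hC P z' hz'P hz'1, Subgroup.mem_centralizer_singleton_iff]
    have h1 : v * t * z' * (v * t)⁻¹ = z' := by
      calc v * t * z' * (v * t)⁻¹ = v * (t * z' * t⁻¹) * v⁻¹ := by group
        _ = z' := by rw [hPinv z' hz'P, hv _ (inv_mem hz'P), inv_inv]
    exact mul_inv_eq_iff_eq_mul.mp h1
  have hconjN : ∀ m ∈ N, ∀ a ∈ (P : Subgroup G), m * a * m⁻¹ ∈ (P : Subgroup G) := fun m hm a ha =>
    (Subgroup.mem_normalizer_iff.mp hm a).mp ha
  have htt : t * t = 1 := involution_sq C.ht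
  -- `N = P D`
  have hfac : ∀ m ∈ N, ∃ b ∈ (P : Subgroup G), b⁻¹ * m ∈ D := by
    intro m hm
    have hv : ∀ a ∈ (P : Subgroup G), (m * t * m⁻¹) * a * (m * t * m⁻¹)⁻¹ = a⁻¹ := by
      intro a ha
      have hb : m⁻¹ * a * m ∈ (P : Subgroup G) := by
        have := hconjN m⁻¹ (inv_mem hm) a ha; rwa [inv_inv] at this
      calc (m * t * m⁻¹) * a * (m * t * m⁻¹)⁻¹ = m * (t * (m⁻¹ * a * m) * t⁻¹) * m⁻¹ := by group
        _ = a⁻¹ := by rw [hPinv _ hb]; group
    set a := m * t * m⁻¹ * t with hadef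
    have ha : a ∈ (P : Subgroup G) := hdiff _ hv
    obtain ⟨c, hc⟩ := F.q_odd
    set b := a ^ (c + 1) with hbdef
    have hbb : b * b = a := by
      have h1 : a ^ q = 1 := by
        rw [← F.sylow_card C hqp hj P]
        exact congrArg Subtype.val (pow_card_eq_one' (x := (⟨a, ha⟩ : ↥(P : Subgroup G))))
      rw [hbdef, ← pow_add, show c + 1 + (c + 1) = q + 1 by omega, pow_succ, h1, one_mul]
    have hbP : b ∈ (P : Subgroup G) := pow_mem ha _
    refine ⟨b, hbP, Subgroup.mem_inf.mpr ⟨?_, mul_mem (inv_mem (Subgroup.le_normalizer hbP)) hm⟩⟩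
    rw [Subgroup.mem_centralizer_singleton_iff]
    have hmt : m * t = b * b * t * m := by
      rw [hbb, hadef]
      simp only [mul_assoc]
      rw [← mul_assoc t t, htt, one_mul, inv_mul_cancel, mul_one]
    calc b⁻¹ * m * t = b⁻¹ * (m * t) := mul_assoc _ _ _
      _ = b * t * m := by rw [hmt]; group
      _ = t * (t * b * t⁻¹) * m := by
          rw [involution_inv C.ht]
          simp only [← mul_assoc, htt, one_mul]
      _ = t * (b⁻¹ * m) := by rw [hPinv b hbP, mul_assoc]
  have hk := C.two_le_k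
  have hqk : q = 2 * Nat.card ↥K + 1 := by have := F.hq; rw [hn] at this; omega
  have hDcard : Nat.card ↥D = Nat.card ↥K := by
    have hbij : Function.Bijective (fun x : ↥(P : Subgroup G) × ↥D =>
        (⟨(x.1 : G) * x.2, mul_mem (Subgroup.le_normalizer x.1.2) x.2.2.2⟩ : ↥N)) := by
      constructor
      · rintro ⟨a, d⟩ ⟨a', d'⟩ h
        have h' : (a : G) * d = a' * d' := congrArg Subtype.val h
        have h1 : (a' : G)⁻¹ * a = d' * (d : G)⁻¹ := by
          calc (a' : G)⁻¹ * a = (a' : G)⁻¹ * (a * d) * (d : G)⁻¹ := by group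
            _ = d' * (d : G)⁻¹ := by rw [h']; group
        have h2 := hinf _ (mul_mem (inv_mem a'.2) a.2) (h1 ▸ mul_mem d'.2.1 (inv_mem d.2.1))
        have ea : a = a' := Subtype.ext (inv_mul_eq_one.mp h2).symm
        subst ea
        exact Prod.ext rfl (Subtype.ext (mul_left_cancel h'))
      · rintro ⟨m, hm⟩
        obtain ⟨b, hb, hbm⟩ := hfac m hm
        exact ⟨(⟨b, hb⟩, ⟨_, hbm⟩), Subtype.ext (mul_inv_cancel_left b m)⟩
    have hcard := Nat.card_congr (Equiv.ofBijective _ hbij)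
    rw [Nat.card_prod, F.sylow_card C hqp hj P] at hcard
    have h := F.card_normalizer C hqp hj hC P
    rw [← hNdef, ← hcard] at h
    have hl : q + 1 = 2 * l := by have := F.hl; rw [hn] at this; omega
    rw [hl] at h
    have hpos : 0 < q * (2 * l) := Nat.mul_pos (by omega) (Nat.mul_pos two_pos F.l_pos)
    exact Nat.eq_of_mul_eq_mul_right hpos (by linarith)
  have hDK : D = K := by
    refine Subgroup.eq_of_le_of_card_ge (fun d hd => ?_) hDcard.ge
    by_contra hdK
    have hd2 := C.orderOf_eq_two hd.1 hdK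
    have hvinv : ∀ a ∈ (P : Subgroup G), d * a * d⁻¹ = a⁻¹ := by
      refine inverts_of_fpf _ (involution_sq hd2) (hconjN d hd.2) fun a ha hfix => ?_
      by_contra ha1
      refine (C.conjInto_iff.mp (C.conjInto_of_commute_involution ha1 hd2
        (mul_inv_eq_iff_eq_mul.mp hfix).symm)) ?_
      exact F.coprimes.1.coprime_dvd_left (F.ofType_of_mem_sylow C hqp hj ha ha1).2
    have hdt : d * t = 1 := hinf _ (hdiff d hvinv)
      (mul_mem hd.1 (Subgroup.mem_centralizer_singleton_iff.mpr rfl))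
    rw [mul_eq_one_iff_eq_inv, involution_inv C.ht] at hdt
    exact hdK (hdt ▸ C.htK)
  refine ⟨P, K, ⟨?_, hC P, C.comm, ?_, ?_, ?_, ?_⟩⟩
  · rw [F.sylow_card C hqp hj P]; exact F.two_mul_card C
  · rw [F.sylow_card C hqp hj P]; omega
  · rw [eq_bot_iff]
    rintro a ⟨ha, haK⟩
    exact Subgroup.mem_bot.mpr (hinf a ha (C.le_cent haK))
  · refine le_antisymm (fun m hm => ?_)
      (sup_le Subgroup.le_normalizer (hDK ▸ (inf_le_right : D ≤ N)))
    obtain ⟨b, hb, hbm⟩ := hfac m hm
    rw [← mul_inv_cancel_left b m]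
    exact Subgroup.mul_mem_sup hb (hDK ▸ hbm)
  · intro X hX hX1
    rw [C.normalizer_eq_H hX hX1, C.normalizer_eq_H le_rfl (ne_bot_of_le_ne_bot hX1 hX)]
    exact ⟨rfl, s, C.hs, C.hsK, C.hinv, C.hH.symm⟩

theorem conclusion_minus (hn : n = -1) : ∃ Q D : Subgroup G, Conclusion Q D := by
  classical
  have hk := C.two_le_k
  have hq1 : q + 1 = 2 * Nat.card ↥K := by have := F.hq; rw [hn] at this; omega
  have hlk : l + 1 = Nat.card ↥K := by have := F.hl; rw [hn] at this; omega
  have hlodd : Odd l := by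
    obtain ⟨c, hc⟩ := F.hk
    exact ⟨c - 1, by omega⟩
  have hNcard : (∀ P : Sylow p G, ∀ x ∈ (P : Subgroup G), x ≠ 1 →
      Subgroup.centralizer ({x} : Set G) = (P : Subgroup G)) → ∀ P : Sylow p G,
      Nat.card ↥(Subgroup.normalizer ((P : Subgroup G) : Set G)) = q * l := by
    intro hC P
    have h := F.card_normalizer C hqp hj hC P
    rw [hq1] at h
    exact Nat.eq_of_mul_eq_mul_right (m := 2 * Nat.card ↥K) (by omega) (by rw [h]; ring)
  have hno : ∀ z : G, OfType q z → ¬ IsInverted z := by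
    rintro z hz ⟨u, hu, hinv⟩
    have hC := F.cent_of_exists_inverted C hqp hj ⟨z, hz, u, hu, hinv⟩
    obtain ⟨P, hP⟩ := F.exists_sylow_eq_cent C hqp hj hz
    have huN : u ∈ Subgroup.normalizer ((P : Subgroup G) : Set G) := by
      rw [Subgroup.mem_normalizer_iff, hP]
      intro a
      have key := C.cent_of_inverted F.coprimes.1 (F.cent_q_dvd C hz) hu hinv
      refine ⟨fun ha => by rw [key a ha]; exact inv_mem ha, fun ha => ?_⟩
      have h1 := key _ ha
      rw [show u * (u * a * u⁻¹) * u⁻¹ = u * u * a * (u * u)⁻¹ by group, involution_sq hu, one_mul,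
        inv_one, mul_one] at h1
      rw [h1]
      exact inv_mem ha
    have hd := Subgroup.orderOf_dvd_natCard _ huN
    rw [hu, hNcard hC P] at hd
    exact (Nat.not_even_iff_odd.mpr (F.q_odd.mul hlodd)) (even_iff_two_dvd.mpr hd)
  have hA := F.all_inverted C hn hno
  have hN : ∀ z : G, OfType l z → ∀ m : G, Odd (orderOf m) →
      m ∈ Subgroup.normalizer (Subgroup.centralizer ({z} : Set G) : Set G) →
      m ∈ Subgroup.centralizer ({z} : Set G) := fun z hz m => F.odd_mem_cent_l C hn hA z hz m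
  have hC : ∀ P : Sylow p G, ∀ x ∈ (P : Subgroup G), x ≠ 1 →
      Subgroup.centralizer ({x} : Set G) = (P : Subgroup G) := by
    intro P x hx hx1
    obtain ⟨S, hS⟩ := F.exists_sylow_eq_cent C hqp hj (F.ofType_of_mem_sylow C hqp hj hx hx1)
    rw [← hS]
    by_contra hne
    have h := F.sylow_ti C hqp hj hno hA hN S P fun e => hne (e ▸ rfl)
    have : x ∈ (S : Subgroup G) ⊓ (P : Subgroup G) :=
      ⟨hS ▸ Subgroup.mem_centralizer_singleton_iff.mpr rfl, hx⟩
    rw [h] at this
    exact hx1 (Subgroup.mem_bot.mp this)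
  let P : Sylow p G := default
  set N := Subgroup.normalizer ((P : Subgroup G) : Set G) with hNdef
  have hPN : (P : Subgroup G) ≤ N := Subgroup.le_normalizer
  have hNc : Nat.card ↥N = q * l := hNcard hC P
  set P' := (P : Subgroup G).subgroupOf N with hP'
  have : P'.Normal := Subgroup.normal_in_normalizer
  have hP'c : Nat.card ↥P' = q :=
    (Nat.card_congr (Subgroup.subgroupOfEquivOfLe hPN).toEquiv).trans (F.sylow_card C hqp hj P)
  have hP'i : P'.index = l := by
    refine Nat.eq_of_mul_eq_mul_left (n := Nat.card ↥P') Nat.card_pos ?_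
    rw [Subgroup.card_mul_index, hNc, hP'c]
  obtain ⟨T, hT⟩ := Subgroup.exists_right_complement'_of_coprime (N := P')
    (by rw [hP'c, hP'i]; exact F.coprimes.2.2)
  set D := T.map N.subtype with hDdef
  have hTc : Nat.card ↥T = l := by
    refine Nat.eq_of_mul_eq_mul_left (n := Nat.card ↥P') Nat.card_pos ?_
    rw [hT.card_mul_card, hNc, hP'c]
  have hDc : Nat.card ↥D = l := (Subgroup.card_map_of_injective N.subtype_injective).trans hTc
  have htype : ∀ d ∈ D, d ≠ 1 → OfType l d := fun d hd hd1 =>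
    ⟨hd1, (Subgroup.orderOf_dvd_natCard _ hd).trans hDc.dvd⟩
  have hoddD : ∀ d ∈ D, Odd (orderOf d) := fun d hd =>
    Odd.of_dvd_nat hlodd ((Subgroup.orderOf_dvd_natCard _ hd).trans hDc.dvd)
  have habA : ∀ d, OfType l d → ∀ a ∈ Subgroup.centralizer ({d} : Set G),
      ∀ b ∈ Subgroup.centralizer ({d} : Set G), a * b = b * a := by
    intro d hd a ha b hb
    obtain ⟨⟨u, hu, hinv⟩, -⟩ := hA d hd
    exact commute_of_inverted _
      (C.cent_of_inverted F.coprimes.2.1 (F.cent_l_dvd C hd) hu hinv) ha hb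
  have hDab : ∀ a ∈ D, ∀ b ∈ D, a * b = b * a := by
    intro a ha b hb
    refine congrArg Subtype.val (commute_of_selfNormalizing (G := ↥D) ?_ ?_ ⟨a, ha⟩ ⟨b, hb⟩)
    · intro c hc x y hx hy
      exact Subtype.ext (habA c (htype c c.2 fun e => hc (Subtype.ext e)) _
        (Subgroup.mem_centralizer_singleton_iff.mpr (congrArg Subtype.val hx)) _
        (Subgroup.mem_centralizer_singleton_iff.mpr (congrArg Subtype.val hy)))
    · intro c hc g hg
      have hc' := htype c c.2 fun e => hc (Subtype.ext e)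
      have h1 := Subgroup.mem_centralizer_singleton_iff.mp
        (hg c (Subgroup.mem_centralizer_singleton_iff.mpr rfl))
      have h2 : (g : G) * c * (g : G)⁻¹ ∈ Subgroup.centralizer ({(c : G)} : Set G) :=
        Subgroup.mem_centralizer_singleton_iff.mpr (congrArg Subtype.val h1)
      have hty : OfType l ((g : G) * c * (g : G)⁻¹) :=
        ⟨fun e => hc'.1 (conj_eq_one_iff.mp e), by rw [orderOf_conj]; exact hc'.2⟩
      have hgN := mem_normalizer_of_conj_mem (hA c hc').2 (habA c hc')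
        (Subgroup.mem_centralizer_singleton_iff.mpr rfl) h2 (F.cent_l_dvd C hc') (F.cent_l_dvd C hty)
      exact Subgroup.mem_centralizer_singleton_iff.mpr
        (Subtype.ext (Subgroup.mem_centralizer_singleton_iff.mp (hN c hc' g (hoddD g g.2) hgN)))
  have hcentD : ∀ d ∈ D, d ≠ 1 → Subgroup.centralizer ({d} : Set G) = D := fun d hd hd1 =>
    cent_eq_of_card hDc hDab hd (F.cent_l_dvd C (htype d hd hd1))
  refine ⟨P, D, ⟨?_, hC P, ⟨⟨fun a b => Subtype.ext (hDab _ a.2 _ b.2)⟩⟩, ?_, ?_, ?_, ?_⟩⟩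
  · rw [F.sylow_card C hqp hj P]; exact F.two_mul_card C
  · rw [F.sylow_card C hqp hj P, hDc]; omega
  · rw [eq_bot_iff]
    rintro a ⟨ha, ⟨b, hbT, hb⟩⟩
    have hb' : b ∈ P' := by
      rw [← hb] at ha
      exact Subgroup.mem_subgroupOf.mpr ha
    have := hT.disjoint.le_bot ⟨hb', hbT⟩
    rw [Subgroup.mem_bot] at this ⊢
    rw [← hb, this]; rfl
  · have h1 : Subgroup.map N.subtype (P' ⊔ T) = N := by
      rw [hT.sup_eq_top, ← MonoidHom.range_eq_map, Subgroup.range_subtype]
    rw [Subgroup.map_sup, hP', Subgroup.map_subgroupOf_eq_of_le hPN] at h1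
    exact h1.symm
  · intro X hX hX1
    obtain ⟨⟨x, hx⟩, hx1⟩ := Subgroup.ne_bot_iff_exists_ne_one.mp hX1
    replace hx1 : x ≠ 1 := fun e => hx1 (Subtype.ext e)
    have hxD := hX hx
    obtain ⟨⟨u, hu, hinv⟩, -⟩ := hA x (htype x hxD hx1)
    have huinv : ∀ d ∈ D, u * d * u⁻¹ = d⁻¹ := by
      rw [← hcentD x hxD hx1]
      exact C.cent_of_inverted F.coprimes.2.1 (F.cent_l_dvd C (htype x hxD hx1)) hu hinv
    have huD : u ∉ D := fun h => absurd (hu ▸ hoddD u h) (by decide)
    have hle : ∀ Y : Subgroup G, Y ≤ D →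
        D ⊔ Subgroup.zpowers u ≤ Subgroup.normalizer (Y : Set G) := by
      intro Y hY
      refine sup_le (fun d hd => Subgroup.mem_normalizer_iff.mpr fun a => ?_)
        (Subgroup.zpowers_le.mpr (Subgroup.mem_normalizer_iff.mpr fun a => ?_))
      · refine ⟨fun ha => by rwa [hDab d hd a (hY ha), mul_inv_cancel_right], fun ha => ?_⟩
        have e : a = d⁻¹ * (d * a * d⁻¹) * d := by group
        rw [e, mul_assoc, hDab _ (hY ha) d hd, inv_mul_cancel_left]
        exact ha
      · refine ⟨fun ha => by rw [huinv a (hY ha)]; exact inv_mem ha, fun ha => ?_⟩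
        have h1 := huinv _ (hY ha)
        rw [show u * (u * a * u⁻¹) * u⁻¹ = u * u * a * (u * u)⁻¹ by group, involution_sq hu,
          one_mul, inv_one, mul_one] at h1
        rw [h1]
        exact inv_mem ha
    have hup : Subgroup.normalizer (X : Set G) ≤ Subgroup.normalizer (D : Set G) := fun m hm => by
      have hy := hX ((Subgroup.mem_normalizer_iff.mp hm x).mp hx)
      exact mem_normalizer_of_conj_mem hDc hDab hxD hy (F.cent_l_dvd C (htype x hxD hx1))
        (F.cent_l_dvd C (htype _ hy fun e => hx1 (conj_eq_one_iff.mp e)))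
    have hND : Subgroup.normalizer (D : Set G) = D ⊔ Subgroup.zpowers u := by
      refine (Subgroup.eq_of_le_of_card_ge (hle D le_rfl) ?_).symm
      have hdvd := Subgroup.card_dvd_of_le (le_sup_left : D ≤ D ⊔ Subgroup.zpowers u)
      have hne : Nat.card ↥(D ⊔ Subgroup.zpowers u) ≠ Nat.card ↥D := fun e => huD (by
        rw [Subgroup.eq_of_le_of_card_ge (le_sup_left : D ≤ D ⊔ Subgroup.zpowers u) e.le]
        exact Subgroup.mem_sup_right (Subgroup.mem_zpowers u))
      have hNDc : Nat.card ↥(Subgroup.normalizer (D : Set G)) ≤ 2 * l := by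
        rw [← hcentD x hxD hx1]
        exact (F.card_normalizer_cent_l C hn hA x (htype x hxD hx1)).le
      obtain ⟨c, hc⟩ := hdvd
      rw [hDc] at hc hne
      have : 2 ≤ c := by
        rcases c with _ | _ | c
        · exact absurd hc (by simpa using Nat.card_pos.ne')
        · exact absurd (hc.trans (mul_one l)) hne
        · omega
      exact hNDc.trans (by rw [hc, mul_comm 2 l]; exact Nat.mul_le_mul_left l this)
    refine ⟨le_antisymm hup (hND ▸ hle X hX), u, hu, huD, huinv, hND⟩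

end Facts

namespace Config

/-- The abstract Brauer–Suzuki–Wall theorem. -/
theorem main (C : Config t s K) : ∃ Q D : Subgroup G, Conclusion Q D := by
  obtain ⟨n, q, l, F⟩ : ∃ (n : ℤ) (q l : ℕ), Facts K n q l := by
    have := Fintype.ofFinite ↥K
    rcases eq_or_ne (Nat.card ↥K) 2 with h | h
    · exact C.facts_of_eq_two h
    · exact C.facts_of_four_le (by have := C.two_le_k; have := C.k_even; omega)
  obtain ⟨p, j, hp, hj, hqp⟩ := F.exists_prime_pow C
  have := Fact.mk hp
  rcases F.hn with hn | hn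
  · exact F.conclusion_plus C hqp hj hn
  · exact F.conclusion_minus C hqp hj hn

end Config

end CfsgLib.PGroups.BSW
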