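import Cfsg.Agent.Lib.PGroups.BSW.Sylow

/-!
# The normalizers of the centralizers of the elements of types `q` and `l`
-/

set_option autoImplicit false

namespace CfsgLib.PGroups.BSW

open Subgroup

variable {G : Type*} [Group G] [Fintype G] {t s : G} {K : Subgroup G}

namespace Facts

variable (C : Config t s K) {n : ℤ} {q l : ℕ} (F : Facts K n q l)

include C F

/-- For `q = 2k - 1` the normalizer of `C(z)`, `z` of type `l`, has order `2l`. -/
theorem card_normalizer_cent_l (hn : n = -1)
    (hA : ∀ z : G, OfType l z → IsInverted z ∧ Nat.card ↥(Subgroup.centralizer ({z} : Set G)) = l)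
    (z : G) (hz : OfType l z) :
    Nat.card ↥(Subgroup.normalizer (Subgroup.centralizer ({z} : Set G) : Set G)) = 2 * l := by
  classical
  set A := Subgroup.centralizer ({z} : Set G) with hAdef
  obtain ⟨⟨u, hu, hinv⟩, hcard⟩ := hA z hz
  rw [← hAdef] at hcard
  have hab : ∀ a ∈ A, ∀ b ∈ A, a * b = b * a := fun a ha b hb =>
    commute_of_inverted A (C.cent_of_inverted F.coprimes.2.1 (F.cent_l_dvd C hz) hu hinv) ha hb
  set N := Subgroup.normalizer (A : Set G) with hNdef
  have htype : ∀ x ∈ A, x ≠ 1 → OfType l x := fun x hx hx1 =>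
    ⟨hx1, (Subgroup.orderOf_dvd_natCard _ hx).trans hcard.dvd⟩
  have hTI : ∀ g x : G, x ∈ A → x ≠ 1 → g * x * g⁻¹ ∈ A → g ∈ N := fun g x hx hx1 hg =>
    mem_normalizer_of_conj_mem hcard hab hx hg (F.cent_l_dvd C (htype x hx hx1))
      (F.cent_l_dvd C (htype _ hg fun e => hx1 (conj_eq_one_iff.mp e)))
  -- every element of type `l` is conjugate into `A`
  have hiff : ∀ w : G, ConjInto A w ↔ OfType l w := by
    intro w
    constructor
    · rintro ⟨hw1, g, hg⟩
      have := htype _ hg fun e => hw1 (conj_eq_one_iff.mp e)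
      exact ⟨hw1, CfsgLib.Signalizer.orderOf_conj g w ▸ this.2⟩
    · intro hw
      refine ⟨hw.1, ?_⟩
      obtain ⟨r, hr, hrw⟩ := Nat.exists_prime_and_dvd (fun e => hw.1 (orderOf_eq_one_iff.mp e))
      have := Fact.mk hr
      set w' := w ^ (orderOf w / r) with hw'
      have hwo : orderOf w' = r := orderOf_pow_orderOf_div (orderOf_pos w).ne' hrw
      let R : Sylow r ↥A := default
      obtain ⟨S, hS⟩ := (R.2.map A.subtype).exists_le_sylow
      have hne : ¬ r ∣ 2 * Nat.card ↥K * q := fun h =>
        hr.ne_one (Nat.eq_one_of_dvd_coprimes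
          (F.coprimes.2.1.mul_right F.coprimes.2.2.symm) (hrw.trans hw.2) h)
      have hSR : (R : Subgroup ↥A).map A.subtype = (S : Subgroup G) := by
        refine Subgroup.eq_of_le_of_card_ge hS ?_
        rw [Subgroup.card_map_of_injective A.subtype_injective, S.card_eq_multiplicity,
          R.card_eq_multiplicity, F.hcard, hcard,
          Nat.factorization_mul (fun h => hne (by rw [h]; exact dvd_zero r)) F.l_pos.ne',
          Finsupp.add_apply, Nat.factorization_eq_zero_of_not_dvd hne, zero_add]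
      have hwp : IsPGroup r ↥(Subgroup.zpowers w') :=
        IsPGroup.of_card (n := 1) (by rw [Nat.card_zpowers, hwo, pow_one])
      obtain ⟨Q, hQ⟩ := hwp.exists_le_sylow
      obtain ⟨g, hg⟩ := MulAction.exists_smul_eq G Q S
      have hgw : g * w' * g⁻¹ ∈ A := by
        have h1 : g * w' * g⁻¹ ∈ (S : Subgroup G) := by
          rw [← hg, Sylow.coe_subgroup_smul]
          exact Subgroup.smul_mem_pointwise_smul w' (MulAut.conj g) _ (hQ (Subgroup.mem_zpowers w'))
        rw [← hSR] at h1
        obtain ⟨a, -, ha⟩ := h1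
        exact ha ▸ a.2
      have hne1 : g * w' * g⁻¹ ≠ 1 := fun e => hr.ne_one (by
        rw [← hwo, conj_eq_one_iff.mp e, orderOf_one])
      refine ⟨g, ?_⟩
      rw [← cent_eq_of_card hcard hab hgw (F.cent_l_dvd C (htype _ hgw hne1))]
      exact centralizer_conj_mem (Subgroup.mem_centralizer_singleton_iff.mpr (Commute.self_pow w _).eq)
  -- count them
  have hk := C.two_le_k
  have hl1 : 1 < l := by
    rcases Nat.lt_or_ge 1 l with h | h
    · exact h
    · exfalso
      have := F.l_pos
      have h1 : l = 1 := by omega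
      have := hz.2
      rw [h1, Nat.dvd_one, orderOf_eq_one_iff] at this
      exact hz.1 this
  have hcnt : N.index * (l - 1) = Nat.card {w : G // OfType l w} := by
    rw [Nat.card_eq_fintype_card, Fintype.card_subtype, ← hcard,
      ← card_conjInto hTI (fun g hg x hx => (Subgroup.mem_normalizer_iff.mp hg x).mp hx)]
    refine congrArg Finset.card (Finset.filter_congr fun w _ => ?_)
    rw [hiff w, hcard]
  have hidx : N.index = q * Nat.card ↥K := by
    have hL := F.hL
    rw [← hcnt, Nat.cast_mul, Nat.cast_sub hl1.le, F.hl, F.hq, hn] at hL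
    have hne : (Nat.card ↥K : ℤ) + -1 - ((1 : ℕ) : ℤ) ≠ 0 := by
      have := F.hl; rw [hn] at this; push_cast; omega
    have hz' : (N.index : ℤ) = ((q * Nat.card ↥K : ℕ) : ℤ) := by
      refine mul_right_cancel₀ hne (hL.trans ?_)
      rw [Nat.cast_mul, F.hq, hn]
      push_cast
      ring
    exact_mod_cast hz'
  refine Nat.eq_of_mul_eq_mul_right (m := N.index) (Nat.pos_of_ne_zero Subgroup.index_ne_zero_of_finite) ?_
  rw [Subgroup.card_mul_index, F.hcard, hidx]
  ring

/-- For `q = 2k - 1` an element of odd order normalizing `C(z)`, `z` of type `l`, lies in it. -/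
theorem odd_mem_cent_l (hn : n = -1)
    (hA : ∀ z : G, OfType l z → IsInverted z ∧ Nat.card ↥(Subgroup.centralizer ({z} : Set G)) = l)
    (z : G) (hz : OfType l z) (m : G) (hmo : Odd (orderOf m))
    (hm : m ∈ Subgroup.normalizer (Subgroup.centralizer ({z} : Set G) : Set G)) :
    m ∈ Subgroup.centralizer ({z} : Set G) := by
  set A := Subgroup.centralizer ({z} : Set G) with hAdef
  have hcard : Nat.card ↥A = l := (hA z hz).2
  set N := Subgroup.normalizer (A : Set G) with hNdef
  have hNcard : Nat.card ↥N = 2 * l := F.card_normalizer_cent_l C hn hA z hz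
  have hAN : A ≤ N := Subgroup.le_normalizer
  have hA2 : (A.subgroupOf N).index = 2 := by
    refine Nat.eq_of_mul_eq_mul_left F.l_pos ?_
    rw [mul_comm l 2, ← hNcard, ← (A.subgroupOf N).card_mul_index,
      Nat.card_congr (Subgroup.subgroupOfEquivOfLe hAN).toEquiv, hcard]
  have hsq : m ^ 2 ∈ A := Subgroup.mem_subgroupOf.mp
    (Subgroup.sq_mem_of_index_two hA2 (⟨m, hm⟩ : ↥N))
  obtain ⟨c, hc⟩ := hmo
  have : m = (m ^ 2) ^ (c + 1) := by
    rw [← pow_mul, show 2 * (c + 1) = (2 * c + 1) + 1 by ring, ← hc, pow_succ, pow_orderOf_eq_one,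
      one_mul]
  rw [this]
  exact pow_mem hsq _

variable {p j : ℕ} [Fact p.Prime] (hqp : q = p ^ j) (hj : 0 < j)

include hqp hj

/-- If every centralizer of a `p`-element is an abelian Sylow subgroup, `|G : N(P)| = q + 1`. -/
theorem index_normalizer
    (hC : ∀ P : Sylow p G, ∀ x ∈ (P : Subgroup G), x ≠ 1 →
      Subgroup.centralizer ({x} : Set G) = (P : Subgroup G))
    (P : Sylow p G) : (Subgroup.normalizer ((P : Subgroup G) : Set G)).index = q + 1 := by
  classical
  set N := Subgroup.normalizer ((P : Subgroup G) : Set G) with hNdef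
  have hab : ∀ a ∈ (P : Subgroup G), ∀ b ∈ (P : Subgroup G), a * b = b * a := by
    intro a ha b hb
    rcases eq_or_ne b 1 with rfl | hb1
    · simp
    · rw [← hC P b hb hb1] at ha
      exact Subgroup.mem_centralizer_singleton_iff.mp ha
  have hTI : ∀ g x : G, x ∈ (P : Subgroup G) → x ≠ 1 → g * x * g⁻¹ ∈ (P : Subgroup G) → g ∈ N :=
    fun g x hx hx1 hg => mem_normalizer_of_conj_mem (F.sylow_card C hqp hj P) hab hx hg
      (F.cent_q_dvd C (F.ofType_of_mem_sylow C hqp hj hx hx1))
      (F.cent_q_dvd C (F.ofType_of_mem_sylow C hqp hj hg fun e => hx1 (conj_eq_one_iff.mp e)))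
  have hiff : ∀ w : G, ConjInto (P : Subgroup G) w ↔ OfType q w := by
    intro w
    constructor
    · rintro ⟨hw1, g, hg⟩
      have := F.ofType_of_mem_sylow C hqp hj hg fun e => hw1 (conj_eq_one_iff.mp e)
      exact ⟨hw1, CfsgLib.Signalizer.orderOf_conj g w ▸ this.2⟩
    · intro hw
      obtain ⟨S, hS⟩ := F.exists_sylow_eq_cent C hqp hj hw
      obtain ⟨g, hg⟩ := MulAction.exists_smul_eq G S P
      refine ⟨hw.1, g, ?_⟩
      rw [← hg, Sylow.coe_subgroup_smul]
      exact Subgroup.smul_mem_pointwise_smul w (MulAut.conj g) _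
        (hS ▸ Subgroup.mem_centralizer_singleton_iff.mpr rfl)
  have hcnt : N.index * (q - 1) + 1 = q ^ 2 := by
    rw [← F.hQ, Nat.card_eq_fintype_card, Fintype.card_subtype, ← F.sylow_card C hqp hj P,
      ← card_conjInto hTI (fun g hg x hx => (Subgroup.mem_normalizer_iff.mp hg x).mp hx)]
    refine congrArg (fun f => Finset.card f + 1) (Finset.filter_congr fun w _ => ?_)
    rw [hiff w, F.sylow_card C hqp hj P]
  obtain ⟨c, hc⟩ : ∃ c, q = c + 2 := ⟨q - 2, by
    have := (Fact.out : p.Prime).two_le.trans (Nat.le_self_pow hj.ne' p)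
    omega⟩
  rw [hc, show c + 2 - 1 = c + 1 by omega] at hcnt
  rw [hc]
  exact Nat.eq_of_mul_eq_mul_right (m := c + 1) (by omega) (by nlinarith)

omit hqp hj

end Facts

end CfsgLib.PGroups.BSW
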