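import Cfsg.Agent.Lib.PGroups.BSW.Basic
import Cfsg.Agent.Lib.CharDegree.Counting

/-!
# Pairs of involutions
-/

set_option autoImplicit false

namespace CfsgLib.PGroups.BSW

open Subgroup CfsgLib.Char
open CfsgLib.Signalizer (InvPairs involution_inv orderOf_conj)

variable {G : Type*} [Group G]

namespace Config

variable {t s : G} {K : Subgroup G} (C : Config t s K)

local notation "H" => Subgroup.centralizer (Singleton.singleton t : Set G)

include C

/-- The involutions inverting a non-involution of `K` form the coset `sK`. -/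
theorem inverting_iff {x : G} (hx : x ∈ K) (hx2 : x * x ≠ 1) (g : G) :
    g * x * g⁻¹ = x⁻¹ ↔ g ∈ H ∧ g ∉ K := by
  constructor
  · intro h
    refine ⟨C.ti g x hx (fun e => hx2 (by rw [e, one_mul])) (h ▸ inv_mem hx), fun hK => hx2 ?_⟩
    rw [C.mul_comm' hK hx, mul_inv_cancel_right] at h
    nth_rewrite 1 [h]
    exact inv_mul_cancel x
  · rintro ⟨hH, hK⟩
    rcases C.conj_cases hH with e | e
    · exfalso
      apply hK
      rw [← C.cent_eq hx hx2]
      exact Subgroup.mem_centralizer_singleton_iff.mpr (mul_inv_eq_iff_eq_mul.mp (e x hx))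
    · exact e x hx

variable [Finite G]

theorem card_H_diff : Nat.card {u : G // u ∈ H ∧ u ∉ K} = Nat.card ↥K := by
  refine (Nat.card_congr ?_).symm
  refine (Equiv.mulRight s).subtypeEquiv fun x => ?_
  show x ∈ K ↔ x * s ∈ H ∧ x * s ∉ K
  constructor
  · exact fun h => ⟨mul_mem (C.le_cent h) C.hsH, fun h' => C.hsK ((Subgroup.mul_mem_cancel_left K h).mp h')⟩
  · rintro ⟨h, h'⟩
    rcases C.mem_cases h with hk | hk
    · exact absurd hk h'
    · rwa [mul_assoc, C.s_sq, mul_one] at hk

theorem card_pairs_of_mem {x : G} (hx : x ∈ K) (hx1 : x ≠ 1) :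
    Nat.card (InvPairs x) = Nat.card ↥K := by
  by_cases hx2 : x * x = 1
  · have hxt : x = t := (C.eq_one_or_t hx hx2).resolve_left hx1
    subst hxt
    have h := CfsgLib.Signalizer.card_pairs_involution x C.ht
    have e : Nat.card {u : G // orderOf u = 2 ∧ Commute u x} =
        Nat.card (Option {u : G // u ∈ Subgroup.centralizer (Singleton.singleton x : Set G) ∧ u ∉ K}) := by
      refine (Nat.card_congr (Equiv.ofBijective (fun o => o.elim ⟨x, C.ht, Commute.refl x⟩
        fun u => ⟨u.1, C.orderOf_eq_two u.2.1 u.2.2,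
          Subgroup.mem_centralizer_singleton_iff.mp u.2.1⟩) ⟨?_, ?_⟩)).symm
      · rintro (_ | u) (_ | v) he
        · rfl
        · exact absurd ((congrArg Subtype.val he : x = v.1) ▸ C.htK) v.2.2
        · exact absurd ((congrArg Subtype.val he : u.1 = x).symm ▸ C.htK) u.2.2
        · simp only [Option.elim] at he
          have he' := congrArg Subtype.val he
          exact congrArg some (Subtype.ext he')
      · rintro ⟨u, hu, hux⟩
        by_cases huK : u ∈ K
        · rcases C.eq_one_or_t huK (CfsgLib.Signalizer.involution_sq hu) with rfl | rfl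
          · exact absurd hu (by simp)
          · exact ⟨none, rfl⟩
        · exact ⟨some ⟨u, Subgroup.mem_centralizer_singleton_iff.mpr hux.eq, huK⟩, rfl⟩
    rw [e, Finite.card_option, C.card_H_diff] at h
    change Nat.card (InvPairs x) + 1 = _ at h
    omega
  · have h := CfsgLib.Signalizer.card_pairs_sq_ne_one x (by rwa [sq])
    refine (Eq.trans h ?_ : _ = Nat.card ↥K)
    rw [← C.card_H_diff]
    refine Nat.card_congr (Equiv.subtypeEquivRight fun u => ?_)
    rw [C.inverting_iff hx hx2]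
    exact ⟨fun h => h.2, fun h => ⟨C.orderOf_eq_two h.1 h.2, h⟩⟩

theorem card_pairs_one : Nat.card (InvPairs (1 : G)) = (H).index := by
  rw [CfsgLib.Signalizer.card_pairs_one, C.card_involutions]

omit [Finite G] in
/-- A fibre of `a ↦ a t a⁻¹`. -/
theorem card_conj_fibre {u : G} (hu : orderOf u = 2) :
    Nat.card {a : G // a * t * a⁻¹ = u} = Nat.card ↥(H) := by
  obtain ⟨g, rfl⟩ := isConj_iff.mp (C.hconj t u C.ht hu)
  refine (Nat.card_congr ((Equiv.mulLeft g).subtypeEquiv fun a => ?_)).symm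
  show a ∈ H ↔ g * a * t * (g * a)⁻¹ = g * t * g⁻¹
  rw [Subgroup.mem_centralizer_singleton_iff,
    show g * a * t * (g * a)⁻¹ = g * (a * t * a⁻¹) * g⁻¹ by group, mul_left_inj, mul_right_inj,
    mul_inv_eq_iff_eq_mul]

/-- The structure constant of the class of involutions. -/
theorem card_solutions (w : G) :
    Nat.card {p : G × G // p.1 * t * p.1⁻¹ * (p.2 * t * p.2⁻¹ * w) = 1} =
      (2 * Nat.card ↥K) ^ 2 * Nat.card (InvPairs w) := by
  classical
  have := Fintype.ofFinite (InvPairs w)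
  let e : {p : G × G // p.1 * t * p.1⁻¹ * (p.2 * t * p.2⁻¹ * w) = 1} ≃
      Σ q : InvPairs w, {b : G // b * t * b⁻¹ = q.1.1} × {a : G // a * t * a⁻¹ = q.1.2} :=
    { toFun := fun p => ⟨⟨(p.1.2 * t * p.1.2⁻¹, p.1.1 * t * p.1.1⁻¹),
        by rw [orderOf_conj]; exact C.ht, by rw [orderOf_conj]; exact C.ht, by
          have hb : (p.1.2 * t * p.1.2⁻¹)⁻¹ = p.1.2 * t * p.1.2⁻¹ :=
            involution_inv (by rw [orderOf_conj]; exact C.ht)
          have ha : (p.1.1 * t * p.1.1⁻¹)⁻¹ = p.1.1 * t * p.1.1⁻¹ :=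
            involution_inv (by rw [orderOf_conj]; exact C.ht)
          have h := eq_inv_of_mul_eq_one_right p.2
          rw [ha] at h
          show p.1.2 * t * p.1.2⁻¹ * (p.1.1 * t * p.1.1⁻¹) = w
          rw [← h]
          nth_rewrite 1 [← hb]
          rw [inv_mul_cancel_left]⟩, ⟨p.1.2, rfl⟩, ⟨p.1.1, rfl⟩⟩
      invFun := fun z => ⟨(z.2.2.1, z.2.1.1), by
        obtain ⟨⟨⟨u, v⟩, hu, hv, huv⟩, ⟨b, hb⟩, ⟨a, ha⟩⟩ := z
        simp only at hb ha huv ⊢
        rw [ha, hb, ← huv, ← mul_assoc u, CfsgLib.Signalizer.involution_sq hu, one_mul,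
          CfsgLib.Signalizer.involution_sq hv]⟩
      left_inv := fun p => rfl
      right_inv := fun z => by
        obtain ⟨⟨⟨u, v⟩, hu, hv, huv⟩, ⟨b, hb⟩, ⟨a, ha⟩⟩ := z
        simp only at hb ha
        subst hb ha
        rfl }
  rw [Nat.card_congr e, Nat.card_sigma,
    Finset.sum_congr rfl (fun q _ => by
      rw [Nat.card_prod, C.card_conj_fibre q.2.1, C.card_conj_fibre q.2.2.1, C.card_H]),
    Finset.sum_const, Finset.card_univ, ← Nat.card_eq_fintype_card, smul_eq_mul]
  ring

open scoped Classical in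
/-- Character form of the structure constant. -/
theorem sum_char_eq [Fintype (Cfsg.IrrCharacter G)] (w : G) :
    (Nat.card G : ℂ) * ∑ χ : Cfsg.IrrCharacter G,
        (χ : G → ℂ) t * (χ : G → ℂ) t * (χ : G → ℂ) w / (χ : G → ℂ) 1 =
      4 * (Nat.card ↥K : ℂ) ^ 2 * (Nat.card (InvPairs w) : ℂ) := by
  have := Fintype.ofFinite G
  rw [CfsgLib.CharDegree.sum_three, C.card_solutions]
  push_cast
  ring

end Config

end CfsgLib.PGroups.BSW
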