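import Cfsg.Agent.Lib.PGroups.BSW.Inverted
import Mathlib.GroupTheory.Transfer

/-!
# The Sylow subgroups for the prime of `q`
-/

set_option autoImplicit false

namespace CfsgLib.PGroups.BSW

open Subgroup

variable {G : Type*} [Group G] [Fintype G] {t s : G} {K : Subgroup G}

/-- The centralizers of the elements `≠ 1` of an abelian `A` that is a full centralizer are `A`. -/
theorem cent_eq_of_card {A : Subgroup G} {m : ℕ} (hA : Nat.card ↥A = m)
    (hab : ∀ a ∈ A, ∀ b ∈ A, a * b = b * a) {x : G} (hx : x ∈ A)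
    (hc : Nat.card ↥(Subgroup.centralizer ({x} : Set G)) ∣ m) :
    Subgroup.centralizer ({x} : Set G) = A := by
  refine (Subgroup.eq_of_le_of_card_ge
    (fun a ha => Subgroup.mem_centralizer_singleton_iff.mpr (hab a ha x hx)) ?_).symm
  exact (Nat.le_of_dvd (hA ▸ Nat.card_pos) hc).trans hA.ge

/-- Conjugating `x` inside an abelian full centralizer `A` normalizes `A`. -/
theorem mem_normalizer_of_conj_mem {A : Subgroup G} {m : ℕ} (hA : Nat.card ↥A = m)
    (hab : ∀ a ∈ A, ∀ b ∈ A, a * b = b * a) {x g : G} (hx : x ∈ A) (hg : g * x * g⁻¹ ∈ A)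
    (hc : Nat.card ↥(Subgroup.centralizer ({x} : Set G)) ∣ m)
    (hc' : Nat.card ↥(Subgroup.centralizer ({g * x * g⁻¹} : Set G)) ∣ m) :
    g ∈ Subgroup.normalizer (A : Set G) := by
  rw [Subgroup.mem_normalizer_iff]
  intro a
  have e1 := cent_eq_of_card hA hab hx hc
  have e2 := cent_eq_of_card hA hab hg hc'
  constructor
  · intro ha
    rw [← e1] at ha
    rw [← e2]
    exact centralizer_conj_mem ha
  · intro ha
    rw [← e2] at ha
    have := centralizer_conj_mem (g := g⁻¹) ha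
    rw [show g⁻¹ * (g * x * g⁻¹) * g⁻¹⁻¹ = x by group,
      show g⁻¹ * (g * a * g⁻¹) * g⁻¹⁻¹ = a by group] at this
    rwa [← e1]

namespace Facts

variable (C : Config t s K) {n : ℤ} {q l p j : ℕ} [Fact p.Prime] (F : Facts K n q l) (hqp : q = p ^ j)
  (hj : 0 < j)

include C F hqp hj

theorem sylow_card (S : Sylow p G) : Nat.card ↥(S : Subgroup G) = q := by
  have hp := (Fact.out : p.Prime)
  have hpq : p ∣ q := hqp ▸ dvd_pow_self p hj.ne'
  have hnd : ¬ p ∣ 2 * Nat.card ↥K * l := fun h =>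
    hp.ne_one (Nat.eq_one_of_dvd_coprimes (F.coprimes.1.mul_right F.coprimes.2.2) hpq h)
  rw [S.card_eq_multiplicity, hqp]
  congr 1
  have e : Nat.card G = p ^ j * (2 * Nat.card ↥K * l) := by rw [F.hcard, hqp]; ring
  rw [e, Nat.factorization_mul (pow_ne_zero _ hp.ne_zero) (fun h => hnd (by rw [h]; exact dvd_zero p)),
    Finsupp.add_apply, Nat.factorization_pow_self hp, Nat.factorization_eq_zero_of_not_dvd hnd,
    add_zero]

theorem ofType_of_mem_sylow {S : Sylow p G} {x : G} (hx : x ∈ (S : Subgroup G)) (hx1 : x ≠ 1) :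
    OfType q x :=
  ⟨hx1, (Subgroup.orderOf_dvd_natCard _ hx).trans (F.sylow_card C hqp hj S).dvd⟩

theorem exists_sylow_eq_cent {z : G} (hz : OfType q z) :
    ∃ S : Sylow p G, (S : Subgroup G) = Subgroup.centralizer ({z} : Set G) := by
  obtain ⟨S, hS⟩ := (IsPGroup.of_card (p := p) (n := j)
    ((F.cent_q_card C hz).trans hqp)).exists_le_sylow
  exact ⟨S, (Subgroup.eq_of_le_of_card_ge hS
    (by rw [F.sylow_card C hqp hj S, F.cent_q_card C hz])).symm⟩

/-- An odd-order element normalizing a nontrivial `r`-subgroup prime to `q` centralizes it. -/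
theorem commute_of_normalizes (hA : ∀ z : G, OfType l z →
      IsInverted z ∧ Nat.card ↥(Subgroup.centralizer ({z} : Set G)) = l)
    (hN : ∀ z : G, OfType l z → ∀ m : G, Odd (orderOf m) →
      m ∈ Subgroup.normalizer (Subgroup.centralizer ({z} : Set G) : Set G) →
      m ∈ Subgroup.centralizer ({z} : Set G))
    {r : ℕ} [Fact r.Prime] (hrp : r ≠ p) (hr2 : r ≠ 2) {R : Subgroup G} (hR : IsPGroup r ↥R)
    (hR1 : R ≠ ⊥) {m : G} (hm : Odd (orderOf m))
    (hmR : ∀ x ∈ R, m * x * m⁻¹ ∈ R) : ∀ x ∈ R, m * x = x * m := by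
  have hr := (Fact.out : r.Prime)
  -- a central element of `R`
  have hnt : Nontrivial ↥R := (Subgroup.nontrivial_iff_ne_bot R).mpr hR1
  have := hR.center_nontrivial
  obtain ⟨⟨⟨z, hzR⟩, hzc⟩, hz1'⟩ := exists_ne (1 : ↥(Subgroup.center ↥R))
  have hz1 : z ≠ 1 := fun e => hz1' (Subtype.ext (Subtype.ext e))
  obtain ⟨i, hi⟩ := IsPGroup.iff_orderOf.mp hR ⟨z, hzR⟩
  rw [Subgroup.orderOf_mk] at hi
  have hRz : ∀ x ∈ R, x * z = z * x := fun x hx =>
    congrArg Subtype.val (Subgroup.mem_center_iff.mp hzc ⟨x, hx⟩)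
  have hi0 : i ≠ 0 := fun e => hz1 (orderOf_eq_one_iff.mp (by rw [hi, e, pow_zero]))
  have hrz : r ∣ orderOf z := hi ▸ dvd_pow_self r hi0
  have hnq : ¬ OfType q z := fun h => by
    rw [OfType, hi, hqp] at h
    exact hrp ((Nat.prime_dvd_prime_iff_eq hr (Fact.out : p.Prime)).mp
      (hr.dvd_of_dvd_pow ((dvd_pow_self r hi0).trans h.2)))
  rcases F.htri z hz1 with h | h | h
  · obtain ⟨-, g, hg⟩ := h
    have hg1 : g * z * g⁻¹ ≠ 1 := fun e => hz1 (conj_eq_one_iff.mp e)
    have hx2 : g * z * g⁻¹ * (g * z * g⁻¹) ≠ 1 := fun e => by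
      have h2 := CfsgLib.Signalizer.orderOf_eq_two_of hg1 e
      rw [CfsgLib.Signalizer.orderOf_conj, hi] at h2
      exact hr2 ((Nat.prime_dvd_prime_iff_eq hr Nat.prime_two).mp (h2 ▸ dvd_pow_self r hi0))
    have hsub : ∀ x ∈ R, g * x * g⁻¹ ∈ K := fun x hx => by
      rw [← C.cent_eq hg hx2]
      exact centralizer_conj_mem (Subgroup.mem_centralizer_singleton_iff.mpr (hRz x hx))
    have hmz : g * m * g⁻¹ * (g * z * g⁻¹) * (g * m * g⁻¹)⁻¹ ∈ K := by
      rw [show g * m * g⁻¹ * (g * z * g⁻¹) * (g * m * g⁻¹)⁻¹ = g * (m * z * m⁻¹) * g⁻¹ by group]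
      exact hsub _ (hmR z hzR)
    have hmH := C.ti _ _ hg hg1 hmz
    have hmK : g * m * g⁻¹ ∈ K := by
      by_contra hn
      rw [← CfsgLib.Signalizer.orderOf_conj g m, C.orderOf_eq_two hmH hn] at hm
      exact absurd hm (by decide)
    intro x hx
    have e := C.mul_comm' hmK (hsub x hx)
    calc m * x = g⁻¹ * (g * m * g⁻¹ * (g * x * g⁻¹)) * g := by group
      _ = g⁻¹ * (g * x * g⁻¹ * (g * m * g⁻¹)) * g := by rw [e]
      _ = x * m := by group
  · exact absurd h hnq
  · obtain ⟨⟨u, hu, hinv⟩, hcard⟩ := hA z h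
    set A := Subgroup.centralizer ({z} : Set G) with hAdef
    have hab : ∀ a ∈ A, ∀ b ∈ A, a * b = b * a := fun a ha b hb =>
      commute_of_inverted A (C.cent_of_inverted F.coprimes.2.1 (F.cent_l_dvd C h) hu hinv) ha hb
    have hRA : ∀ x ∈ R, x ∈ A := fun x hx =>
      Subgroup.mem_centralizer_singleton_iff.mpr (hRz x hx)
    have hy : m * z * m⁻¹ ∈ A := hRA _ (hmR z hzR)
    have hty : OfType l (m * z * m⁻¹) :=
      ⟨fun e => hz1 (conj_eq_one_iff.mp e), by rw [CfsgLib.Signalizer.orderOf_conj]; exact h.2⟩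
    have hmN : m ∈ Subgroup.normalizer (A : Set G) :=
      mem_normalizer_of_conj_mem hcard hab (Subgroup.mem_centralizer_singleton_iff.mpr rfl) hy
        hcard.dvd (F.cent_l_dvd C hty)
    intro x hx
    exact hab m (hN z h m hm hmN) x (hRA x hx)

/-- For `q = 2k - 1` two distinct Sylow `p`-subgroups meet trivially. -/
theorem sylow_ti (hno : ∀ z : G, OfType q z → ¬ IsInverted z)
    (hA : ∀ z : G, OfType l z → IsInverted z ∧ Nat.card ↥(Subgroup.centralizer ({z} : Set G)) = l)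
    (hN : ∀ z : G, OfType l z → ∀ m : G, Odd (orderOf m) →
      m ∈ Subgroup.normalizer (Subgroup.centralizer ({z} : Set G) : Set G) →
      m ∈ Subgroup.centralizer ({z} : Set G))
    (P₀ P₀' : Sylow p G) (hne₀ : P₀ ≠ P₀') : (P₀ : Subgroup G) ⊓ (P₀' : Subgroup G) = ⊥ := by
  classical
  by_contra hcon
  have : Fintype (Sylow p G) := Fintype.ofFinite _
  obtain ⟨⟨P, P'⟩, hmem, hmax⟩ := (Finset.univ.filter (fun x : Sylow p G × Sylow p G => x.1 ≠ x.2)).exists_max_image
    (fun x => Nat.card ↥((x.1 : Subgroup G) ⊓ (x.2 : Subgroup G))) ⟨(P₀, P₀'), by simp [hne₀]⟩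
  have hne : P ≠ P' := (Finset.mem_filter.mp hmem).2
  set D := (P : Subgroup G) ⊓ (P' : Subgroup G) with hD
  have hmax' : ∀ Q Q' : Sylow p G, Q ≠ Q' →
      Nat.card ↥((Q : Subgroup G) ⊓ (Q' : Subgroup G)) ≤ Nat.card ↥D := fun Q Q' h =>
    hmax (Q, Q') (by simp [h])
  have hD1 : D ≠ ⊥ := by
    intro h
    refine hcon (Subgroup.eq_bot_of_card_le _ ?_)
    have := hmax' P₀ P₀' hne₀
    rwa [h, Subgroup.card_bot] at this
  set M := Subgroup.normalizer (D : Set G) with hM
  have hDq : ∀ x ∈ D, x ≠ 1 → OfType q x := fun x hx hx1 => F.ofType_of_mem_sylow C hqp hj hx.1 hx1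
  have hodd : ∀ m ∈ M, Odd (orderOf m) := by
    intro m hm
    rw [← Nat.not_even_iff_odd]
    intro hev
    set u := m ^ (orderOf m / 2) with hu
    have hu2 : orderOf u = 2 := orderOf_pow_orderOf_div (orderOf_pos m).ne' (even_iff_two_dvd.mp hev)
    have huD : ∀ a ∈ D, u * a * u⁻¹ ∈ D := fun a ha =>
      (Subgroup.mem_normalizer_iff.mp (pow_mem hm _) a).mp ha
    obtain ⟨⟨x, hx⟩, hx1⟩ := Subgroup.ne_bot_iff_exists_ne_one.mp hD1
    have hfix : ∀ a ∈ D, u * a * u⁻¹ = a → a = 1 := by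
      intro a ha he
      by_contra ha1
      refine (C.conjInto_iff.mp (C.conjInto_of_commute_involution ha1 hu2
        (mul_inv_eq_iff_eq_mul.mp he).symm)) ?_
      exact F.coprimes.1.coprime_dvd_left (hDq a ha ha1).2
    exact hno x (hDq x hx fun e => hx1 (Subtype.ext e))
      ⟨u, hu2, inverts_of_fpf D (CfsgLib.Signalizer.involution_sq hu2) huD hfix x hx⟩
  -- every `p`-element of `M` lies in one `p`-subgroup
  set W : Subgroup ↥M := Subgroup.closure {x : ↥M | ∃ i, orderOf x = p ^ i} with hW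
  have hWp : IsPGroup p ↥W := by
    refine IsPGroup.of_card (n := (Nat.card ↥W).factorization p) ?_
    by_contra hne'
    obtain ⟨r, hr, hrd, hrp⟩ : ∃ r : ℕ, r.Prime ∧ r ∣ Nat.card ↥W ∧ r ≠ p := by
      by_contra h
      push Not at h
      refine hne' ?_
      have h' := Nat.eq_prime_pow_of_unique_prime_dvd (Nat.card_pos (α := ↥W)).ne'
        (fun {r} hr hd => h r hr hd)
      rw [h', Nat.factorization_pow_self (Fact.out : p.Prime)]
    have := Fact.mk hr
    let R : Sylow r ↥M := default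
    have hrM : r ∣ Nat.card ↥M := hrd.trans (Subgroup.card_subgroup_dvd_card W)
    have hr2 : r ≠ 2 := fun e => by
      subst e
      obtain ⟨⟨x, hx⟩, hxo⟩ := exists_prime_orderOf_dvd_card' (G := ↥M) 2 hrM
      rw [Subgroup.orderOf_mk] at hxo
      have := hodd x hx
      rw [hxo] at this
      exact absurd this (by decide)
    set R' := (R : Subgroup ↥M).map M.subtype with hR'
    have hR1 : R' ≠ ⊥ := by
      rw [Ne, Subgroup.map_eq_bot_iff_of_injective _ M.subtype_injective]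
      exact R.ne_bot_of_dvd_card hrM
    have hcent : Subgroup.normalizer ((R : Subgroup ↥M) : Set ↥M) ≤
        Subgroup.centralizer ((R : Subgroup ↥M) : Set ↥M) := by
      intro m hm
      have hcomm := F.commute_of_normalizes C hqp hj hA hN hrp hr2 (R.2.map M.subtype) hR1
        (m := (m : G)) (hodd m m.2) (by
          rintro _ ⟨x, hx, rfl⟩
          exact ⟨m * x * m⁻¹, (Subgroup.mem_normalizer_iff.mp hm x).mp hx, rfl⟩)
      intro x hx
      exact Subtype.ext (hcomm x ⟨x, hx, rfl⟩).symm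
    have hWN : W ≤ (MonoidHom.transferSylow R hcent).ker := by
      rw [hW, Subgroup.closure_le]
      rintro x ⟨i, hi⟩
      rw [SetLike.mem_coe, MonoidHom.mem_ker]
      obtain ⟨a, ha⟩ := IsPGroup.iff_orderOf.mp R.2 (MonoidHom.transferSylow R hcent x)
      have h1 : orderOf (MonoidHom.transferSylow R hcent x) ∣ p ^ i := hi ▸ orderOf_map_dvd _ x
      refine orderOf_eq_one_iff.mp (Nat.eq_one_of_dvd_coprimes
        (((Nat.coprime_primes hr (Fact.out : p.Prime)).mpr hrp).pow a i) ?_ h1)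
      rw [ha]
    exact MonoidHom.not_dvd_card_ker_transferSylow R hcent (hrd.trans (Subgroup.card_dvd_of_le hWN))
  obtain ⟨S, hS⟩ := (hWp.map M.subtype).exists_le_sylow
  -- a `p`-element normalizing `D` is in `S`
  have hpS : ∀ Q : Sylow p G, ∀ y ∈ (Q : Subgroup G), y ∈ M → y ∈ (S : Subgroup G) := fun Q y hy hyM =>
    hS ⟨⟨y, hyM⟩, Subgroup.subset_closure (by
      obtain ⟨i, hi⟩ := IsPGroup.iff_orderOf.mp Q.2 ⟨y, hy⟩
      rw [Subgroup.orderOf_mk] at hi
      exact ⟨i, by rw [Subgroup.orderOf_mk, hi]⟩), rfl⟩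
  have hDS : D ≤ (S : Subgroup G) := fun y hy => hpS P y hy.1 (Subgroup.le_normalizer hy)
  have key : ∀ Q : Sylow p G, D ≤ (Q : Subgroup G) → ¬ (Q : Subgroup G) ≤ D → Q = S := by
    intro Q hDQ hnle
    by_contra hQS
    have : Group.IsNilpotent ↥(Q : Subgroup G) := Q.2.isNilpotent
    have hlt' : D.subgroupOf (Q : Subgroup G) < ⊤ :=
      lt_top_iff_ne_top.mpr fun h => hnle (Subgroup.subgroupOf_eq_top.mp h)
    obtain ⟨⟨y, hyQ⟩, hyN, hyD⟩ := SetLike.exists_of_lt
      (Group.normalizerCondition_of_isNilpotent (G := ↥(Q : Subgroup G)) _ hlt')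
    have hyM : y ∈ M := by
      rw [hM, Subgroup.mem_normalizer_iff]
      intro a
      constructor
      · exact fun ha => Subgroup.mem_subgroupOf.mp
          ((Subgroup.mem_normalizer_iff.mp hyN ⟨a, hDQ ha⟩).mp (Subgroup.mem_subgroupOf.mpr ha))
      · intro ha
        have haQ : a ∈ (Q : Subgroup G) := by
          have := mul_mem (mul_mem (inv_mem hyQ) (hDQ ha)) hyQ
          rwa [show y⁻¹ * (y * a * y⁻¹) * y = a by group] at this
        exact Subgroup.mem_subgroupOf.mp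
          ((Subgroup.mem_normalizer_iff.mp hyN ⟨a, haQ⟩).mpr (Subgroup.mem_subgroupOf.mpr ha))
    have hle : D ≤ (Q : Subgroup G) ⊓ (S : Subgroup G) := le_inf hDQ hDS
    exact hyD (Subgroup.mem_subgroupOf.mpr
      ((Subgroup.eq_of_le_of_card_ge hle (hmax' Q S hQS)).symm ▸
        (⟨hyQ, hpS Q y hyQ hyM⟩ : y ∈ (Q : Subgroup G) ⊓ (S : Subgroup G))))
  refine hne ((key P inf_le_left fun h => hne (Sylow.ext ?_)).trans (key P' inf_le_right fun h => hne (Sylow.ext ?_)).symm)
  · exact (P.is_maximal' P'.2 (h.trans inf_le_right)).symm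
  · exact P'.is_maximal' P.2 (h.trans inf_le_left)

end Facts

end CfsgLib.PGroups.BSW
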